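import Mathlib

/-!
Facts on the alternating group of degree five.
-/

set_option autoImplicit false

namespace Cfsg.Agent.J2Order38.A5

open Equiv

/-- A double transposition. -/
def a0 : alternatingGroup (Fin 5) := ⟨swap 0 1 * swap 2 3, by rw [Equiv.Perm.mem_alternatingGroup]; decide +kernel⟩

/-- A five-cycle partner. -/
def b0 : alternatingGroup (Fin 5) := ⟨swap 1 2 * swap 3 4, by rw [Equiv.Perm.mem_alternatingGroup]; decide +kernel⟩

set_option maxRecDepth 100000 in
theorem exists_conj : ∀ a : alternatingGroup (Fin 5), a * a = 1 → a ≠ 1 →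
    ∃ c : alternatingGroup (Fin 5), c * a0 * c⁻¹ = a := by
  decide +kernel

set_option maxRecDepth 100000 in
theorem cent_a0_comm : ∀ x : alternatingGroup (Fin 5), x * a0 = a0 * x →
    ∀ y : alternatingGroup (Fin 5), y * a0 = a0 * y → x * y = y * x := by
  decide +kernel

set_option maxRecDepth 100000 in
theorem cent_a0_card :
    (Finset.univ.filter fun x : alternatingGroup (Fin 5) => x * a0 = a0 * x).card = 4 := by
  decide +kernel

set_option maxRecDepth 100000 in
theorem cent_a0_sq : ∀ x : alternatingGroup (Fin 5), x * a0 = a0 * x → x * x = 1 := by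
  decide +kernel

theorem a0_sq : a0 * a0 = 1 := by decide +kernel
theorem a0_ne : a0 ≠ 1 := by decide +kernel
theorem b0_conj : b0 * b0 = 1 ∧ b0 ≠ 1 := by decide +kernel
theorem prod_five : (a0 * b0) ^ 5 = 1 ∧ a0 * b0 ≠ 1 := by decide +kernel

theorem card_eq : Nat.card (alternatingGroup (Fin 5)) = 60 := by
  rw [nat_card_alternatingGroup, Nat.card_fin]; rfl

theorem cent_comm {a x y : alternatingGroup (Fin 5)} (ha : a * a = 1) (ha1 : a ≠ 1)
    (hx : Commute x a) (hy : Commute y a) : Commute x y := by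
  obtain ⟨c, rfl⟩ := exists_conj a ha ha1
  have key : ∀ z, Commute z (c * a0 * c⁻¹) → (c⁻¹ * z * c) * a0 = a0 * (c⁻¹ * z * c) := by
    intro z hz
    calc c⁻¹ * z * c * a0 = c⁻¹ * (z * (c * a0 * c⁻¹)) * c := by group
      _ = c⁻¹ * (c * a0 * c⁻¹ * z) * c := by rw [hz.eq]
      _ = a0 * (c⁻¹ * z * c) := by group
  have h := cent_a0_comm _ (key x hx) _ (key y hy)
  show x * y = y * x
  calc x * y = c * ((c⁻¹ * x * c) * (c⁻¹ * y * c)) * c⁻¹ := by group
    _ = c * ((c⁻¹ * y * c) * (c⁻¹ * x * c)) * c⁻¹ := by rw [h]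
    _ = y * x := by group

theorem cent_sq {a x : alternatingGroup (Fin 5)} (ha : a * a = 1) (ha1 : a ≠ 1) (hx : Commute x a) :
    x * x = 1 := by
  obtain ⟨c, rfl⟩ := exists_conj a ha ha1
  have h := cent_a0_sq (c⁻¹ * x * c) (by
    calc c⁻¹ * x * c * a0 = c⁻¹ * (x * (c * a0 * c⁻¹)) * c := by group
      _ = c⁻¹ * (c * a0 * c⁻¹ * x) * c := by rw [hx.eq]
      _ = a0 * (c⁻¹ * x * c) := by group)
  calc x * x = c * ((c⁻¹ * x * c) * (c⁻¹ * x * c)) * c⁻¹ := by group
    _ = 1 := by rw [h, mul_one, mul_inv_cancel]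

theorem cent_card {a : alternatingGroup (Fin 5)} (ha : a * a = 1) (ha1 : a ≠ 1) :
    Nat.card ↥(Subgroup.centralizer ({a} : Set (alternatingGroup (Fin 5)))) = 4 := by
  classical
  obtain ⟨c, rfl⟩ := exists_conj a ha ha1
  rw [← cent_a0_card, Nat.card_eq_fintype_card, Fintype.card_subtype]
  refine Finset.card_bij (fun z _ => c⁻¹ * z * c) ?_ (fun a _ b _ e => by simpa using e) ?_
  · intro z hz
    simp only [Finset.mem_filter, Finset.mem_univ, true_and,
      Subgroup.mem_centralizer_singleton_iff] at hz ⊢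
    calc c⁻¹ * z * c * a0 = c⁻¹ * (z * (c * a0 * c⁻¹)) * c := by group
      _ = c⁻¹ * (c * a0 * c⁻¹ * z) * c := by rw [hz]
      _ = a0 * (c⁻¹ * z * c) := by group
  · intro w hw
    refine ⟨c * w * c⁻¹, ?_, by group⟩
    simp only [Finset.mem_filter, Finset.mem_univ, true_and,
      Subgroup.mem_centralizer_singleton_iff] at hw ⊢
    calc c * w * c⁻¹ * (c * a0 * c⁻¹) = c * (w * a0) * c⁻¹ := by group
      _ = c * (a0 * w) * c⁻¹ := by rw [hw]
      _ = c * a0 * c⁻¹ * (c * w * c⁻¹) := by group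

/-- An involution and one of its conjugates generate a five-cycle as product. -/
theorem exists_partner {a : alternatingGroup (Fin 5)} (ha : a * a = 1) (ha1 : a ≠ 1) :
    ∃ c : alternatingGroup (Fin 5), orderOf (a * (c * a * c⁻¹)) = 5 := by
  haveI : Fact (Nat.Prime 5) := ⟨by norm_num⟩
  obtain ⟨d, rfl⟩ := exists_conj a ha ha1
  obtain ⟨e, he⟩ := exists_conj b0 b0_conj.1 b0_conj.2
  refine ⟨d * e * d⁻¹, ?_⟩
  have h5 : orderOf (a0 * b0) = 5 := orderOf_eq_prime prod_five.1 prod_five.2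
  refine Eq.trans ?_ h5
  rw [← MulEquiv.orderOf_eq (MulAut.conj d) (a0 * b0), MulAut.conj_apply, ← he]
  congr 1
  group

end Cfsg.Agent.J2Order38.A5
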