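import Cfsg.Agent.J2Order38.A5

/-!
Elements of order five in the alternating group of degree five.
-/

set_option autoImplicit false

namespace Cfsg.Agent.J2Order38.A5

open Equiv

set_option maxRecDepth 100000 in
theorem five_cent_card : ∀ u : alternatingGroup (Fin 5), (u ^ 5 = 1 ∧ u ≠ 1) →
    (Finset.univ.filter fun v : alternatingGroup (Fin 5) => v * u = u * v).card = 5 := by
  decide +kernel

set_option maxRecDepth 100000 in
theorem five_norm_card : ∀ u : alternatingGroup (Fin 5), (u ^ 5 = 1 ∧ u ≠ 1) →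
    (Finset.univ.filter fun v : alternatingGroup (Fin 5) =>
      v * u * v⁻¹ = u ∨ v * u * v⁻¹ = u ^ 2 ∨ v * u * v⁻¹ = u ^ 3 ∨ v * u * v⁻¹ = u ^ 4).card = 10 := by
  decide +kernel

set_option maxRecDepth 100000 in
theorem five_inv : ∀ u : alternatingGroup (Fin 5), (u ^ 5 = 1 ∧ u ≠ 1) →
    ∃ v : alternatingGroup (Fin 5), (v * v = 1 ∧ v ≠ 1) ∧ v * u * v⁻¹ = u⁻¹ := by
  decide +kernel

theorem five_of_order {u : alternatingGroup (Fin 5)} (hu : orderOf u = 5) : u ^ 5 = 1 ∧ u ≠ 1 :=
  ⟨orderOf_dvd_iff_pow_eq_one.mp (dvd_of_eq hu), fun e => by rw [e, orderOf_one] at hu; omega⟩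

theorem five_cent {u : alternatingGroup (Fin 5)} (hu : orderOf u = 5) :
    Subgroup.centralizer ({u} : Set (alternatingGroup (Fin 5))) = Subgroup.zpowers u := by
  classical
  symm
  refine Subgroup.eq_of_le_of_card_ge (Subgroup.zpowers_le.mpr
    (Subgroup.mem_centralizer_singleton_iff.mpr rfl)) ?_
  have h5 : Nat.card ↥(Subgroup.centralizer ({u} : Set (alternatingGroup (Fin 5)))) = 5 := by
    refine Eq.trans ?_ (five_cent_card u (five_of_order hu))
    rw [← Fintype.card_subtype, ← Nat.card_eq_fintype_card]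
    exact Nat.card_congr (Equiv.subtypeEquivRight fun v => Subgroup.mem_centralizer_singleton_iff)
  rw [Nat.card_zpowers, hu, h5]

theorem five_norm {u : alternatingGroup (Fin 5)} (hu : orderOf u = 5) :
    Nat.card ↥(Subgroup.normalizer ((Subgroup.zpowers u : Subgroup _) : Set (alternatingGroup (Fin 5)))) ≤ 10 := by
  classical
  refine le_of_le_of_eq ?_ (five_norm_card u (five_of_order hu))
  rw [← Fintype.card_subtype, ← Nat.card_eq_fintype_card]
  refine Nat.card_le_card_of_injective (fun v => (⟨v.1, ?_⟩ : {v // _})) fun a b e => Subtype.ext (congrArg Subtype.val e :)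
  have hm := (Subgroup.mem_normalizer_iff.mp v.2 u).mp (Subgroup.mem_zpowers u)
  rw [mem_zpowers_iff_mem_range_orderOf, Finset.mem_image] at hm
  obtain ⟨k, hk, he⟩ := hm
  rw [hu, Finset.mem_range] at hk
  interval_cases k
  · exfalso
    rw [pow_zero, eq_comm, conj_eq_one_iff] at he
    exact (five_of_order hu).2 he
  · exact Or.inl (by rw [← he, pow_one])
  · exact Or.inr (Or.inl he.symm)
  · exact Or.inr (Or.inr (Or.inl he.symm))
  · exact Or.inr (Or.inr (Or.inr he.symm))

end Cfsg.Agent.J2Order38.A5
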