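import Cfsg.Agent.J2Order38.A5Five

/-!
Elements of order three in the alternating group of degree five.
-/

set_option autoImplicit false

namespace Cfsg.Agent.J2Order38.A5

open Equiv

/-- A three-cycle. -/
def r0 : alternatingGroup (Fin 5) :=
  ⟨swap 0 1 * swap 1 2, by rw [Equiv.Perm.mem_alternatingGroup]; decide +kernel⟩

set_option maxRecDepth 100000 in
theorem three_cent_card : ∀ u : alternatingGroup (Fin 5), (u ^ 3 = 1 ∧ u ≠ 1) →
    (Finset.univ.filter fun v : alternatingGroup (Fin 5) => v * u = u * v).card = 3 := by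
  decide +kernel

set_option maxRecDepth 100000 in
theorem three_inv : ∀ u : alternatingGroup (Fin 5), (u ^ 3 = 1 ∧ u ≠ 1) →
    ∃ v : alternatingGroup (Fin 5), (v * v = 1 ∧ v ≠ 1) ∧ v * u * v⁻¹ = u⁻¹ := by
  decide +kernel

set_option maxRecDepth 100000 in
theorem three_conj : ∀ u : alternatingGroup (Fin 5), (u ^ 3 = 1 ∧ u ≠ 1) →
    ∃ c : alternatingGroup (Fin 5), c * r0 * c⁻¹ = u := by
  decide +kernel

theorem three_of_order {u : alternatingGroup (Fin 5)} (hu : orderOf u = 3) : u ^ 3 = 1 ∧ u ≠ 1 :=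
  ⟨orderOf_dvd_iff_pow_eq_one.mp (dvd_of_eq hu), fun e => by rw [e, orderOf_one] at hu; omega⟩

theorem three_cent {u : alternatingGroup (Fin 5)} (hu : orderOf u = 3) :
    Subgroup.centralizer ({u} : Set (alternatingGroup (Fin 5))) = Subgroup.zpowers u := by
  classical
  symm
  refine Subgroup.eq_of_le_of_card_ge (Subgroup.zpowers_le.mpr
    (Subgroup.mem_centralizer_singleton_iff.mpr rfl)) ?_
  have h3 : Nat.card ↥(Subgroup.centralizer ({u} : Set (alternatingGroup (Fin 5)))) = 3 := by
    refine Eq.trans ?_ (three_cent_card u (three_of_order hu))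
    rw [← Fintype.card_subtype, ← Nat.card_eq_fintype_card]
    exact Nat.card_congr (Equiv.subtypeEquivRight fun v => Subgroup.mem_centralizer_singleton_iff)
  rw [Nat.card_zpowers, hu, h3]

end Cfsg.Agent.J2Order38.A5
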