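import Cfsg.Agent.J2Order38.A5
import Cfsg.Agent.Lib.LargeExtraspecial.Basic
import Cfsg.Agent.S1875

/-!
The centralizer of a 2-central involution in a group of Hall-Janko type: extraspecial `Q` of order 32
with quotient of type alternating of degree five.
-/

set_option autoImplicit false

namespace Cfsg.Agent.J2Order38

open Subgroup

variable {G : Type*} [Group G]

/-- The data: `Q` extraspecial of order 32 in `C(z)`, quotient `A₅`, `z` not weakly closed in `Q`. -/
structure HJ (z : G) (Q : Subgroup G) : Prop where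
  setup : LargeExtraspecial.Setup Q z
  card : Nat.card Q = 32
  quot : ∃ π : Subgroup.centralizer ({z} : Set G) →* alternatingGroup (Fin 5),
    Function.Surjective π ∧ ∀ h, π h = 1 ↔ (h : G) ∈ Q
  nwc : ∃ u ∈ Q, u ≠ z ∧ IsConj z u

theorem isConj_orderOf {a b : G} (h : IsConj a b) : orderOf b = orderOf a := by
  obtain ⟨g, rfl⟩ := isConj_iff.mp h
  rw [← MulAut.conj_apply, MulEquiv.orderOf_eq]

/-- The noncentral involutions of `Q`. -/
def invs (z : G) (Q : Subgroup G) : Set G := {q | q ∈ Q ∧ q * q = 1 ∧ q ≠ 1 ∧ q ≠ z}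

theorem modEq_of_eq {a b n : ℕ} (h : a = b) : a ≡ b [MOD n] := h ▸ Nat.ModEq.refl _

theorem card_fixed_modEq_five {α : Type*} [Finite α] (σ : Equiv.Perm α) (h : σ ^ 5 = 1) :
    Nat.card α ≡ Nat.card {x : α // σ x = x} [MOD 5] := by
  haveI : Fact (Nat.Prime 5) := ⟨by norm_num⟩
  have hp : IsPGroup 5 (Subgroup.zpowers σ) := by
    intro g
    refine ⟨1, Subtype.ext ?_⟩
    obtain ⟨k, hk⟩ := Subgroup.mem_zpowers_iff.mp g.2
    rw [SubgroupClass.coe_pow, ← hk, pow_one, ← zpow_natCast, ← zpow_mul, mul_comm, zpow_mul,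
      zpow_natCast, h, one_zpow]
    rfl
  refine (hp.card_modEq_card_fixedPoints α).trans (modEq_of_eq ?_)
  refine Nat.card_congr (Equiv.subtypeEquivRight fun x => ?_)
  constructor
  · intro hx
    exact hx ⟨σ, Subgroup.mem_zpowers σ⟩
  · intro hx g
    have h1 : (Subgroup.zpowers σ) ≤ MulAction.stabilizer (Equiv.Perm α) x :=
      Subgroup.zpowers_le.mpr hx
    exact h1 g.2

theorem two_to_one_card {α : Type*} [Finite α] (p : α → Prop) (f : α ≃ α)
    (h : ∀ a, p (f a) ↔ ¬ p a) : 2 * Nat.card {a // p a} = Nat.card α := by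
  classical
  have e : {a // p a} ≃ {a // ¬ p a} := f.subtypeEquiv fun a => by rw [h, not_not]
  rw [two_mul]
  nth_rewrite 2 [Nat.card_congr e]
  rw [← Nat.card_sum]
  exact Nat.card_congr (Equiv.sumCompl p)

namespace HJ

variable {z : G} {Q : Subgroup G}

theorem z_mem (h : HJ z Q) : z ∈ Q := h.setup.z_mem
theorem z_sq (h : HJ z Q) : z * z = 1 := h.setup.z_mul_self
theorem z_ne (h : HJ z Q) : z ≠ 1 := h.setup.z_ne_one
theorem z_inv (h : HJ z Q) : z⁻¹ = z := h.setup.z_inv
theorem z_order (h : HJ z Q) : orderOf z = 2 := h.setup.orderOf_z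
theorem z_comm (h : HJ z Q) {x : G} (hx : x ∈ Q) : Commute z x := h.setup.z_commute hx
theorem le_cent (h : HJ z Q) : Q ≤ Subgroup.centralizer ({z} : Set G) := h.setup.le_centralizer

theorem normal_in (h : HJ z Q) {c q : G} (hc : Commute z c) (hq : q ∈ Q) : c * q * c⁻¹ ∈ Q :=
  (Subgroup.mem_normalizer_iff.mp
    (h.setup.centralizer_le (Subgroup.mem_centralizer_singleton_iff.mpr hc.eq.symm)) q).mp hq

theorem conj (h : HJ z Q) (g : G) : HJ (g * z * g⁻¹) (Q.map (MulAut.conj g).toMonoidHom) := by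
  obtain ⟨π, hπs, hπ⟩ := h.quot
  have hmem : ∀ x : Subgroup.centralizer ({g * z * g⁻¹} : Set G),
      g⁻¹ * (x : G) * g ∈ Subgroup.centralizer ({z} : Set G) := by
    intro x
    have hx := Subgroup.mem_centralizer_singleton_iff.mp x.2
    rw [Subgroup.mem_centralizer_singleton_iff]
    calc g⁻¹ * (x : G) * g * z = g⁻¹ * ((x : G) * (g * z * g⁻¹)) * g := by group
      _ = g⁻¹ * (g * z * g⁻¹ * (x : G)) * g := by rw [hx]
      _ = z * (g⁻¹ * (x : G) * g) := by group
  let φ : Subgroup.centralizer ({g * z * g⁻¹} : Set G) →* Subgroup.centralizer ({z} : Set G) :=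
    MonoidHom.mk' (fun x => ⟨g⁻¹ * (x : G) * g, hmem x⟩) (fun a b => Subtype.ext (by simp [mul_assoc]))
  refine ⟨h.setup.conj g, ?_, ⟨π.comp φ, ?_, fun x => ?_⟩, ?_⟩
  · rw [Subgroup.card_map_of_injective (MulAut.conj g).injective, h.card]
  · intro a
    obtain ⟨y, rfl⟩ := hπs a
    have hy := Subgroup.mem_centralizer_singleton_iff.mp y.2
    refine ⟨⟨g * (y : G) * g⁻¹, Subgroup.mem_centralizer_singleton_iff.mpr ?_⟩,
      congrArg π (Subtype.ext (show g⁻¹ * (g * (y : G) * g⁻¹) * g = y by group))⟩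
    calc g * (y : G) * g⁻¹ * (g * z * g⁻¹) = g * ((y : G) * z) * g⁻¹ := by group
      _ = g * (z * y) * g⁻¹ := by rw [hy]
      _ = g * z * g⁻¹ * (g * (y : G) * g⁻¹) := by group
  · rw [MonoidHom.comp_apply, hπ, Subgroup.mem_map_equiv, MulAut.conj_symm_apply]
    rfl
  · obtain ⟨u, hu, hne, hc⟩ := h.nwc
    refine ⟨g * u * g⁻¹, ⟨u, hu, rfl⟩, fun e => hne (by simpa using e), ?_⟩
    have h1 : ∀ a : G, IsConj a (g * a * g⁻¹) := fun a => isConj_iff.mpr ⟨g, rfl⟩
    exact ((h1 z).symm.trans hc).trans (h1 u)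

theorem cases_z (h : HJ z Q) {w : G} (hw : w ∈ Subgroup.zpowers z) : w = 1 ∨ w = z :=
  h.setup.zpowers_cases hw

theorem zpowers_card (h : HJ z Q) : Nat.card ↥(Subgroup.zpowers z) = 2 := by
  rw [Nat.card_zpowers, h.z_order]

theorem comm_cases (h : HJ z Q) {x y : G} (hx : x ∈ Q) (hy : y ∈ Q) :
    x * y * x⁻¹ = y ∨ x * y * x⁻¹ = z * y := h.setup.conj_cases hx hy

theorem sq_cases [Finite G] (h : HJ z Q) {x : G} (hx : x ∈ Q) : x * x = 1 ∨ x * x = z :=
  h.cases_z (h.setup.sq_mem hx)

theorem exists_noncommute (h : HJ z Q) {x : G} (hx : x ∈ Q) (hxz : x ∉ Subgroup.zpowers z) :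
    ∃ y ∈ Q, y * x * y⁻¹ = z * x := by
  by_contra hc
  push Not at hc
  refine hxz (h.setup.mem_zpowers_of_center hx fun y hy => ?_)
  have := (h.comm_cases hy hx).resolve_right (hc y hy)
  exact (mul_inv_eq_iff_eq_mul.mp this).symm

theorem card_H (h : HJ z Q) [Finite G] : Nat.card ↥(Subgroup.centralizer ({z} : Set G)) = 1920 := by
  obtain ⟨π, hπs, hπ⟩ := h.quot
  have hker : π.ker = Q.subgroupOf (Subgroup.centralizer ({z} : Set G)) := by
    ext x; rw [MonoidHom.mem_ker, hπ, Subgroup.mem_subgroupOf]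
  rw [← π.ker.card_mul_index, Subgroup.index_ker, MonoidHom.range_eq_top.mpr hπs, Subgroup.card_top,
    A5.card_eq, hker, Nat.card_congr (Subgroup.subgroupOfEquivOfLe h.le_cent).toEquiv, h.card]

theorem exists_five (h : HJ z Q) [Finite G] : ∃ g : G, Commute z g ∧ orderOf g = 5 := by
  haveI : Fact (Nat.Prime 5) := ⟨by norm_num⟩
  obtain ⟨g, hg⟩ := exists_prime_orderOf_dvd_card' (G := Subgroup.centralizer ({z} : Set G)) 5
    (by rw [h.card_H]; norm_num)
  exact ⟨g, (Subgroup.mem_centralizer_singleton_iff.mp g.2).symm, by rw [Subgroup.orderOf_coe]; exact hg⟩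

theorem two_group (h : HJ z Q) : IsPGroup 2 Q :=
  IsPGroup.of_card (n := 5) (by rw [h.card]; norm_num)

/-- An invariant subset of `Q` meets the fixed points of an element of order five correctly. -/
theorem five_perm (h : HJ z Q) {g : G} (hg : Commute z g) (hg5 : orderOf g = 5) {S : Set G}
    (hSQ : S ⊆ Q) (hS : ∀ c, Commute z c → ∀ x ∈ S, c * x * c⁻¹ ∈ S) [Finite G] :
    Nat.card S ≡ Nat.card {x : G // x ∈ S ∧ Commute g x} [MOD 5] := by
  let σ : Equiv.Perm S :=
    { toFun := fun x => ⟨g * x * g⁻¹, hS g hg x x.2⟩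
      invFun := fun x => ⟨g⁻¹ * x * g, by simpa using hS g⁻¹ hg.inv_right x x.2⟩
      left_inv := fun x => Subtype.ext (by simp [mul_assoc])
      right_inv := fun x => Subtype.ext (by simp [mul_assoc]) }
  have hit : ∀ (k : ℕ) (x : S), (((σ ^ k) x : S) : G) = g ^ k * x * (g ^ k)⁻¹ := by
    intro k
    induction k with
    | zero => intro x; simp
    | succ k ih =>
      intro x
      rw [pow_succ', Equiv.Perm.mul_apply]
      show g * ((σ ^ k) x : S) * g⁻¹ = _
      rw [ih, pow_succ']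
      group
  have h5 : σ ^ 5 = 1 := Equiv.ext fun x => Subtype.ext (by
    rw [hit, ← hg5, pow_orderOf_eq_one]; simp)
  refine (card_fixed_modEq_five σ h5).trans (modEq_of_eq ?_)
  refine Nat.card_congr
    { toFun := fun x => ⟨x.1, x.1.2, mul_inv_eq_iff_eq_mul.mp (congrArg Subtype.val x.2)⟩
      invFun := fun x => ⟨⟨x.1, x.2.1⟩, Subtype.ext (mul_inv_eq_iff_eq_mul.mpr x.2.2.eq)⟩
      left_inv := fun x => rfl
      right_inv := fun x => rfl }

theorem five_fix (h : HJ z Q) [Finite G] {g q : G} (hg : Commute z g) (hg5 : orderOf g = 5)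
    (hq : q ∈ Q) (hc : Commute g q) : q ∈ Subgroup.zpowers z := by
  haveI : Fact (Nat.Prime 2) := ⟨Nat.prime_two⟩
  have hmod := h.five_perm hg hg5 (S := (Q : Set G)) subset_rfl (fun c hc x hx => h.normal_in hc hx)
  set F : Subgroup G := Q ⊓ Subgroup.centralizer ({g} : Set G) with hF
  have hFc : Nat.card {x : G // x ∈ (Q : Set G) ∧ Commute g x} = Nat.card F :=
    Nat.card_congr (Equiv.subtypeEquivRight fun x => by
      rw [hF, Subgroup.mem_inf, Subgroup.mem_centralizer_singleton_iff, SetLike.mem_coe]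
      exact and_congr_right fun _ => ⟨fun hh => hh.eq.symm, fun hh => hh.symm⟩)
  rw [hFc] at hmod
  rw [show Nat.card ((Q : Set G)) = 32 from h.card] at hmod
  have hdvd : Nat.card F ∣ 2 ^ 5 := by
    rw [show (2 : ℕ) ^ 5 = 32 from rfl, ← h.card]
    exact Subgroup.card_dvd_of_le inf_le_left
  obtain ⟨k, hk, hFk⟩ := (Nat.dvd_prime_pow Nat.prime_two).mp hdvd
  rw [hFk] at hmod
  unfold Nat.ModEq at hmod
  have hzF : Subgroup.zpowers z ≤ F := Subgroup.zpowers_le.mpr
    (Subgroup.mem_inf.mpr ⟨h.z_mem, Subgroup.mem_centralizer_singleton_iff.mpr hg.eq⟩)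
  rcases (show k = 1 ∨ k = 5 by rcases (show k = 0 ∨ k = 1 ∨ k = 2 ∨ k = 3 ∨ k = 4 ∨ k = 5 by omega)
      with rfl | rfl | rfl | rfl | rfl | rfl <;> first | omega | (norm_num at hmod)) with rfl | rfl
  · have hqF : q ∈ F := Subgroup.mem_inf.mpr ⟨hq, Subgroup.mem_centralizer_singleton_iff.mpr hc.eq.symm⟩
    rw [← Subgroup.eq_of_le_of_card_ge hzF (by rw [hFk, h.zpowers_card]; rfl)] at hqF
    exact hqF
  · exfalso
    have hFQ : F = Q := Subgroup.eq_of_le_of_card_ge inf_le_left (by rw [hFk, h.card]; rfl)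
    have hgC : g ∈ Subgroup.centralizer (Q : Set G) := Subgroup.mem_centralizer_iff.mpr fun x hx => by
      have : x ∈ F := hFQ ▸ hx
      exact Subgroup.mem_centralizer_singleton_iff.mp (Subgroup.mem_inf.mp this).2
    rw [h.setup.centralizer_eq] at hgC
    rcases h.cases_z hgC with e | e <;> rw [e] at hg5
    · simp at hg5
    · rw [h.z_order] at hg5; omega

theorem five_dvd (h : HJ z Q) [Finite G] {S : Set G} (hSQ : S ⊆ Q)
    (hSz : ∀ x ∈ S, x ∉ Subgroup.zpowers z)
    (hS : ∀ c, Commute z c → ∀ x ∈ S, c * x * c⁻¹ ∈ S) : 5 ∣ Nat.card S := by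
  obtain ⟨g, hg, hg5⟩ := h.exists_five
  have hmod := h.five_perm hg hg5 hSQ hS
  haveI : IsEmpty {x : G // x ∈ S ∧ Commute g x} :=
    ⟨fun x => hSz x x.2.1 (h.five_fix hg hg5 (hSQ x.2.1) x.2.2)⟩
  rw [Nat.card_of_isEmpty (α := {x : G // x ∈ S ∧ Commute g x})] at hmod
  exact Nat.modEq_zero_iff_dvd.mp hmod

theorem five_dvd_invs (h : HJ z Q) [Finite G] : 5 ∣ Nat.card (invs z Q) := by
  refine h.five_dvd (fun x hx => hx.1) (fun x hx hxz => ?_) ?_
  · rcases h.cases_z hxz with e | e
    · exact hx.2.2.1 e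
    · exact hx.2.2.2 e
  · rintro c hc x ⟨h1, h2, h3, h4⟩
    refine ⟨h.normal_in hc h1, ?_, fun e => h3 (conj_eq_one_iff.mp e), fun e => h4 ?_⟩
    · rw [show c * x * c⁻¹ * (c * x * c⁻¹) = c * (x * x) * c⁻¹ by group, h2, mul_one, mul_inv_cancel]
    · calc x = c⁻¹ * (c * x * c⁻¹) * c := by group
        _ = c⁻¹ * z * c := by rw [e]
        _ = z := by rw [mul_assoc, hc.eq]; group

/-- Commutative subgroups of `Q` containing `z` have order at most 8. -/
theorem abelian_le (h : HJ z Q) [Finite G] {A : Subgroup G} (hA : A ≤ Q) (hzA : z ∈ A)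
    (hab : ∀ a ∈ A, ∀ b ∈ A, Commute a b) : Nat.card A ≤ 8 := by
  by_contra hc
  have hdvd : Nat.card A ∣ 2 ^ 5 := by
    rw [show (2 : ℕ) ^ 5 = 32 from rfl, ← h.card]
    exact Subgroup.card_dvd_of_le hA
  obtain ⟨k, hk, hAk⟩ := (Nat.dvd_prime_pow Nat.prime_two).mp hdvd
  have hk4 : 4 ≤ k := by
    by_contra hlt
    have := Nat.pow_le_pow_right (show 0 < 2 by norm_num) (show k ≤ 3 by omega)
    omega
  by_cases hAQ : A = Q
  · obtain ⟨u, hu, hne, hconj⟩ := h.nwc
    have := h.setup.mem_zpowers_of_center hu fun y hy => hab u (hAQ ▸ hu) y (hAQ ▸ hy)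
    rcases h.cases_z this with e | e
    · have := isConj_orderOf hconj
      rw [e, h.z_order, orderOf_one] at this; omega
    · exact hne e
  · obtain ⟨y, hyQ, hyA⟩ := SetLike.exists_of_lt (lt_of_le_of_ne hA hAQ)
    have hA16 : Nat.card A = 16 := by
      rcases (show k = 4 ∨ k = 5 by omega) with rfl | rfl
      · simpa using hAk
      · exact absurd (Subgroup.eq_of_le_of_card_ge hA (by rw [hAk, h.card]; rfl)) hAQ
    let χ : A →* G := MonoidHom.mk' (fun a => y * (a : G) * y⁻¹ * (a : G)⁻¹) fun a b => by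
      push_cast
      have hb : Commute (a : G) (y * (b : G) * y⁻¹ * (b : G)⁻¹) := by
        rcases h.comm_cases hyQ (hA b.2) with e | e <;> rw [e]
        · rw [mul_inv_cancel]; exact Commute.one_right _
        · rw [mul_inv_cancel_right]; exact (h.z_comm (hA a.2)).symm
      calc y * ((a : G) * b) * y⁻¹ * ((a : G) * b)⁻¹
          = (y * a * y⁻¹) * ((y * b * y⁻¹ * (b : G)⁻¹) * (a : G)⁻¹) := by group
        _ = (y * a * y⁻¹) * ((a : G)⁻¹ * (y * b * y⁻¹ * (b : G)⁻¹)) := by rw [hb.inv_left.eq]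
        _ = _ := by group
    have hr : χ.range ≤ Subgroup.zpowers z := by
      rintro _ ⟨a, rfl⟩
      show y * (a : G) * y⁻¹ * (a : G)⁻¹ ∈ _
      rcases h.comm_cases hyQ (hA a.2) with e | e <;> rw [e]
      · rw [mul_inv_cancel]; exact one_mem _
      · rw [mul_inv_cancel_right]; exact Subgroup.mem_zpowers z
    have hkerle : χ.ker.map A.subtype ≤ Subgroup.zpowers z := by
      rintro _ ⟨a, ha, rfl⟩
      refine h.setup.mem_zpowers_of_center (hA a.2) fun w hw => ?_
      have hay : Commute y (a : G) := mul_inv_eq_iff_eq_mul.mp (mul_inv_eq_one.mp (MonoidHom.mem_ker.mp ha))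
      -- `A` and `y` generate `Q`
      have hsup : A ⊔ Subgroup.zpowers y = Q := by
        refine Subgroup.eq_of_le_of_card_ge (sup_le hA (Subgroup.zpowers_le.mpr hyQ)) ?_
        have hlt : A < A ⊔ Subgroup.zpowers y := lt_of_le_of_ne le_sup_left (fun e =>
          hyA (e ▸ Subgroup.mem_sup_right (Subgroup.mem_zpowers y)))
        obtain ⟨t, ht⟩ := Subgroup.card_dvd_of_le (show A ≤ A ⊔ Subgroup.zpowers y from le_sup_left)
        have : 1 < t := by
          by_contra h1
          rcases (show t = 0 ∨ t = 1 by omega) with rfl | rfl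
          · rw [Nat.mul_zero] at ht; exact absurd ht Nat.card_pos.ne'
          · exact hlt.ne (Subgroup.eq_of_le_of_card_ge le_sup_left (by omega))
        rw [h.card, ht, hA16]; omega
      rw [← hsup] at hw
      have hle : A ⊔ Subgroup.zpowers y ≤ Subgroup.centralizer ({(a : G)} : Set G) :=
        sup_le (fun b hb => Subgroup.mem_centralizer_singleton_iff.mpr (hab b hb a a.2).eq)
          (Subgroup.zpowers_le.mpr (Subgroup.mem_centralizer_singleton_iff.mpr hay.eq))
      exact (Subgroup.mem_centralizer_singleton_iff.mp (hle hw)).symm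
    have h1 := χ.ker.card_mul_index
    rw [Subgroup.index_ker] at h1
    have h2 := Nat.le_of_dvd Nat.card_pos (Subgroup.card_dvd_of_le hr)
    have h3 := Nat.le_of_dvd Nat.card_pos (Subgroup.card_dvd_of_le hkerle)
    rw [Subgroup.card_map_of_injective A.subtype_injective] at h3
    rw [h.zpowers_card] at h2 h3
    have := Nat.mul_le_mul h3 h2
    omega

theorem no_elementary_eight (h : HJ z Q) [Finite G] {E : Subgroup G} (hE : E ≤ Q)
    (hsq : ∀ x ∈ E, x * x = 1) (hzE : z ∈ E) : Nat.card E ≠ 8 := by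
  classical
  intro hE8
  letI := Fintype.ofFinite G
  have hinvE : ∀ x ∈ E, x⁻¹ = x := fun x hx => inv_eq_of_mul_eq_one_right (hsq x hx)
  have hab : ∀ a ∈ E, ∀ b ∈ E, Commute a b := fun a ha b hb => by
    show a * b = b * a
    rw [← hinvE _ (mul_mem ha hb), mul_inv_rev, hinvE a ha, hinvE b hb]
  -- every element outside `E` moves some element of `E`
  have hmove : ∀ x ∈ Q, x ∉ E → ∃ e ∈ E, x * e * x⁻¹ = z * e := by
    intro x hx hxE
    by_contra hc
    push Not at hc
    have hcomm : ∀ e ∈ E, Commute x e := fun e he =>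
      mul_inv_eq_iff_eq_mul.mp ((h.comm_cases hx (hE he)).resolve_right (hc e he))
    have hab' : ∀ a ∈ E ⊔ Subgroup.zpowers x, ∀ b ∈ E ⊔ Subgroup.zpowers x, Commute a b := by
      intro a ha b hb
      have hle : E ⊔ Subgroup.zpowers x ≤ Subgroup.centralizer ((E ⊔ Subgroup.zpowers x : Subgroup G) : Set G) := by
        refine sup_le ?_ (Subgroup.zpowers_le.mpr ?_) <;>
          rw [Subgroup.sup_eq_closure, Subgroup.centralizer_closure]
        · intro e he
          rw [Subgroup.mem_centralizer_iff]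
          rintro w (hw | hw)
          · exact (hab w hw e he).eq
          · obtain ⟨k, rfl⟩ := Subgroup.mem_zpowers_iff.mp hw
            exact ((hcomm e he).zpow_left k).eq
        · rw [Subgroup.mem_centralizer_iff]
          rintro w (hw | hw)
          · exact (hcomm w hw).eq.symm
          · obtain ⟨k, rfl⟩ := Subgroup.mem_zpowers_iff.mp hw
            exact ((Commute.refl x).zpow_left k).eq
      exact (Subgroup.mem_centralizer_iff.mp (hle ha) b hb).symm
    have := h.abelian_le (sup_le hE (Subgroup.zpowers_le.mpr hx)) (Subgroup.mem_sup_left hzE) hab'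
    have heq : E = E ⊔ Subgroup.zpowers x := Subgroup.eq_of_le_of_card_ge le_sup_left (by omega)
    exact hxE (heq ▸ Subgroup.mem_sup_right (Subgroup.mem_zpowers x))
  have hfour : ∀ x ∈ Q, x ∉ E → Nat.card {e : E // x * (e : G) * (x * e) = 1} = 4 := by
    intro x hx hxE
    obtain ⟨e1, he1, hmv⟩ := hmove x hx hxE
    have key : 2 * Nat.card {e : E // x * (e : G) * (x * e) = 1} = 8 := by
      rw [← hE8]
      refine two_to_one_card _ (Equiv.mulRight (⟨e1, he1⟩ : E)) (fun a => ?_)
      have hcx : x * e1 = z * e1 * x := mul_inv_eq_iff_eq_mul.mp hmv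
      have hcalc : x * ((a : G) * e1) * (x * ((a : G) * e1)) = z * (x * (a : G) * (x * a)) := by
        have hxe : e1 * x = z * (x * e1) := by
          rw [hcx, ← mul_assoc, ← mul_assoc, h.z_sq, one_mul]
        calc x * ((a : G) * e1) * (x * ((a : G) * e1))
            = x * (a : G) * (e1 * x) * ((a : G) * e1) := by group
          _ = x * (a : G) * z * (x * (e1 * ((a : G) * e1))) := by rw [hxe]; group
          _ = z * (x * (a : G)) * (x * (a : G)) := by
              rw [(h.z_comm (mul_mem hx (hE a.2))).eq,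
                show e1 * ((a : G) * e1) = a by
                  rw [← mul_assoc, (hab e1 he1 a a.2).eq, mul_assoc, hsq e1 he1, mul_one]]
          _ = _ := mul_assoc _ _ _
      show x * ((a : G) * e1) * (x * ((a : G) * e1)) = 1 ↔ ¬ x * (a : G) * (x * a) = 1
      rw [hcalc]
      rcases h.sq_cases (mul_mem hx (hE a.2)) with e | e <;> rw [e]
      · simp [h.z_ne]
      · simp [h.z_sq, h.z_ne]
    omega
  set Out := Finset.univ.filter (fun x : G => x ∈ Q ∧ x ∉ E) with hOut
  set Ef := Finset.univ.filter (fun x : G => x ∈ E) with hEf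
  set I' := Out.filter (fun x => x * x = 1) with hI'
  have hEfc : Ef.card = 8 := by rw [← hE8, Nat.card_eq_fintype_card, Fintype.card_subtype]
  have hOutc : Out.card = 24 := by
    have h1 : Out = (Finset.univ.filter fun x : G => x ∈ Q) \ Ef := by
      ext x; simp [hOut, hEf]
    rw [h1, Finset.card_sdiff_of_subset (fun x hx => by
      simp only [hEf, Finset.mem_filter, Finset.mem_univ, true_and] at hx ⊢
      exact hE hx), hEfc]
    have : (Finset.univ.filter fun x : G => x ∈ Q).card = 32 := by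
      rw [← h.card, Nat.card_eq_fintype_card, Fintype.card_subtype]
    omega
  have hpairs : ((Out ×ˢ Ef).filter fun p => p.1 * p.2 * (p.1 * p.2) = 1).card = (I' ×ˢ Ef).card := by
    refine Finset.card_bij (fun p _ => (p.1 * p.2, p.2)) ?_ ?_ ?_
    · intro p hp
      simp only [hI', hOut, hEf, Finset.mem_filter, Finset.mem_product, Finset.mem_univ, true_and] at hp ⊢
      refine ⟨⟨⟨mul_mem hp.1.1.1 (hE hp.1.2), fun hh => hp.1.1.2 ?_⟩, hp.2⟩, hp.1.2⟩
      simpa using mul_mem hh (inv_mem hp.1.2)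
    · intro p _ p' _ e
      simp only [Prod.mk.injEq] at e
      exact Prod.ext (mul_right_cancel (e.2 ▸ e.1)) e.2
    · intro p hp
      refine ⟨(p.1 * p.2⁻¹, p.2), ?_, by simp⟩
      simp only [hI', hOut, hEf, Finset.mem_filter, Finset.mem_product, Finset.mem_univ, true_and,
        inv_mul_cancel_right] at hp ⊢
      refine ⟨⟨⟨mul_mem hp.1.1.1 (inv_mem (hE hp.2)), fun hh => hp.1.1.2 ?_⟩, hp.2⟩, hp.1.2⟩
      simpa using mul_mem hh hp.2
  have hI'c : I'.card = 12 := by
    rw [Finset.card_product, hEfc, Finset.card_filter, Finset.sum_product,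
      Finset.sum_congr rfl (fun x hx => show _ = 4 from ?_), Finset.sum_const, hOutc, smul_eq_mul] at hpairs
    · omega
    · simp only [hOut, Finset.mem_filter, Finset.mem_univ, true_and] at hx
      rw [← hfour x hx.1 hx.2, ← Finset.card_filter, Nat.card_eq_fintype_card, Fintype.card_subtype]
      refine Finset.card_bij (fun e he => (⟨e, (Finset.mem_filter.mp (Finset.mem_filter.mp he).1).2⟩ : E))
        ?_ (fun a _ b _ e => congrArg Subtype.val e) (fun b hb => ⟨b, ?_, rfl⟩)
      · intro e he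
        simp only [hEf, Finset.mem_filter, Finset.mem_univ, true_and] at he ⊢
        exact he.2
      · simp only [hEf, Finset.mem_filter, Finset.mem_univ, true_and] at hb ⊢
        exact ⟨b.2, hb⟩
  have hinv : Nat.card (invs z Q) = 18 := by
    have h1 : (Finset.univ.filter fun q : G => q ∈ invs z Q) = I' ∪ ((Ef.erase 1).erase z) := by
      ext q
      have hq0 : q ∈ invs z Q ↔ q ∈ Q ∧ q * q = 1 ∧ q ≠ 1 ∧ q ≠ z := Iff.rfl
      simp only [hI', hOut, hEf, Finset.mem_filter, Finset.mem_univ, true_and,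
        Finset.mem_union, Finset.mem_erase, hq0]
      constructor
      · rintro ⟨h1, h2, h3, h4⟩
        by_cases hq : q ∈ E
        · exact Or.inr ⟨h4, h3, hq⟩
        · exact Or.inl ⟨⟨h1, hq⟩, h2⟩
      · rintro (⟨⟨h1, h2⟩, h3⟩ | ⟨h1, h2, h3⟩)
        · exact ⟨h1, h3, fun e => h2 (e ▸ one_mem E), fun e => h2 (e ▸ hzE)⟩
        · exact ⟨hE h3, hsq q h3, h2, h1⟩
    rw [Nat.card_eq_fintype_card, ← Set.toFinset_card,
      show (invs z Q).toFinset = Finset.univ.filter (fun q : G => q ∈ invs z Q) by ext; simp, h1,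
      Finset.card_union_of_disjoint ?_, hI'c, Finset.card_erase_of_mem ?_, Finset.card_erase_of_mem ?_,
      hEfc]
    · simp [hEf]
    · simp [hEf, hzE, h.z_ne]
    · rw [Finset.disjoint_left]
      intro q hq hq'
      simp only [hI', hOut, hEf, Finset.mem_filter, Finset.mem_erase, Finset.mem_univ, true_and] at hq hq'
      exact hq.1.2 hq'.2.2
  have := h.five_dvd_invs
  omega

/-- Commuting involutions of `Q` generate a subgroup of order at most four together with `z`. -/
theorem inv_comm (h : HJ z Q) [Finite G] {u i : G} (hu : u ∈ invs z Q) (hi : i ∈ Q)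
    (hi2 : i * i = 1) (hc : Commute u i) : i = 1 ∨ i = z ∨ i = u ∨ i = z * u := by
  classical
  by_contra hne
  push Not at hne
  obtain ⟨hu1, hu2, hu3, hu4⟩ := hu
  set E := Subgroup.closure ({z, u, i} : Set G) with hE
  have hEQ : E ≤ Q := by
    rw [hE, Subgroup.closure_le]
    rintro x (rfl | rfl | rfl)
    exacts [h.z_mem, hu1, hi]
  have hzu := h.z_comm hu1
  have hzi := h.z_comm hi
  have hEc : ∀ x ∈ E, Commute z x ∧ Commute u x ∧ Commute i x ∧ x * x = 1 := by
    intro x hx
    induction hx using Subgroup.closure_induction with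
    | mem x hx =>
      rcases hx with rfl | rfl | rfl
      · exact ⟨Commute.refl _, hzu.symm, hzi.symm, h.z_sq⟩
      · exact ⟨hzu, Commute.refl _, hc.symm, hu2⟩
      · exact ⟨hzi, hc, Commute.refl _, hi2⟩
    | one => exact ⟨Commute.one_right _, Commute.one_right _, Commute.one_right _, one_mul 1⟩
    | mul x y hx' _ hx hy =>
      refine ⟨hx.1.mul_right hy.1, hx.2.1.mul_right hy.2.1, hx.2.2.1.mul_right hy.2.2.1, ?_⟩
      have hle : E ≤ Subgroup.centralizer ({y} : Set G) := by
        rw [hE, Subgroup.closure_le]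
        rintro w (rfl | rfl | rfl) <;> rw [SetLike.mem_coe, Subgroup.mem_centralizer_singleton_iff]
        exacts [hy.1.eq, hy.2.1.eq, hy.2.2.1.eq]
      have hxy : Commute x y := Subgroup.mem_centralizer_singleton_iff.mp (hle hx')
      rw [hxy.symm.mul_mul_mul_comm, hx.2.2.2, hy.2.2.2, one_mul]
    | inv x _ hx =>
      refine ⟨hx.1.inv_right, hx.2.1.inv_right, hx.2.2.1.inv_right, ?_⟩
      rw [← mul_inv_rev, hx.2.2.2, inv_one]
  have hsub : ({1, z, u, z * u, i} : Finset G).card ≤ Nat.card E := by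
    letI := Fintype.ofFinite G
    rw [Nat.card_eq_fintype_card, Fintype.card_subtype]
    refine Finset.card_le_card fun x hx => ?_
    simp only [Finset.mem_insert, Finset.mem_singleton] at hx
    simp only [Finset.mem_filter, Finset.mem_univ, true_and]
    have hz' : z ∈ E := Subgroup.subset_closure (by simp)
    have hu' : u ∈ E := Subgroup.subset_closure (by simp)
    have hi' : i ∈ E := Subgroup.subset_closure (by simp)
    rcases hx with rfl | rfl | rfl | rfl | rfl
    exacts [one_mem _, hz', hu', mul_mem hz' hu', hi']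
  have hzu1 : z * u ≠ 1 := fun e => hu4 ((eq_inv_of_mul_eq_one_right e).trans h.z_inv)
  have hcard5 : ({1, z, u, z * u, i} : Finset G).card = 5 := by
    rw [Finset.card_insert_of_notMem, Finset.card_insert_of_notMem, Finset.card_insert_of_notMem,
      Finset.card_pair hne.2.2.2.symm]
    · simp [hu3, hne.2.2.1, hne.2.2.1.symm, h.z_ne]
    · simp [Ne.symm hu4, hne.2.1.symm, hu3]
    · simp [h.z_ne.symm, Ne.symm hu3, hzu1.symm, hne.1.symm]
  have h8 := h.abelian_le hEQ (Subgroup.subset_closure (by simp)) (fun a ha b hb => by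
    have hle : E ≤ Subgroup.centralizer ({b} : Set G) := by
      rw [hE, Subgroup.closure_le]
      rintro w (rfl | rfl | rfl) <;> rw [SetLike.mem_coe, Subgroup.mem_centralizer_singleton_iff]
      exacts [(hEc b hb).1.eq, (hEc b hb).2.1.eq, (hEc b hb).2.2.1.eq]
    exact Subgroup.mem_centralizer_singleton_iff.mp (hle ha))
  have hdvd : Nat.card E ∣ 2 ^ 5 := by
    rw [show (2 : ℕ) ^ 5 = 32 from rfl, ← h.card]
    exact Subgroup.card_dvd_of_le hEQ
  obtain ⟨k, -, hk⟩ := (Nat.dvd_prime_pow Nat.prime_two).mp hdvd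
  refine h.no_elementary_eight hEQ (fun x hx => (hEc x hx).2.2.2) (Subgroup.subset_closure (by simp)) ?_
  rcases (show k ≤ 2 ∨ k = 3 ∨ 4 ≤ k by omega) with hk' | rfl | hk'
  · have := Nat.pow_le_pow_right (show 0 < 2 by norm_num) hk'; omega
  · simpa using hk
  · have := Nat.pow_le_pow_right (show 0 < 2 by norm_num) hk'; omega

theorem mem_invs_of_conj (h : HJ z Q) {u : G} (hu : u ∈ Q) (hne : u ≠ z) (hc : IsConj z u) :
    u ∈ invs z Q := by
  have ho : orderOf u = 2 := (isConj_orderOf hc).trans h.z_order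
  exact ⟨hu, by rw [← pow_two, ← ho, pow_orderOf_eq_one], fun e => by simp [e] at ho, hne⟩

theorem card_cent_Q (h : HJ z Q) [Finite G] {u : G} (hu : u ∈ invs z Q) :
    Nat.card ↥(Q ⊓ Subgroup.centralizer ({u} : Set G)) = 16 := by
  obtain ⟨y, hy, hyu⟩ := h.exists_noncommute hu.1 (fun hz => by
    rcases h.cases_z hz with e | e
    · exact hu.2.2.1 e
    · exact hu.2.2.2 e)
  have key : 2 * Nat.card {q : Q // Commute (q : G) u} = 32 := by
    rw [← h.card]
    refine two_to_one_card _ (Equiv.mulRight (⟨y, hy⟩ : Q)) (fun a => ?_)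
    show Commute ((a : G) * y) u ↔ ¬ Commute (a : G) u
    have hcalc : ((a : G) * y) * u * ((a : G) * y)⁻¹ = z * ((a : G) * u * (a : G)⁻¹) := by
      calc (a : G) * y * u * ((a : G) * y)⁻¹ = (a : G) * (y * u * y⁻¹) * (a : G)⁻¹ := by group
        _ = ((a : G) * z) * u * (a : G)⁻¹ := by rw [hyu]; group
        _ = _ := by rw [← (h.z_comm a.2).eq]; group
    have e1 : ∀ x : G, Commute x u ↔ x * u * x⁻¹ = u := fun x => mul_inv_eq_iff_eq_mul.symm
    rw [e1, e1, hcalc]
    rcases h.comm_cases a.2 hu.1 with e | e <;> rw [e]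
    · constructor
      · intro e'; exact absurd (mul_eq_right.mp e') h.z_ne
      · intro e'; exact absurd rfl e'
    · constructor
      · intro _ e'; exact h.z_ne (mul_eq_right.mp e')
      · intro _; rw [← mul_assoc, h.z_sq, one_mul]
  have : Nat.card {q : Q // Commute (q : G) u} = Nat.card ↥(Q ⊓ Subgroup.centralizer ({u} : Set G)) :=
    Nat.card_congr
      { toFun := fun q => ⟨(q : G), Subgroup.mem_inf.mpr ⟨q.1.2, Subgroup.mem_centralizer_singleton_iff.mpr q.2.eq⟩⟩
        invFun := fun q => ⟨⟨q, (Subgroup.mem_inf.mp q.2).1⟩, Subgroup.mem_centralizer_singleton_iff.mp (Subgroup.mem_inf.mp q.2).2⟩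
        left_inv := fun _ => rfl
        right_inv := fun _ => rfl }
  omega

/-- There are exactly ten noncentral involutions in `Q`. -/
theorem card_invs (h : HJ z Q) [Finite G] : Nat.card (invs z Q) = 10 := by
  classical
  letI := Fintype.ofFinite G
  obtain ⟨u, huQ, hune, huc⟩ := h.nwc
  have hu := h.mem_invs_of_conj huQ hune huc
  have h5 := h.five_dvd_invs
  -- even
  have heven : 2 ∣ Nat.card (invs z Q) := by
    have hm : ∀ q ∈ invs z Q, z * q ∈ invs z Q := by
      rintro q ⟨h1, h2, h3, h4⟩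
      refine ⟨mul_mem h.z_mem h1, ?_, fun e => h4 ((eq_inv_of_mul_eq_one_right e).trans h.z_inv),
        fun e => h3 (mul_eq_left.mp e)⟩
      rw [(h.z_comm h1).symm.mul_mul_mul_comm, h.z_sq, h2, one_mul]
    let σ : Equiv.Perm (invs z Q) :=
      { toFun := fun q => ⟨z * q, hm q q.2⟩
        invFun := fun q => ⟨z * q, hm q q.2⟩
        left_inv := fun q => Subtype.ext (by show z * (z * (q : G)) = q; rw [← mul_assoc, h.z_sq, one_mul])
        right_inv := fun q => Subtype.ext (by show z * (z * (q : G)) = q; rw [← mul_assoc, h.z_sq, one_mul]) }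
    rw [Nat.card_eq_fintype_card]
    have hσ : σ ^ (2 ^ 1) = 1 := Equiv.ext fun q => Subtype.ext (by
      show z * (z * (q : G)) = q; rw [← mul_assoc, h.z_sq, one_mul])
    haveI : Fact (Nat.Prime 2) := ⟨Nat.prime_two⟩
    by_contra hnd
    obtain ⟨q, hq⟩ := Equiv.Perm.exists_fixed_point_of_prime hnd hσ
    have hq' : z * (q : G) = q := congrArg Subtype.val hq
    exact h.z_ne (mul_eq_right.mp hq')
  -- at most eighteen
  have hle : Nat.card (invs z Q) ≤ 18 := by
    rw [Nat.card_eq_fintype_card, ← Set.toFinset_card]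
    have hsub : (invs z Q).toFinset ⊆ ({u, z * u} : Finset G) ∪
        ((Finset.univ.filter fun q : G => q ∈ Q) \
          (Finset.univ.filter fun q : G => q ∈ Q ⊓ Subgroup.centralizer ({u} : Set G))) := by
      intro q hq
      rw [Set.mem_toFinset] at hq
      simp only [Finset.mem_union, Finset.mem_sdiff, Finset.mem_filter, Finset.mem_univ, true_and,
        Finset.mem_insert, Finset.mem_singleton]
      by_cases hqu : Commute u q
      · rcases h.inv_comm hu hq.1 hq.2.1 hqu with e | e | e | e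
        · exact absurd e hq.2.2.1
        · exact absurd e hq.2.2.2
        · exact Or.inl (Or.inl e)
        · exact Or.inl (Or.inr e)
      · exact Or.inr ⟨hq.1, fun hh => hqu (Subgroup.mem_centralizer_singleton_iff.mp
          (Subgroup.mem_inf.mp hh).2).symm⟩
    refine (Finset.card_le_card hsub).trans ((Finset.card_union_le _ _).trans ?_)
    rw [Finset.card_sdiff_of_subset (fun q hq => by
      simp only [Finset.mem_filter, Finset.mem_univ, true_and] at hq ⊢
      exact (Subgroup.mem_inf.mp hq).1)]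
    have h1 : (Finset.univ.filter fun q : G => q ∈ Q).card = 32 := by
      rw [← h.card, Nat.card_eq_fintype_card, Fintype.card_subtype]
    have h2 : (Finset.univ.filter fun q : G => q ∈ Q ⊓ Subgroup.centralizer ({u} : Set G)).card = 16 := by
      rw [← h.card_cent_Q hu, Nat.card_eq_fintype_card, Fintype.card_subtype]
    have h3 := Finset.card_le_two (a := u) (b := z * u)
    omega
  have hpos : 0 < Nat.card (invs z Q) := Nat.card_pos_iff.mpr ⟨⟨⟨u, hu⟩⟩, inferInstance⟩
  omega

/-- They form one class of `C(z)`. -/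
theorem invs_conj (h : HJ z Q) [Finite G] {u v : G} (hu : u ∈ invs z Q) (hv : v ∈ invs z Q) :
    ∃ c : G, Commute z c ∧ c * u * c⁻¹ = v := by
  classical
  set O : Set G := {x | ∃ c : G, Commute z c ∧ c * u * c⁻¹ = x} with hO
  have hOi : O ⊆ invs z Q := by
    rintro x ⟨c, hc, rfl⟩
    refine ⟨h.normal_in hc hu.1, ?_, fun e => hu.2.2.1 (conj_eq_one_iff.mp e), fun e => hu.2.2.2 ?_⟩
    · rw [show c * u * c⁻¹ * (c * u * c⁻¹) = c * (u * u) * c⁻¹ by group, hu.2.1, mul_one, mul_inv_cancel]
    · calc u = c⁻¹ * (c * u * c⁻¹) * c := by group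
        _ = z := by rw [e, mul_assoc, hc.eq]; group
  have h5 : 5 ∣ Nat.card O := by
    refine h.five_dvd (fun x hx => (hOi hx).1) (fun x hx hz => ?_) ?_
    · rcases h.cases_z hz with e | e
      · exact (hOi hx).2.2.1 e
      · exact (hOi hx).2.2.2 e
    · rintro c hc _ ⟨c', hc', rfl⟩
      exact ⟨c * c', hc.mul_right hc', by group⟩
  have h2 : 2 ∣ Nat.card O := by
    have hm : ∀ q ∈ O, z * q ∈ O := by
      intro q hq
      obtain ⟨c', hc', rfl⟩ := hq
      obtain ⟨y, hy, hyu⟩ := h.exists_noncommute (hOi ⟨c', hc', rfl⟩).1 (fun hz => by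
        rcases h.cases_z hz with e | e
        · exact (hOi ⟨c', hc', rfl⟩).2.2.1 e
        · exact (hOi ⟨c', hc', rfl⟩).2.2.2 e)
      exact ⟨y * c', (h.z_comm hy).mul_right hc', by rw [← hyu]; group⟩
    let σ : Equiv.Perm O :=
      { toFun := fun q => ⟨z * q, hm q q.2⟩
        invFun := fun q => ⟨z * q, hm q q.2⟩
        left_inv := fun q => Subtype.ext (by show z * (z * (q : G)) = q; rw [← mul_assoc, h.z_sq, one_mul])
        right_inv := fun q => Subtype.ext (by show z * (z * (q : G)) = q; rw [← mul_assoc, h.z_sq, one_mul]) }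
    letI := Fintype.ofFinite G
    rw [Nat.card_eq_fintype_card]
    have hσ : σ ^ (2 ^ 1) = 1 := Equiv.ext fun q => Subtype.ext (by
      show z * (z * (q : G)) = q; rw [← mul_assoc, h.z_sq, one_mul])
    haveI : Fact (Nat.Prime 2) := ⟨Nat.prime_two⟩
    by_contra hnd
    obtain ⟨q, hq⟩ := Equiv.Perm.exists_fixed_point_of_prime hnd hσ
    have hq' : z * (q : G) = q := congrArg Subtype.val hq
    exact h.z_ne (mul_eq_right.mp hq')
  have hpos : 0 < Nat.card O := Nat.card_pos_iff.mpr ⟨⟨⟨u, 1, Commute.one_right z, by simp⟩⟩, inferInstance⟩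
  have hle : Nat.card O ≤ 10 := h.card_invs ▸ Nat.card_mono (Set.toFinite _) hOi
  have heq : O = invs z Q := by
    refine Set.eq_of_subset_of_ncard_le hOi ?_
    rw [← Nat.card_coe_set_eq, ← Nat.card_coe_set_eq, h.card_invs]
    omega
  have : v ∈ O := heq ▸ hv
  exact this

theorem isConj_invs (h : HJ z Q) [Finite G] {v : G} (hv : v ∈ invs z Q) : IsConj z v := by
  obtain ⟨u, huQ, hune, huc⟩ := h.nwc
  obtain ⟨c, -, hc⟩ := h.invs_conj (h.mem_invs_of_conj huQ hune huc) hv
  exact huc.trans (isConj_iff.mpr ⟨c, hc⟩)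

/-- A 2-subgroup of `C(z)` has commutative image: commutators land in `Q`. -/
theorem comm_mem (h : HJ z Q) [Finite G] {S : Subgroup G} (hS : IsPGroup 2 S)
    (hSH : ∀ x ∈ S, Commute z x) {a b : G} (ha : a ∈ S) (hb : b ∈ S) :
    a * b * a⁻¹ * b⁻¹ ∈ Q := by
  obtain ⟨π, -, hπ⟩ := h.quot
  have hSle : S ≤ Subgroup.centralizer ({z} : Set G) := fun x hx =>
    Subgroup.mem_centralizer_singleton_iff.mpr (hSH x hx).eq.symm
  set φ := π.comp (Subgroup.inclusion hSle) with hφ
  have hP : IsPGroup 2 φ.range := hS.of_surjective φ.rangeRestrict φ.rangeRestrict_surjective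
  have hcomm : ∀ x ∈ φ.range, ∀ y ∈ φ.range, x * y = y * x := by
    by_cases htriv : Nontrivial φ.range
    · haveI : Fact (Nat.Prime 2) := ⟨Nat.prime_two⟩
      haveI := hP.center_nontrivial
      obtain ⟨c, hc⟩ := exists_prime_orderOf_dvd_card' (G := Subgroup.center φ.range) 2 (by
        obtain ⟨k, hk⟩ := (hP.to_subgroup (Subgroup.center φ.range)).exists_card_eq
        have h1 := Finite.one_lt_card (α := Subgroup.center φ.range)
        rw [hk] at h1 ⊢
        exact dvd_pow_self 2 (by rintro rfl; simp at h1))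
      intro x hx y hy
      have hcc : ∀ w : φ.range, Commute (w : alternatingGroup (Fin 5)) ((c : φ.range) : alternatingGroup (Fin 5)) :=
        fun w => congrArg Subtype.val (Subgroup.mem_center_iff.mp c.2 w)
      exact (A5.cent_comm (a := ((c : φ.range) : alternatingGroup (Fin 5))) (by
          rw [← pow_two, ← hc, ← Subgroup.orderOf_coe, ← Subgroup.orderOf_coe, pow_orderOf_eq_one])
        (fun e => by
          have : c = 1 := Subtype.ext (Subtype.ext e)
          rw [this] at hc; simp at hc)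
        (hcc ⟨x, hx⟩) (hcc ⟨y, hy⟩)).eq
    · intro x hx y hy
      rw [not_nontrivial_iff_subsingleton] at htriv
      rw [show x = 1 from congrArg Subtype.val (Subsingleton.elim (⟨x, hx⟩ : φ.range) 1), one_mul, mul_one]
  have h1 : φ (⟨a, ha⟩ * ⟨b, hb⟩ * ⟨a, ha⟩⁻¹ * ⟨b, hb⟩⁻¹) = 1 := by
    rw [map_mul, map_mul, map_mul, map_inv, map_inv, hcomm _ ⟨⟨a, ha⟩, rfl⟩ _ ⟨⟨b, hb⟩, rfl⟩]
    group
  exact (hπ _).mp h1

/-- Symmetry: `z` lies in the extraspecial group of each of its conjugates in `Q`. -/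
theorem symm_mem (h : HJ z Q) [Finite G] {u : G} {Qu : Subgroup G} (hu : u ∈ invs z Q)
    (hJ : HJ u Qu) : z ∈ Qu := by
  by_contra hz
  have hS : IsPGroup 2 ↥(Q ⊓ Subgroup.centralizer ({u} : Set G)) := h.two_group.to_le inf_le_left
  have hcomm : ∀ a ∈ Q ⊓ Subgroup.centralizer ({u} : Set G), ∀ b ∈ Q ⊓ Subgroup.centralizer ({u} : Set G),
      Commute a b := by
    intro a ha b hb
    have h1 := hJ.comm_mem hS (fun x hx =>
      (Subgroup.mem_centralizer_singleton_iff.mp (Subgroup.mem_inf.mp hx).2).symm) ha hb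
    have h2 := h.setup.comm_cases (Subgroup.mem_inf.mp ha).1 (Subgroup.mem_inf.mp hb).1
    rcases h2 with e | e
    · exact mul_inv_eq_iff_eq_mul.mp (mul_inv_eq_one.mp e)
    · exact absurd (e ▸ h1) hz
  have := h.abelian_le inf_le_left (Subgroup.mem_inf.mpr ⟨h.z_mem,
    Subgroup.mem_centralizer_singleton_iff.mpr (h.z_comm hu.1).eq⟩) hcomm
  rw [h.card_cent_Q hu] at this
  omega

theorem inter (h : HJ z Q) [Finite G] {u : G} {Qu : Subgroup G} (hu : u ∈ invs z Q)
    (hJ : HJ u Qu) {x : G} (hx : x ∈ Q) (hx' : x ∈ Qu) :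
    x = 1 ∨ x = z ∨ x = u ∨ x = z * u := by
  refine h.inv_comm hu hx ?_ (hJ.z_comm hx')
  rcases h.sq_cases hx with e | e
  · exact e
  · rcases hJ.sq_cases hx' with e' | e'
    · exact e'
    · exact absurd (e.symm.trans e').symm hu.2.2.2

end HJ

end Cfsg.Agent.J2Order38
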