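import Mathlib
import Cfsg.Agent.S1875

/-!
A group with a four-group `W` meeting every conjugacy class of involutions, self-centralizing at
each involution and with all three involutions conjugate, has order 12 or 60.
-/

set_option autoImplicit false

namespace Cfsg.Agent.J2Order38

open Subgroup

variable {M : Type*} [Group M] [Finite M]

/-- Hypotheses: `C(w) = W` for the involutions of the elementary group `W` of order four, every
involution is conjugate to each of them. -/
structure FourHyp (W : Subgroup M) : Prop where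
  card : Nat.card W = 4
  sq : ∀ w ∈ W, w * w = 1
  cent : ∀ w ∈ W, w ≠ 1 → Subgroup.centralizer ({w} : Set M) = W
  one_class : ∀ s : M, orderOf s = 2 → ∀ w ∈ W, w ≠ 1 → IsConj w s

namespace FourHyp

variable {W : Subgroup M}

theorem exists_conj (h : FourHyp W) {s : M} (hs : orderOf s = 2) :
    ∃ g : M, ∃ w ∈ W, w ≠ 1 ∧ g * w * g⁻¹ = s := by
  haveI : Nontrivial W := Finite.one_lt_card_iff_nontrivial.mp (by rw [h.card]; norm_num)
  obtain ⟨w, hw⟩ := exists_ne (1 : W)
  have hw1 : (w : M) ≠ 1 := fun e => hw (Subtype.ext e)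
  obtain ⟨g, hg⟩ := isConj_iff.mp (h.one_class s hs _ w.2 hw1)
  exact ⟨g, w, w.2, hw1, hg⟩

theorem conj_cent (h : FourHyp W) {g w : M} (hw : w ∈ W) (hw1 : w ≠ 1) :
    Subgroup.centralizer ({g * w * g⁻¹} : Set M) = W.map (MulAut.conj g).toMonoidHom := by
  ext x
  rw [Subgroup.mem_centralizer_singleton_iff, Subgroup.mem_map_equiv, MulAut.conj_symm_apply,
    ← h.cent w hw hw1, Subgroup.mem_centralizer_singleton_iff]
  constructor
  · intro hx
    calc g⁻¹ * x * g * w = g⁻¹ * (x * (g * w * g⁻¹)) * g := by group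
      _ = g⁻¹ * (g * w * g⁻¹ * x) * g := by rw [hx]
      _ = w * (g⁻¹ * x * g) := by group
  · intro hx
    calc x * (g * w * g⁻¹) = g * (g⁻¹ * x * g * w) * g⁻¹ := by group
      _ = g * (w * (g⁻¹ * x * g)) * g⁻¹ := by rw [hx]
      _ = g * w * g⁻¹ * x := by group

theorem card_cent_inv (h : FourHyp W) {s : M} (hs : orderOf s = 2) :
    Nat.card ↥(Subgroup.centralizer ({s} : Set M)) = 4 := by
  obtain ⟨g, w, hw, hw1, rfl⟩ := h.exists_conj hs
  rw [h.conj_cent hw hw1, Subgroup.card_map_of_injective (MulAut.conj g).injective, h.card]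

theorem sq_of_commute_inv (h : FourHyp W) {s x : M} (hs : orderOf s = 2) (hx : Commute s x) :
    x * x = 1 := by
  obtain ⟨g, w, hw, hw1, rfl⟩ := h.exists_conj hs
  have hm : x ∈ Subgroup.centralizer ({g * w * g⁻¹} : Set M) :=
    Subgroup.mem_centralizer_singleton_iff.mpr hx.eq.symm
  rw [h.conj_cent hw hw1, Subgroup.mem_map_equiv, MulAut.conj_symm_apply] at hm
  have := h.sq _ hm
  calc x * x = g * ((g⁻¹ * x * g) * (g⁻¹ * x * g)) * g⁻¹ := by group
    _ = 1 := by rw [this, mul_one, mul_inv_cancel]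

/-- Elements of odd order commuting with an involution are trivial. -/
theorem eq_one_of_commute_inv (h : FourHyp W) {s x : M} (hs : orderOf s = 2) (hc : Commute s x)
    (hx : Odd (orderOf x)) : x = 1 := by
  have h2 : orderOf x ∣ 2 :=
    orderOf_dvd_of_pow_eq_one (by rw [pow_two]; exact h.sq_of_commute_inv hs hc)
  exact orderOf_eq_one_iff.mp (Nat.eq_one_of_dvd_coprimes (Nat.coprime_two_left.mpr hx) h2 dvd_rfl)

/-- Inversion is never composed with itself into a centralizing non-trivial involution. -/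
theorem exists_inv_of_even {H : Subgroup M} (h2 : ¬ Odd (Nat.card H)) :
    ∃ i ∈ H, orderOf i = 2 := by
  haveI : Fact (Nat.Prime 2) := ⟨Nat.prime_two⟩
  obtain ⟨i, hi⟩ := exists_prime_orderOf_dvd_card' (G := H) 2
    (Nat.not_odd_iff_even.mp h2).two_dvd
  exact ⟨i, i.2, by rw [Subgroup.orderOf_coe]; exact hi⟩

theorem odd_cent (h : FourHyp W) {x : M} (hx : Odd (orderOf x)) (hx1 : x ≠ 1) :
    Odd (Nat.card ↥(Subgroup.centralizer ({x} : Set M))) := by
  by_contra hodd
  obtain ⟨i, hiX, hi⟩ := exists_inv_of_even hodd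
  exact hx1 (h.eq_one_of_commute_inv hi (Subgroup.mem_centralizer_singleton_iff.mp hiX) hx)

/-- A real element of odd order. -/
def IsReal (x : M) : Prop := x ≠ 1 ∧ Odd (orderOf x) ∧ ∃ s, orderOf s = 2 ∧ s * x * s⁻¹ = x⁻¹

theorem isReal_conj {x : M} (hx : IsReal x) (g : M) : IsReal (g * x * g⁻¹) := by
  obtain ⟨hx1, ho, s, hs, hsx⟩ := hx
  refine ⟨fun e => hx1 (conj_eq_one_iff.mp e), by
    rwa [← MulAut.conj_apply, MulEquiv.orderOf_eq], g * s * g⁻¹, by
    rwa [← MulAut.conj_apply, MulEquiv.orderOf_eq], ?_⟩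
  calc g * s * g⁻¹ * (g * x * g⁻¹) * (g * s * g⁻¹)⁻¹ = g * (s * x * s⁻¹) * g⁻¹ := by group
    _ = g * x⁻¹ * g⁻¹ := by rw [hsx]
    _ = (g * x * g⁻¹)⁻¹ := by group

theorem inverts (h : FourHyp W) {x s : M} (hx : x ≠ 1) (hxo : Odd (orderOf x))
    (hs : orderOf s = 2) (hsx : s * x * s⁻¹ = x⁻¹) :
    ∀ y ∈ Subgroup.centralizer ({x} : Set M), s * y * s⁻¹ = y⁻¹ := by
  have hodd := h.odd_cent hxo hx
  set X := Subgroup.centralizer ({x} : Set M) with hX
  have hnorm : ∀ y ∈ X, s * y * s⁻¹ ∈ X := by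
    intro y hy
    rw [hX, Subgroup.mem_centralizer_singleton_iff] at hy ⊢
    have hxi : s * x⁻¹ * s⁻¹ = x := by
      have := congrArg (·⁻¹) hsx
      simpa [mul_assoc] using this
    have hy' : y * x⁻¹ = x⁻¹ * y := (Commute.inv_right hy).eq
    calc s * y * s⁻¹ * x = s * y * s⁻¹ * (s * x⁻¹ * s⁻¹) := by rw [hxi]
      _ = s * (y * x⁻¹) * s⁻¹ := by group
      _ = s * (x⁻¹ * y) * s⁻¹ := by rw [hy']
      _ = (s * x⁻¹ * s⁻¹) * (s * y * s⁻¹) := by group
      _ = x * (s * y * s⁻¹) := by rw [hxi]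
  let f : X → X := fun y => ⟨(y : M)⁻¹ * (s * y * s⁻¹), mul_mem (inv_mem y.2) (hnorm y y.2)⟩
  have hss : s * s = 1 := by rw [← pow_two, ← hs, pow_orderOf_eq_one]
  have hsi : s⁻¹ = s := inv_eq_of_mul_eq_one_right hss
  have hinj : Function.Injective f := by
    intro a b hab
    have e : (a : M)⁻¹ * (s * a * s⁻¹) = (b : M)⁻¹ * (s * b * s⁻¹) := congrArg Subtype.val hab
    have e' : Commute s ((b : M) * (a : M)⁻¹) := by
      have e1 : (b : M) * (a : M)⁻¹ = (s * b * s⁻¹) * (s * a * s⁻¹)⁻¹ := by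
        calc (b : M) * (a : M)⁻¹ = b * ((a : M)⁻¹ * (s * a * s⁻¹)) * (s * a * s⁻¹)⁻¹ := by group
          _ = b * ((b : M)⁻¹ * (s * b * s⁻¹)) * (s * a * s⁻¹)⁻¹ := by rw [e]
          _ = _ := by group
      show s * _ = _ * s
      conv_rhs => rw [e1]
      group
    have hm : (b : M) * (a : M)⁻¹ ∈ X := mul_mem b.2 (inv_mem a.2)
    have ho : Odd (orderOf ((b : M) * (a : M)⁻¹)) :=
      Odd.of_dvd_nat hodd (Subgroup.orderOf_dvd_natCard X hm)
    exact (Subtype.ext (mul_inv_eq_one.mp (h.eq_one_of_commute_inv hs e' ho))).symm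
  intro y hy
  obtain ⟨a, ha⟩ := (Finite.injective_iff_surjective.mp hinj) ⟨y, hy⟩
  have e : (a : M)⁻¹ * (s * a * s⁻¹) = y := congrArg Subtype.val ha
  rw [← e, hsi]
  calc s * ((a : M)⁻¹ * (s * a * s)) * s = s * (a : M)⁻¹ * (s * a * (s * s)) := by group
    _ = s * (a : M)⁻¹ * s * a := by rw [hss]; group
    _ = ((a : M)⁻¹ * (s⁻¹ * a * s⁻¹))⁻¹ := by group
    _ = _ := by rw [hsi]

theorem cent_eq (h : FourHyp W) {x y : M} (hx : IsReal x)
    (hy : y ∈ Subgroup.centralizer ({x} : Set M)) (hy1 : y ≠ 1) :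
    Subgroup.centralizer ({y} : Set M) = Subgroup.centralizer ({x} : Set M) := by
  obtain ⟨hx1, hxo, s, hs, hsx⟩ := hx
  have hodd := h.odd_cent hxo hx1
  have hinv := h.inverts hx1 hxo hs hsx
  have hyo : Odd (orderOf y) := Odd.of_dvd_nat hodd (Subgroup.orderOf_dvd_natCard _ hy)
  have hinvy := h.inverts hy1 hyo hs (hinv y hy)
  -- a group inverted by a fixed element is commutative
  have hab : ∀ (H : Subgroup M), (∀ a ∈ H, s * a * s⁻¹ = a⁻¹) → ∀ a ∈ H, ∀ b ∈ H, a * b = b * a := by
    intro H hH a ha b hb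
    have h1 := hH (a * b) (mul_mem ha hb)
    rw [show s * (a * b) * s⁻¹ = (s * a * s⁻¹) * (s * b * s⁻¹) by group, hH a ha, hH b hb,
      ← mul_inv_rev, inv_inj] at h1
    exact h1.symm
  have hxy : x ∈ Subgroup.centralizer ({y} : Set M) :=
    Subgroup.mem_centralizer_singleton_iff.mpr (Subgroup.mem_centralizer_singleton_iff.mp hy).symm
  refine le_antisymm (fun c hc => ?_) (fun c hc => ?_)
  · exact Subgroup.mem_centralizer_singleton_iff.mpr (hab _ hinvy c hc x hxy)
  · exact Subgroup.mem_centralizer_singleton_iff.mpr (hab _ hinv c hc y hy)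

theorem card_normalizer (h : FourHyp W) {x : M} (hx : IsReal x) :
    Nat.card ↥(Subgroup.normalizer (Subgroup.centralizer ({x} : Set M) : Set M)) =
      2 * Nat.card ↥(Subgroup.centralizer ({x} : Set M)) := by
  obtain ⟨hx1, hxo, s, hs, hsx⟩ := hx
  have hodd := h.odd_cent hxo hx1
  have hinv := h.inverts hx1 hxo hs hsx
  set X := Subgroup.centralizer ({x} : Set M) with hX
  set N := Subgroup.normalizer (X : Set M) with hN
  have hxX : x ∈ X := Subgroup.mem_centralizer_singleton_iff.mpr rfl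
  have hss : s * s = 1 := by rw [← pow_two, ← hs, pow_orderOf_eq_one]
  have hsN : s ∈ N := by
    rw [hN, Subgroup.mem_normalizer_iff]
    intro n
    refine ⟨fun hn => by rw [hinv n hn]; exact inv_mem hn, fun hn => ?_⟩
    have h1 := hinv _ hn
    have : n = (s * n * s⁻¹)⁻¹ := by
      rw [← h1]
      have hsi : s⁻¹ = s := inv_eq_of_mul_eq_one_right hss
      rw [hsi]
      calc n = (s * s) * n * (s * s) := by rw [hss]; group
        _ = _ := by group
    rw [this]; exact inv_mem hn
  have hsX : s ∉ X := fun hsX => by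
    have := Odd.of_dvd_nat hodd (Subgroup.orderOf_dvd_natCard X hsX)
    rw [hs] at this; exact absurd this (by decide)
  have hidx : X.subgroupOf N ≠ ⊤ := fun e =>
    hsX (Subgroup.mem_subgroupOf.mp (e ▸ Subgroup.mem_top (⟨s, hsN⟩ : N)))
  have hle : X ≤ N := Subgroup.le_normalizer
  -- every element of `N` lies in `X` or in `X s`
  have hcov : ∀ g ∈ N, g ∈ X ∨ s * g ∈ X := by
    intro g hg
    have hg' := Subgroup.mem_normalizer_iff.mp hg
    have hinv' : ∀ y ∈ X, (g * s * g⁻¹) * y * (g * s * g⁻¹)⁻¹ = y⁻¹ := by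
      intro y hy
      have h1 := hinv (g⁻¹ * y * g) ((hg' _).mpr (by
        rwa [show g * (g⁻¹ * y * g) * g⁻¹ = y by group]))
      calc (g * s * g⁻¹) * y * (g * s * g⁻¹)⁻¹ = g * (s * (g⁻¹ * y * g) * s⁻¹) * g⁻¹ := by group
        _ = g * (g⁻¹ * y * g)⁻¹ * g⁻¹ := by rw [h1]
        _ = y⁻¹ := by group
    have hc : s⁻¹ * (g * s * g⁻¹) ∈ X := by
      rw [hX, Subgroup.mem_centralizer_singleton_iff]
      have h1 := hinv' x hxX
      have hsx' : s⁻¹ * x⁻¹ * s = x := by
        rw [← hsx]; group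
      calc s⁻¹ * (g * s * g⁻¹) * x
          = s⁻¹ * ((g * s * g⁻¹) * x * (g * s * g⁻¹)⁻¹) * (g * s * g⁻¹) := by group
        _ = s⁻¹ * x⁻¹ * (g * s * g⁻¹) := by rw [h1]
        _ = (s⁻¹ * x⁻¹ * s) * (s⁻¹ * (g * s * g⁻¹)) := by group
        _ = x * (s⁻¹ * (g * s * g⁻¹)) := by rw [hsx']
    -- take a square root in the odd group `X`
    set c : X := ⟨_, hc⟩ with hcdef
    obtain ⟨r, hr⟩ : ∃ r : X, r ^ 2 = c :=
      (powCoprime (G := X) (Nat.coprime_two_right.mpr hodd)).surjective c
    have hr' : (r : M) * r = s⁻¹ * (g * s * g⁻¹) := by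
      have := congrArg (fun w : X => (w : M)) hr
      simpa [pow_two] using this
    have hcs : g * s * g⁻¹ = (r : M)⁻¹ * s * r := by
      have e2 : g * s * g⁻¹ = s * ((r : M) * r) := by rw [hr']; group
      rw [e2, ← mul_assoc]
      congr 1
      rw [← hinv r r.2]
      group
    -- `r g` centralizes `s` and normalizes `X`
    have hcomm : Commute s ((r : M) * g) := by
      show s * ((r : M) * g) = (r : M) * g * s
      calc s * ((r : M) * g) = (r : M) * ((r : M)⁻¹ * s * r) * g := by group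
        _ = (r : M) * (g * s * g⁻¹) * g := by rw [hcs]
        _ = (r : M) * g * s := by group
    have hrg : (r : M) * g ∈ N := mul_mem (hle r.2) hg
    have h2 := h.sq_of_commute_inv hs hcomm
    -- an involution commuting with `s` in `N` inverts or centralizes `X`
    by_cases hsrg : (r : M) * g = 1 ∨ (r : M) * g = s
    · rcases hsrg with e | e
      · left
        rw [show g = (r : M)⁻¹ from eq_inv_of_mul_eq_one_right e]
        exact inv_mem r.2
      · right
        rw [show g = (r : M)⁻¹ * s by rw [← e]; group,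
          show s * ((r : M)⁻¹ * s) = s * (r : M)⁻¹ * s by group]
        have := hinv _ (inv_mem r.2)
        rw [inv_eq_of_mul_eq_one_right hss] at this
        rw [this]; simp
    · exfalso
      rw [not_or] at hsrg
      set w := (r : M) * g with hw
      have hwo : orderOf w = 2 := orderOf_eq_prime (by rw [pow_two, h2]) hsrg.1
      have hsw : orderOf (s * w) = 2 := orderOf_eq_prime (by
        rw [pow_two, hcomm.symm.mul_mul_mul_comm, hss, h2, one_mul]) (fun e => hsrg.2
          ((eq_inv_of_mul_eq_one_right e).trans (inv_eq_of_mul_eq_one_right hss)))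
      -- the conjugation action of `w` on `X`
      let f : X → X := fun y => ⟨(y : M)⁻¹ * (w * y * w⁻¹),
        mul_mem (inv_mem y.2) ((Subgroup.mem_normalizer_iff.mp hrg y).mp y.2)⟩
      have hfix : ∀ (i : M), orderOf i = 2 → ∀ y ∈ X, i * y * i⁻¹ = y → y = 1 := by
        intro i hi y hy hiy
        exact h.eq_one_of_commute_inv hi (show i * y = y * i by
          calc i * y = i * y * i⁻¹ * i := by group
            _ = y * i := by rw [hiy]) (Odd.of_dvd_nat hodd (Subgroup.orderOf_dvd_natCard X hy))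
      have hwinv : ∀ y ∈ X, w * y * w⁻¹ = y⁻¹ := by
        have hinj : Function.Injective f := by
          intro a b hab
          have e : (a : M)⁻¹ * (w * a * w⁻¹) = (b : M)⁻¹ * (w * b * w⁻¹) := congrArg Subtype.val hab
          have e1 : (b : M) * (a : M)⁻¹ = w * ((b : M) * (a : M)⁻¹) * w⁻¹ := by
            calc (b : M) * (a : M)⁻¹ = b * ((a : M)⁻¹ * (w * a * w⁻¹)) * (w * a * w⁻¹)⁻¹ := by group
              _ = b * ((b : M)⁻¹ * (w * b * w⁻¹)) * (w * a * w⁻¹)⁻¹ := by rw [e]
              _ = _ := by group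
          exact (Subtype.ext (mul_inv_eq_one.mp (hfix w hwo _ (mul_mem b.2 (inv_mem a.2)) e1.symm))).symm
        intro y hy
        obtain ⟨a, ha⟩ := (Finite.injective_iff_surjective.mp hinj) ⟨y, hy⟩
        have e : (a : M)⁻¹ * (w * a * w⁻¹) = y := congrArg Subtype.val ha
        rw [← e, inv_eq_of_mul_eq_one_right h2]
        calc w * ((a : M)⁻¹ * (w * a * w)) * w = w * (a : M)⁻¹ * (w * a * (w * w)) := by group
          _ = w * (a : M)⁻¹ * w * a := by rw [h2]; group
          _ = ((a : M)⁻¹ * (w⁻¹ * a * w⁻¹))⁻¹ := by group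
          _ = _ := by rw [inv_eq_of_mul_eq_one_right h2]
      refine hx1 (hfix (s * w) hsw x hxX ?_)
      calc s * w * x * (s * w)⁻¹ = s * (w * x * w⁻¹) * s⁻¹ := by group
        _ = s * x⁻¹ * s⁻¹ := by rw [hwinv x hxX]
        _ = (s * x * s⁻¹)⁻¹ := by group
        _ = x := by rw [hsx, inv_inv]
  have hindex : (X.subgroupOf N).index = 2 := by
    rw [Subgroup.index_eq_two_iff]
    refine ⟨⟨s, hsN⟩, fun b => ?_⟩
    have hns : (s ∉ X) := hsX
    rcases hcov b b.2 with hb | hb
    · refine Or.inr ⟨hb, fun hc => hns ?_⟩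
      have := mul_mem (inv_mem hb) hc
      simpa using this
    · -- `b s ∈ X` as `X` is normal in `N`
      refine Or.inl ⟨?_, fun hc => hns ?_⟩
      · show (b : M) * s ∈ X
        have := (Subgroup.mem_normalizer_iff.mp (inv_mem hsN) (s * (b : M))).mp hb
        simpa [mul_assoc] using this
      · have := mul_mem hb (inv_mem (show (b : M) ∈ X from hc))
        simpa using this
  rw [← (X.subgroupOf N).card_mul_index, hindex, mul_comm,
    Nat.card_congr (Subgroup.subgroupOfEquivOfLe hle).toEquiv]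

open scoped Classical in
theorem card_real_class (X : Subgroup M) :
    Nat.card {Y : Subgroup M // ∃ g : M, X.map (MulAut.conj g).toMonoidHom = Y} =
      (Subgroup.normalizer (X : Set M)).index := by
  set N := Subgroup.normalizer (X : Set M) with hN
  have key : ∀ a b : M, X.map (MulAut.conj a).toMonoidHom = X.map (MulAut.conj b).toMonoidHom ↔
      a⁻¹ * b ∈ N := by
    intro a b
    rw [hN, Subgroup.mem_normalizer_iff, SetLike.ext_iff]
    simp only [Subgroup.mem_map_equiv, MulAut.conj_symm_apply]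
    constructor
    · intro h n
      have := h (b * n * b⁻¹)
      rw [show b⁻¹ * (b * n * b⁻¹) * b = n by group,
        show a⁻¹ * (b * n * b⁻¹) * a = (a⁻¹ * b) * n * (a⁻¹ * b)⁻¹ by group] at this
      exact this.symm
    · intro h y
      have := h (b⁻¹ * y * b)
      rw [show (a⁻¹ * b) * (b⁻¹ * y * b) * (a⁻¹ * b)⁻¹ = a⁻¹ * y * a by group] at this
      exact this.symm
  let f : M ⧸ N → {Y : Subgroup M // ∃ g : M, X.map (MulAut.conj g).toMonoidHom = Y} :=
    Quotient.lift (fun g => ⟨X.map (MulAut.conj g).toMonoidHom, g, rfl⟩) (fun a b hab =>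
      Subtype.ext ((key a b).mpr (QuotientGroup.leftRel_apply.mp hab)))
  have hf : Function.Bijective f := by
    constructor
    · intro a b hab
      induction a using QuotientGroup.induction_on with
      | _ a =>
        induction b using QuotientGroup.induction_on with
        | _ b => exact QuotientGroup.eq.mpr ((key a b).mp (congrArg Subtype.val hab))
    · rintro ⟨Y, g, rfl⟩
      exact ⟨QuotientGroup.mk g, rfl⟩
  exact (Nat.card_congr (Equiv.ofBijective f hf)).symm

theorem map_cent (g x : M) :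
    (Subgroup.centralizer ({x} : Set M)).map (MulAut.conj g).toMonoidHom =
      Subgroup.centralizer ({g * x * g⁻¹} : Set M) := by
  ext y
  rw [Subgroup.mem_map_equiv, MulAut.conj_symm_apply, Subgroup.mem_centralizer_singleton_iff,
    Subgroup.mem_centralizer_singleton_iff]
  constructor
  · intro h
    calc y * (g * x * g⁻¹) = g * (g⁻¹ * y * g * x) * g⁻¹ := by group
      _ = g * (x * (g⁻¹ * y * g)) * g⁻¹ := by rw [h]
      _ = g * x * g⁻¹ * y := by group
  · intro h
    calc g⁻¹ * y * g * x = g⁻¹ * (y * (g * x * g⁻¹)) * g := by group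
      _ = g⁻¹ * (g * x * g⁻¹ * y) * g := by rw [h]
      _ = x * (g⁻¹ * y * g) := by group

/-- The order is 12 or 60. -/
theorem card_eq (h : FourHyp W) : Nat.card M = 12 ∨ Nat.card M = 60 := by
  classical
  letI := Fintype.ofFinite M
  haveI : Fact (Nat.Prime 2) := ⟨Nat.prime_two⟩
  haveI : Nontrivial W := Finite.one_lt_card_iff_nontrivial.mp (by rw [h.card]; norm_num)
  obtain ⟨w0', hw0'⟩ := exists_ne (1 : W)
  obtain ⟨w0, hw0⟩ := w0'
  have hw1 : w0 ≠ 1 := fun e => hw0' (Subtype.ext e)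
  have hw2 : orderOf w0 = 2 := orderOf_eq_prime (by rw [pow_two]; exact h.sq w0 hw0) hw1
  set J := Finset.univ.filter (fun s : M => orderOf s = 2) with hJ
  set n := J.card with hn
  have hordconj : ∀ {a b : M}, IsConj a b → orderOf a = 2 → orderOf b = 2 := by
    intro a b hab ha
    obtain ⟨g, rfl⟩ := isConj_iff.mp hab
    rwa [← MulAut.conj_apply, MulEquiv.orderOf_eq]
  have hM : 4 * n = Nat.card M := by
    rw [← S1875.card_class w0, h.cent w0 hw0 hw1, h.card, mul_comm]
    congr 1
    rw [Nat.card_eq_fintype_card, Fintype.card_subtype, hn, hJ]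
    congr 1
    ext s
    simp only [Finset.mem_filter, Finset.mem_univ, true_and]
    exact ⟨fun hs => h.one_class s hs w0 hw0 hw1, fun hs => hordconj hs hw2⟩
  -- commuting involutions
  have hcom3 : ∀ s ∈ J, (J.filter fun t => Commute s t).card = 3 := by
    intro s hs
    rw [hJ, Finset.mem_filter] at hs
    have hc := h.card_cent_inv hs.2
    have : (J.filter fun t => Commute s t) =
        (Finset.univ.filter fun t : M => t ∈ Subgroup.centralizer ({s} : Set M)).erase 1 := by
      ext t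
      simp only [hJ, Finset.mem_filter, Finset.mem_univ, true_and, Finset.mem_erase,
        Subgroup.mem_centralizer_singleton_iff]
      refine ⟨fun ⟨ht, hst⟩ => ⟨fun e => by simp [e] at ht, hst.eq.symm⟩, fun ⟨ht1, hts⟩ => ⟨?_, hts.symm⟩⟩
      exact orderOf_eq_prime (by rw [pow_two]; exact h.sq_of_commute_inv hs.2 hts.symm) ht1
    rw [this, Finset.card_erase_of_mem (by simp)]
    rw [Nat.card_eq_fintype_card, Fintype.card_subtype] at hc
    omega
  set P := (J ×ˢ J).filter fun p => ¬ Commute p.1 p.2 with hP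
  have hPcard : P.card + 3 * n = n * n := by
    have h1 : ((J ×ˢ J).filter fun p => Commute p.1 p.2).card = 3 * n := by
      rw [Finset.card_filter, Finset.sum_product, Finset.sum_congr rfl (fun s hs => ?_),
        Finset.sum_const, smul_eq_mul, mul_comm]
      rw [← Finset.card_filter]; exact hcom3 s hs
    have h2 := Finset.card_filter_add_card_filter_not (s := J ×ˢ J)
      (fun p => Commute p.1 p.2)
    rw [h1, Finset.card_product, ← hn] at h2
    rw [hP, add_comm]; exact h2
  set R := Finset.univ.filter (fun x : M => IsReal x) with hR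
  set C : M → Subgroup M := fun x => Subgroup.centralizer ({x} : Set M) with hC
  set 𝒳 := R.image C with h𝒳
  -- the product of two non-commuting involutions is real of odd order
  have hprod : ∀ s t : M, orderOf s = 2 → orderOf t = 2 → ¬ Commute s t →
      IsReal (s * t) ∧ s * (s * t) * s⁻¹ = (s * t)⁻¹ := by
    intro s t hs ht hst
    have hss : s * s = 1 := by rw [← pow_two, ← hs, pow_orderOf_eq_one]
    have htt : t * t = 1 := by rw [← pow_two, ← ht, pow_orderOf_eq_one]
    have hinv : s * (s * t) * s⁻¹ = (s * t)⁻¹ := by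
      rw [mul_inv_rev, inv_eq_of_mul_eq_one_right hss, inv_eq_of_mul_eq_one_right htt,
        ← mul_assoc, hss, one_mul]
    refine ⟨⟨fun e => hst ?_, ?_, s, hs, hinv⟩, hinv⟩
    · rw [eq_inv_of_mul_eq_one_right e]; exact (Commute.refl s).inv_right
    · by_contra hodd
      obtain ⟨i, hi, hi2⟩ := exists_inv_of_even (H := Subgroup.zpowers (s * t))
        (by rwa [Nat.card_zpowers])
      obtain ⟨k, rfl⟩ := Subgroup.mem_zpowers_iff.mp hi
      have hii : ((s * t) ^ k) * ((s * t) ^ k) = 1 := by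
        rw [← pow_two, ← hi2, pow_orderOf_eq_one]
      have hcs : Commute s ((s * t) ^ k) := by
        have e1 : s * (s * t) ^ k * s⁻¹ = ((s * t) ^ k)⁻¹ := by
          rw [← conj_zpow, hinv, inv_zpow]
        rw [inv_eq_of_mul_eq_one_right hii] at e1
        exact mul_inv_eq_iff_eq_mul.mp e1
      -- hence `s` and `t` lie in one four-group
      obtain ⟨g, w, hw, hw1', hgw⟩ := h.exists_conj hi2
      have hct : Commute t ((s * t) ^ k) := by
        have := hcs.mul_left ((Commute.refl (s * t)).zpow_right k)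
        rwa [← mul_assoc, hss, one_mul] at this
      have hmem : ∀ a, Commute a ((s * t) ^ k) → g⁻¹ * a * g ∈ W := by
        intro a ha
        have : a ∈ Subgroup.centralizer ({g * w * g⁻¹} : Set M) := by
          rw [hgw]; exact Subgroup.mem_centralizer_singleton_iff.mpr ha.eq
        rwa [h.conj_cent hw hw1', Subgroup.mem_map_equiv, MulAut.conj_symm_apply] at this
      apply hst
      have ha := hmem s hcs
      have hb := hmem t hct
      have hab : (g⁻¹ * s * g) * (g⁻¹ * t * g) = (g⁻¹ * t * g) * (g⁻¹ * s * g) := by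
        have h3 := h.sq _ (mul_mem ha hb)
        rw [← inv_eq_of_mul_eq_one_right (h.sq _ ha), ← inv_eq_of_mul_eq_one_right (h.sq _ hb),
          ← mul_inv_rev]
        rw [inv_eq_of_mul_eq_one_right (h.sq _ ha), inv_eq_of_mul_eq_one_right (h.sq _ hb)]
        rw [inv_eq_of_mul_eq_one_right (h.sq _ (mul_mem hb ha))]
      calc s * t = g * ((g⁻¹ * s * g) * (g⁻¹ * t * g)) * g⁻¹ := by group
        _ = g * ((g⁻¹ * t * g) * (g⁻¹ * s * g)) * g⁻¹ := by rw [hab]
        _ = t * s := by group
  -- number of involutions inverting a real element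
  have hinvcount : ∀ x ∈ R, (J.filter fun s => s * x * s⁻¹ = x⁻¹).card = Nat.card ↥(C x) := by
    intro x hx
    rw [hR, Finset.mem_filter] at hx
    obtain ⟨hx1, hxo, s0, hs0, hsx⟩ := hx.2
    have hinv := h.inverts hx1 hxo hs0 hsx
    have hs00 : s0 * s0 = 1 := by rw [← pow_two, ← hs0, pow_orderOf_eq_one]
    rw [Nat.card_eq_fintype_card, Fintype.card_subtype]
    symm
    refine Finset.card_bij (fun y _ => s0 * y) ?_ (fun a _ b _ e => mul_left_cancel e) ?_
    · intro y hy
      simp only [Finset.mem_filter, Finset.mem_univ, true_and] at hy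
      have hyx := Subgroup.mem_centralizer_singleton_iff.mp hy
      simp only [hJ, Finset.mem_filter, Finset.mem_univ, true_and]
      constructor
      · refine orderOf_eq_prime ?_ (fun e => ?_)
        · rw [pow_two]
          calc s0 * y * (s0 * y) = s0 * y * s0⁻¹ * (s0 * s0) * y := by group
            _ = 1 := by rw [hinv y hy, hs00, mul_one, inv_mul_cancel]
        · have hsX : s0 ∈ C x := by
            rw [eq_inv_of_mul_eq_one_left e]; exact inv_mem hy
          have := Odd.of_dvd_nat (h.odd_cent hxo hx1) (Subgroup.orderOf_dvd_natCard _ hsX)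
          rw [hs0] at this; exact absurd this (by decide)
      · calc s0 * y * x * (s0 * y)⁻¹ = s0 * (y * x * y⁻¹) * s0⁻¹ := by group
          _ = s0 * x * s0⁻¹ := by rw [hyx]; group
          _ = x⁻¹ := hsx
    · intro s hs
      simp only [hJ, Finset.mem_filter, Finset.mem_univ, true_and] at hs
      refine ⟨s0⁻¹ * s, ?_, by group⟩
      simp only [Finset.mem_filter, Finset.mem_univ, true_and]
      apply Subgroup.mem_centralizer_singleton_iff.mpr
      have e1 : s0⁻¹ * x⁻¹ * s0 = x := by rw [← hsx]; group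
      calc s0⁻¹ * s * x = s0⁻¹ * (s * x * s⁻¹) * s := by group
        _ = s0⁻¹ * x⁻¹ * s := by rw [hs.2]
        _ = (s0⁻¹ * x⁻¹ * s0) * (s0⁻¹ * s) := by group
        _ = x * (s0⁻¹ * s) := by rw [e1]
  have hPsum : P.card = ∑ x ∈ R, Nat.card ↥(C x) := by
    rw [Finset.card_eq_sum_card_fiberwise (f := fun p : M × M => p.1 * p.2) (t := R) ?_]
    · refine Finset.sum_congr rfl fun x hx => ?_
      rw [← hinvcount x hx]
      refine Finset.card_bij (fun p _ => p.1) ?_ ?_ ?_
      · intro p hp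
        simp only [hP, hJ, Finset.mem_filter, Finset.mem_product, Finset.mem_univ, true_and] at hp ⊢
        obtain ⟨⟨⟨h1, h2⟩, h3⟩, rfl⟩ := hp
        exact ⟨h1, (hprod _ _ h1 h2 h3).2⟩
      · intro p hp p' hp' e
        simp only [hP, Finset.mem_filter] at hp hp'
        exact Prod.ext e (mul_left_cancel (hp.2.trans (hp'.2.symm.trans (congrArg (· * p'.2) e).symm)))
      · intro s hs
        simp only [hJ, Finset.mem_filter, Finset.mem_univ, true_and] at hs
        have hx' := (Finset.mem_filter.mp hx).2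
        have hss : s * s = 1 := by rw [← pow_two, ← hs.1, pow_orderOf_eq_one]
        have hsi : s⁻¹ = s := inv_eq_of_mul_eq_one_right hss
        refine ⟨(s, s * x), ?_, rfl⟩
        simp only [hP, hJ, Finset.mem_filter, Finset.mem_product, Finset.mem_univ, true_and]
        refine ⟨⟨⟨hs.1, orderOf_eq_prime ?_ ?_⟩, fun hc => ?_⟩, by rw [← mul_assoc, hss, one_mul]⟩
        · rw [pow_two]
          calc s * x * (s * x) = s * x * s⁻¹ * (s * s) * x := by group
            _ = 1 := by rw [hs.2, hss, mul_one, inv_mul_cancel]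
        · intro e
          have e' : x = s := by rw [eq_inv_of_mul_eq_one_right e, hsi]
          have := hx'.2.1
          rw [e', hs.1] at this; exact absurd this (by decide)
        · have hcx : Commute s x := by
            have := (Commute.refl s).mul_right hc
            rwa [← mul_assoc, hss, one_mul] at this
          exact hx'.1 (h.eq_one_of_commute_inv hs.1 hcx hx'.2.1)
    · intro p hp
      simp only [hP, hJ, Finset.coe_filter, Finset.mem_product, Finset.mem_filter, Finset.mem_univ,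
        true_and, Set.mem_ofPred_eq] at hp
      simp only [hR, Finset.coe_filter, Finset.mem_univ, true_and, Set.mem_ofPred_eq]
      exact (hprod _ _ hp.1.1 hp.1.2 hp.2).1
  -- the real elements are partitioned by their centralizers
  have hfib : ∀ X ∈ 𝒳, (R.filter fun x => C x = X).card + 1 = Nat.card ↥X := by
    intro X hX
    rw [h𝒳, Finset.mem_image] at hX
    obtain ⟨x, hx, rfl⟩ := hX
    rw [hR, Finset.mem_filter] at hx
    obtain ⟨hx1, hxo, s0, hs0, hsx⟩ := hx.2
    have : (R.filter fun y => C y = C x) =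
        (Finset.univ.filter fun y : M => y ∈ C x).erase 1 := by
      ext y
      simp only [hR, Finset.mem_filter, Finset.mem_univ, true_and, Finset.mem_erase]
      constructor
      · rintro ⟨hy, e⟩
        exact ⟨hy.1, e ▸ Subgroup.mem_centralizer_singleton_iff.mpr rfl⟩
      · rintro ⟨hy1, hy⟩
        refine ⟨⟨hy1, Odd.of_dvd_nat (h.odd_cent hxo hx1) (Subgroup.orderOf_dvd_natCard _ hy), s0,
          hs0, h.inverts hx1 hxo hs0 hsx y hy⟩, h.cent_eq hx.2 hy hy1⟩
    rw [this, Finset.card_erase_of_mem (by simp [one_mem]), Nat.card_eq_fintype_card,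
      Fintype.card_subtype]
    have : 0 < (Finset.univ.filter fun y : M => y ∈ C x).card :=
      Finset.card_pos.mpr ⟨1, by simp [one_mem]⟩
    omega
  have hsumX : P.card + (∑ X ∈ 𝒳, Nat.card ↥X) = ∑ X ∈ 𝒳, Nat.card ↥X * Nat.card ↥X := by
    rw [hPsum, ← Finset.sum_fiberwise_of_maps_to (g := C) (t := 𝒳)
      (fun x hx => Finset.mem_image_of_mem C hx), ← Finset.sum_add_distrib]
    refine Finset.sum_congr rfl fun X hX => ?_
    rw [Finset.sum_congr rfl (fun x hx => by rw [(Finset.mem_filter.mp hx).2]), Finset.sum_const,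
      smul_eq_mul]
    conv_rhs => rw [← hfib X hX]
    rw [← hfib X hX]; ring
  have hRcard : R.card + n + 1 ≤ 4 * n := by
    rw [hM, Nat.card_eq_fintype_card, ← Finset.card_univ]
    have hd : Disjoint R J := by
      rw [Finset.disjoint_left]
      intro x hx hx'
      simp only [hR, hJ, Finset.mem_filter] at hx hx'
      have := hx.2.2.1; rw [hx'.2] at this; exact absurd this (by decide)
    have h1 : (1 : M) ∉ R ∪ J := by
      intro hm
      rcases Finset.mem_union.mp hm with hm | hm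
      · exact (Finset.mem_filter.mp (hR ▸ hm)).2.1 rfl
      · rw [hJ, Finset.mem_filter, orderOf_one] at hm
        exact absurd hm.2 (by norm_num)
    rw [hn, ← Finset.card_union_of_disjoint hd, ← Finset.card_insert_of_notMem h1]
    exact Finset.card_le_univ _
  have hRsum : R.card = ∑ X ∈ 𝒳, (Nat.card ↥X - 1) := by
    rw [Finset.card_eq_sum_card_fiberwise (f := C) (t := 𝒳)
      (fun x hx => Finset.mem_image_of_mem C hx)]
    exact Finset.sum_congr rfl fun X hX => by have := hfib X hX; omega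
  -- orbits
  let O : Subgroup M → Finset (Subgroup M) := fun X =>
    𝒳.filter fun Y => ∃ g : M, X.map (MulAut.conj g).toMonoidHom = Y
  have hO : ∀ X ∈ 𝒳, (O X).card * (2 * Nat.card ↥X) = 4 * n ∧
      ∀ Y ∈ O X, Nat.card ↥Y = Nat.card ↥X := by
    intro X hX
    constructor
    · rw [hM]
      have e : (O X).card = Nat.card {Y : Subgroup M // ∃ g : M, X.map (MulAut.conj g).toMonoidHom = Y} := by
        rw [← Nat.card_eq_finsetCard]
        refine Nat.card_congr (Equiv.subtypeEquivRight fun Y => ?_)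
        simp only [O, Finset.mem_filter, and_iff_right_iff_imp]
        rintro ⟨g, rfl⟩
        rw [h𝒳, Finset.mem_image] at hX ⊢
        obtain ⟨x, hx, rfl⟩ := hX
        refine ⟨g * x * g⁻¹, ?_, (map_cent g x).symm⟩
        simp only [hR, Finset.mem_filter, Finset.mem_univ, true_and] at hx ⊢
        exact isReal_conj hx g
      rw [e, card_real_class]
      rw [h𝒳, Finset.mem_image] at hX
      obtain ⟨x, hx, rfl⟩ := hX
      rw [hC, ← h.card_normalizer (Finset.mem_filter.mp hx).2]
      exact Subgroup.index_mul_card _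
    · intro Y hY
      obtain ⟨g, rfl⟩ := (Finset.mem_filter.mp hY).2
      exact Subgroup.card_map_of_injective (MulAut.conj g).injective
  have hodd3 : ∀ X ∈ 𝒳, 3 ≤ Nat.card ↥X ∧ Odd (Nat.card ↥X) := by
    intro X hX
    have h1 := hfib X hX
    obtain ⟨x, hx, rfl⟩ := Finset.mem_image.mp (h𝒳 ▸ hX)
    have hx' := (Finset.mem_filter.mp hx).2
    have hodd : Odd (Nat.card ↥(C x)) := h.odd_cent hx'.2.1 hx'.1
    have : 0 < (R.filter fun y => C y = C x).card := Finset.card_pos.mpr ⟨x, by simp [hx]⟩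
    obtain ⟨k, hk⟩ := hodd
    exact ⟨by omega, k, hk⟩
  have hdisjO : ∀ X Y, Y ∈ 𝒳 → Y ∉ O X → Disjoint (O X) (O Y) := by
    intro X Y hY hYX
    rw [Finset.disjoint_left]
    intro Z hZX hZY
    obtain ⟨g, hg⟩ := (Finset.mem_filter.mp hZX).2
    obtain ⟨g', hg'⟩ := (Finset.mem_filter.mp hZY).2
    refine hYX (Finset.mem_filter.mpr ⟨hY, g'⁻¹ * g, ?_⟩)
    rw [show (MulAut.conj (g'⁻¹ * g)).toMonoidHom =
      (MulAut.conj g'⁻¹).toMonoidHom.comp (MulAut.conj g).toMonoidHom by ext; simp [mul_assoc],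
      ← Subgroup.map_map, hg, ← hg', Subgroup.map_map,
      show (MulAut.conj g'⁻¹).toMonoidHom.comp (MulAut.conj g').toMonoidHom = MonoidHom.id M by
        ext; simp [mul_assoc], Subgroup.map_id]
  have hsumO : ∀ X ∈ 𝒳, ∀ f : ℕ → ℕ,
      (∑ Y ∈ O X, f (Nat.card ↥Y)) = (O X).card * f (Nat.card ↥X) := by
    intro X hX f
    rw [Finset.sum_congr rfl (fun Y hY => by rw [(hO X hX).2 Y hY]), Finset.sum_const, smul_eq_mul]
  rcases 𝒳.eq_empty_or_nonempty with he | ⟨X1, hX1⟩
  · rw [he, Finset.sum_empty, Finset.sum_empty, add_zero] at hsumX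
    left
    rw [← hM]
    have hn0 : 0 < n := Finset.card_pos.mpr ⟨w0, by simp [hJ, hw2]⟩
    nlinarith
  obtain ⟨ho1, -⟩ := hO X1 hX1
  obtain ⟨hm1, k1, hk1⟩ := hodd3 X1 hX1
  set m1 := Nat.card ↥X1
  have hsplit1 : ∀ f : ℕ → ℕ, ∑ X ∈ 𝒳, f (Nat.card ↥X) =
      (O X1).card * f m1 + ∑ X ∈ 𝒳 \ O X1, f (Nat.card ↥X) := by
    intro f
    rw [← hsumO X1 hX1 f, add_comm, Finset.sum_sdiff (Finset.filter_subset _ _)]
  rcases (𝒳 \ O X1).eq_empty_or_nonempty with he | ⟨X2, hX2⟩
  · exfalso
    have e1 := hsplit1 (fun a => a)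
    have e2 := hsplit1 (fun a => a * a)
    simp only [he, Finset.sum_empty, add_zero] at e1 e2
    rw [e1, e2] at hsumX
    have hn0 : 0 < n := Finset.card_pos.mpr ⟨w0, by simp [hJ, hw2]⟩
    -- n = 2 m + 1 and m ∣ 4 n
    have hkey : n + 2 = 3 + 2 * m1 + 0 → False := fun hnm => by
      have hdvd : m1 ∣ 4 * n := ⟨(O X1).card * 2, by rw [← ho1]; ring⟩
      have : m1 ∣ 4 := by
        have h8 : m1 ∣ 8 * m1 + 4 := by rwa [show 8 * m1 + 4 = 4 * n by omega]
        exact (Nat.dvd_add_right (dvd_mul_left m1 8)).mp h8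
      have := Nat.le_of_dvd (by norm_num) this
      have : m1 = 3 := by omega
      have h28 : 4 * n = 28 := by omega
      rw [h28, this] at hdvd
      omega
    apply hkey
    have : n * (2 * m1) + n * 1 = n * n := by nlinarith
    have := Nat.eq_of_mul_eq_mul_left hn0 (show n * (2 * m1 + 1) = n * n by rw [mul_add]; exact this)
    omega
  rw [Finset.mem_sdiff] at hX2
  obtain ⟨ho2, -⟩ := hO X2 hX2.1
  obtain ⟨hm2, k2, hk2⟩ := hodd3 X2 hX2.1
  set m2 := Nat.card ↥X2
  have hsub2 : O X2 ⊆ 𝒳 \ O X1 := fun Z hZ => Finset.mem_sdiff.mpr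
    ⟨(Finset.mem_filter.mp hZ).1, Finset.disjoint_right.mp (hdisjO X1 X2 hX2.1 hX2.2) hZ⟩
  have hsplit2 : ∀ f : ℕ → ℕ, ∑ X ∈ 𝒳, f (Nat.card ↥X) =
      (O X1).card * f m1 + (O X2).card * f m2 +
        ∑ X ∈ (𝒳 \ O X1) \ O X2, f (Nat.card ↥X) := by
    intro f
    rw [hsplit1 f, ← hsumO X2 hX2.1 f, add_assoc]
    congr 1
    rw [add_comm, Finset.sum_sdiff hsub2]
  have hbound : ∀ o m : ℕ, o * (2 * m) = 4 * n → 3 ≤ m → 4 * n ≤ 3 * (o * (m - 1)) := by
    intro o m e hm
    obtain ⟨m', rfl⟩ : ∃ m', m = m' + 1 := ⟨m - 1, by omega⟩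
    rw [Nat.add_sub_cancel]
    nlinarith
  rcases ((𝒳 \ O X1) \ O X2).eq_empty_or_nonempty with he | ⟨X3, hX3⟩
  · have e1 := hsplit2 (fun a => a)
    have e2 := hsplit2 (fun a => a * a)
    have e3 := hsplit2 (fun a => a - 1)
    simp only [he, Finset.sum_empty, add_zero] at e1 e2 e3
    rw [e1, e2] at hsumX
    rw [hRsum, e3] at hRcard
    have hn0 : 0 < n := Finset.card_pos.mpr ⟨w0, by simp [hJ, hw2]⟩
    set o1 := (O X1).card
    set o2 := (O X2).card
    -- `n = 2 (m₁ + m₂) - 1`
    have hnm : n + 1 = 2 * (m1 + m2) := by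
      have a1 : o1 * m1 = 2 * n := by linarith
      have a2 : o2 * m2 = 2 * n := by linarith
      have b1 : o1 * (m1 * m1) = 2 * n * m1 := by rw [← mul_assoc, a1]
      have b2 : o2 * (m2 * m2) = 2 * n * m2 := by rw [← mul_assoc, a2]
      rw [b1, b2, a1, a2] at hsumX
      have : n * (n + 1) = n * (2 * (m1 + m2)) := by nlinarith
      exact Nat.eq_of_mul_eq_mul_left hn0 this
    have hineq : m1 * m2 < 2 * (m1 + m2) := by
      have a1 : o1 * m1 = 2 * n := by linarith
      have a2 : o2 * m2 = 2 * n := by linarith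
      have b1 : o1 * (m1 - 1) + o1 = 2 * n := by
        rw [← a1]; obtain ⟨m', hm'⟩ : ∃ m', m1 = m' + 1 := ⟨m1 - 1, by omega⟩
        rw [hm', Nat.add_sub_cancel]; ring
      have b2 : o2 * (m2 - 1) + o2 = 2 * n := by
        rw [← a2]; obtain ⟨m', hm'⟩ : ∃ m', m2 = m' + 1 := ⟨m2 - 1, by omega⟩
        rw [hm', Nat.add_sub_cancel]; ring
      have hlt : n < o1 + o2 := by omega
      have : n * (m1 * m2) < n * (2 * (m1 + m2)) := by
        calc n * (m1 * m2) < (o1 + o2) * (m1 * m2) :=
              Nat.mul_lt_mul_of_pos_right hlt (Nat.mul_pos (by omega) (by omega))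
          _ = (o1 * m1) * m2 + (o2 * m2) * m1 := by ring
          _ = n * (2 * (m1 + m2)) := by rw [a1, a2]; ring
      exact Nat.lt_of_mul_lt_mul_left this
    right
    have hle1 : m1 ≤ 5 ∧ m2 ≤ 5 := by
      constructor <;> by_contra hc
      · have h7 : 7 ≤ m1 := by omega
        nlinarith
      · have h7 : 7 ≤ m2 := by omega
        nlinarith
    rcases (show m1 = 3 ∨ m1 = 5 by omega) with e | e <;>
      rcases (show m2 = 3 ∨ m2 = 5 by omega) with e' | e' <;> rw [e, e'] at hineq hnm <;>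
      rw [← hM] <;> first
        | omega
        | (exfalso; rw [e] at ho1; omega)
  · exfalso
    rw [Finset.mem_sdiff, Finset.mem_sdiff] at hX3
    obtain ⟨ho3, -⟩ := hO X3 hX3.1.1
    obtain ⟨hm3, -⟩ := hodd3 X3 hX3.1.1
    have hsub3 : O X3 ⊆ (𝒳 \ O X1) \ O X2 := fun Z hZ => Finset.mem_sdiff.mpr
      ⟨Finset.mem_sdiff.mpr ⟨(Finset.mem_filter.mp hZ).1,
        Finset.disjoint_right.mp (hdisjO X1 X3 hX3.1.1 hX3.1.2) hZ⟩,
        Finset.disjoint_right.mp (hdisjO X2 X3 hX3.1.1 hX3.2) hZ⟩
    have e3 := hsplit2 (fun a => a - 1)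
    have h3 := Finset.sum_le_sum_of_subset (f := fun X : Subgroup M => Nat.card ↥X - 1) hsub3
    rw [hsumO X3 hX3.1.1 (fun a => a - 1)] at h3
    have := hbound _ _ ho1 hm1
    have := hbound _ _ ho2 hm2
    have := hbound _ _ ho3 hm3
    rw [hRsum] at hRcard
    omega

end FourHyp

end Cfsg.Agent.J2Order38
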