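import Cfsg.Agent.J2Order38.Outer
import Cfsg.Agent.J2Order38.FourSylow
import Cfsg.Agent.Lib.Transfer.Focal

/-!
The centralizer of a non-2-central involution.
-/

set_option autoImplicit false

namespace Cfsg.Agent.J2Order38

open Subgroup

variable {G : Type*} [Group G] [Finite G]

/-- The pair `(z, t)` of non-conjugate commuting involutions. -/
structure Pair (z : G) (Q : Subgroup G) (t : G) : Prop where
  hj : HJ z Q
  outer : Outer z Q t
  ne : ¬ IsConj z t

namespace Pair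

variable {z t : G} {Q : Subgroup G}

theorem classify (P : Pair z Q t) {x : G} (hx : x * x = 1) (hc : Commute z x) (hz : IsConj z x) :
    x = z ∨ x ∈ invs z Q := by
  by_cases hxQ : x ∈ Q
  · by_cases hxz : x = z
    · exact Or.inl hxz
    · exact Or.inr (P.hj.mem_invs_of_conj hxQ hxz hz)
  · exfalso
    obtain ⟨c, -, e⟩ := P.outer.conj_of_outer P.hj ⟨hc, hxQ, hx⟩
    exact P.ne (hz.trans (isConj_iff.mpr ⟨c, e⟩).symm)

theorem exists_u (P : Pair z Q t) :
    ∃ u ∈ invs z Q, Commute t u ∧ ∀ q ∈ Q, Commute t q → q = 1 ∨ q = z ∨ q = u ∨ q = z * u := by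
  have h4 := P.outer.card_cent P.hj
  have : ¬ Q ⊓ Subgroup.centralizer ({t} : Set G) ≤ Subgroup.zpowers z := fun hle => by
    have := Nat.le_of_dvd Nat.card_pos (Subgroup.card_dvd_of_le hle)
    rw [h4, P.hj.zpowers_card] at this; omega
  obtain ⟨u, hu, huz⟩ := SetLike.not_le_iff_exists.mp this
  obtain ⟨huQ, hut⟩ := Subgroup.mem_inf.mp hu
  have huc : Commute t u := (Subgroup.mem_centralizer_singleton_iff.mp hut).symm
  have husq := ((P.outer.mem_cent_iff P.hj).mp ⟨huQ, huc⟩).2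
  have hui : u ∈ invs z Q := ⟨huQ, husq, fun e => huz (e ▸ one_mem _), fun e => huz (e ▸ Subgroup.mem_zpowers z)⟩
  refine ⟨u, hui, huc, fun q hq hqc => ?_⟩
  obtain ⟨hqs, hq2⟩ := (P.outer.mem_cent_iff P.hj).mp ⟨hq, hqc⟩
  exact P.hj.inv_comm hui hq hq2 (P.outer.stab_comm P.hj u ((P.outer.mem_cent_iff P.hj).mp ⟨huQ, huc⟩).1 q hqs)

/-- Symmetry at a conjugate inside `Q`. -/
theorem symm_pair (P : Pair z Q t) {w : G} (hw : w ∈ invs z Q) (hc : Commute t w) :
    ∃ g, g * z * g⁻¹ = w ∧ Pair w (Q.map (MulAut.conj g).toMonoidHom) t := by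
  obtain ⟨g, hg⟩ := isConj_iff.mp (P.hj.isConj_invs hw)
  refine ⟨g, hg, ?_⟩
  subst hg
  have hJ := P.hj.conj g
  have hne : ¬ IsConj (g * z * g⁻¹) t := fun e => P.ne ((isConj_iff.mpr ⟨g, rfl⟩).trans e)
  refine ⟨hJ, ⟨hc.symm, fun hm => hne (hJ.isConj_invs ⟨hm, P.outer.sq, ?_, ?_⟩), P.outer.sq⟩, hne⟩
  · exact fun e => by simpa [e] using P.outer.order
  · exact fun e => hne (e ▸ IsConj.refl _)

/-- `C(t) ∩ C(z)` fixes the involutions of `C_Q(t)`. -/
theorem cent_fixes (P : Pair z Q t) {u : G} (hu : u ∈ invs z Q) (hut : Commute t u) {y : G}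
    (hyt : Commute t y) (hyz : Commute z y) : Commute u y := by
  obtain ⟨g, hg, Pu⟩ := P.symm_pair hu hut
  subst hg
  set Qu := Q.map (MulAut.conj g).toMonoidHom
  set u := g * z * g⁻¹
  have hzQu : z ∈ Qu := P.hj.symm_mem hu Pu.hj
  have hzu : z ∈ invs u Qu := ⟨hzQu, P.hj.z_sq, P.hj.z_ne, fun e => hu.2.2.2 e.symm⟩
  have hquot := P.hj.quot
  set H := Subgroup.centralizer ({z} : Set G) with hH
  obtain ⟨π, hπs, hπ⟩ := hquot
  set Kg := Qu ⊓ H with hKg
  have hK16 : Nat.card Kg = 16 := Pu.hj.card_cent_Q hzu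
  set φ := π.comp (Subgroup.inclusion (inf_le_right : Kg ≤ H)) with hφ
  have hker : φ.ker.map Kg.subtype = Q ⊓ Qu := by
    ext x
    constructor
    · rintro ⟨w, hw, rfl⟩
      exact Subgroup.mem_inf.mpr ⟨(hπ _).mp hw, (Subgroup.mem_inf.mp w.2).1⟩
    · intro hx
      obtain ⟨h1, h2⟩ := Subgroup.mem_inf.mp hx
      exact ⟨⟨x, Subgroup.mem_inf.mpr ⟨h2, P.hj.le_cent h1⟩⟩, (hπ _).mpr h1, rfl⟩
  have hker4 : Nat.card φ.ker ≤ 4 := by
    classical
    rw [← Subgroup.card_map_of_injective Kg.subtype_injective, hker]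
    letI := Fintype.ofFinite G
    rw [Nat.card_eq_fintype_card, Fintype.card_subtype]
    refine (Finset.card_le_card (t := ({1, z, u, z * u} : Finset G)) fun x hx => ?_).trans ?_
    · simp only [Finset.mem_filter, Finset.mem_univ, true_and] at hx
      obtain ⟨h1, h2⟩ := Subgroup.mem_inf.mp hx
      simpa using P.hj.inter hu Pu.hj h1 h2
    · exact Finset.card_le_four
  have hP2 : IsPGroup 2 φ.range :=
    (Pu.hj.two_group.to_le (inf_le_left : Kg ≤ Qu)).of_surjective φ.rangeRestrict φ.rangeRestrict_surjective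
  obtain ⟨j, hj⟩ := hP2.exists_card_eq
  have hcards : Nat.card φ.range * Nat.card φ.ker = 16 := by
    rw [← hK16, ← φ.ker.card_mul_index, Subgroup.index_ker, mul_comm]
  have hdvd : (2 : ℕ) ^ j ∣ 60 := by rw [← hj, ← A5.card_eq]; exact Subgroup.card_subgroup_dvd_card _
  have hj2 : j = 2 := by
    have hle : j ≤ 2 := by
      by_contra hgt
      exact absurd ((pow_dvd_pow 2 (show 3 ≤ j by omega)).trans hdvd) (by norm_num)
    have hge : 4 ≤ 2 ^ j := by
      rw [← hj]; by_contra hlt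
      have := Nat.mul_le_mul (show Nat.card φ.range ≤ 3 by omega) hker4; omega
    rcases (show j = 0 ∨ j = 1 ∨ j = 2 by omega) with rfl | rfl | rfl <;> simp_all
  have hK4 : Nat.card φ.range = 4 := by rw [hj, hj2]; rfl
  -- `t` normalizes and hence lies in the image, which is its centralizer
  have htH : t ∈ H := Subgroup.mem_centralizer_singleton_iff.mpr P.outer.comm.eq.symm
  set a := π ⟨t, htH⟩
  have ha : a * a = 1 := by rw [← map_mul, show (⟨t, htH⟩ : H) * ⟨t, htH⟩ = 1 from Subtype.ext P.outer.sq, map_one]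
  have ha1 : a ≠ 1 := fun e => P.outer.notMem ((hπ ⟨t, htH⟩).mp e)
  have hcommK : ∀ x ∈ φ.range, ∀ x' ∈ φ.range, Commute x x' := by
    haveI : Fact (Nat.Prime 2) := ⟨Nat.prime_two⟩
    intro x hx x' hx'
    exact congrArg Subtype.val (IsPGroup.commutative_of_card_eq_prime_sq (p := 2) (G := φ.range)
      (by rw [hK4]; rfl) ⟨x, hx⟩ ⟨x', hx'⟩)
  have haK : a ∈ φ.range := by
    by_contra hna
    have hnorm : ∀ x ∈ φ.range, a * x * a⁻¹ ∈ φ.range := by
      rintro _ ⟨⟨w, hw⟩, rfl⟩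
      obtain ⟨h1, h2⟩ := Subgroup.mem_inf.mp hw
      have hw' : t * w * t⁻¹ ∈ Kg := Subgroup.mem_inf.mpr
        ⟨Pu.hj.normal_in hut.symm h1, mul_mem (mul_mem htH h2) (inv_mem htH)⟩
      refine ⟨⟨_, hw'⟩, ?_⟩
      show π ⟨t * w * t⁻¹, _⟩ = a * π ⟨w, _⟩ * a⁻¹
      rw [← map_inv, ← map_mul, ← map_mul]; rfl
    -- otherwise there is a subgroup of order eight
    have hnm : Subgroup.zpowers a ≤ Subgroup.normalizer (φ.range : Set (alternatingGroup (Fin 5))) := by
      rw [Subgroup.zpowers_le, Subgroup.mem_normalizer_iff]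
      refine fun x => ⟨hnorm x, fun hx => ?_⟩
      have := hnorm _ hx
      rw [inv_eq_of_mul_eq_one_right ha] at this
      rwa [show a * (a * x * a) * a = (a * a) * x * (a * a) by group, ha, one_mul, mul_one] at this
    have h2 : IsPGroup 2 ↥(φ.range ⊔ Subgroup.zpowers a) := by
      refine IsPGroup.to_sup_of_normal_left' hP2 ?_ hnm
      refine IsPGroup.of_card (n := 1) ?_
      rw [Nat.card_zpowers, pow_one]
      haveI : Fact (Nat.Prime 2) := ⟨Nat.prime_two⟩
      exact orderOf_eq_prime (by rw [pow_two]; exact ha) ha1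
    obtain ⟨i, hi⟩ := h2.exists_card_eq
    have hd : (2 : ℕ) ^ i ∣ 60 := by rw [← hi, ← A5.card_eq]; exact Subgroup.card_subgroup_dvd_card _
    have hile : i ≤ 2 := by
      by_contra hgt
      exact absurd ((pow_dvd_pow 2 (show 3 ≤ i by omega)).trans hd) (by norm_num)
    have := Subgroup.eq_of_le_of_card_ge (le_sup_left : φ.range ≤ φ.range ⊔ Subgroup.zpowers a) (by
      rw [hi, hK4]; exact Nat.pow_le_pow_right (by norm_num) hile)
    exact hna (this ▸ Subgroup.mem_sup_right (Subgroup.mem_zpowers a))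
  have hKeq : φ.range = Subgroup.centralizer ({a} : Set (alternatingGroup (Fin 5))) :=
    Subgroup.eq_of_le_of_card_ge (fun x hx => Subgroup.mem_centralizer_singleton_iff.mpr (hcommK x hx a haK).eq)
      (by rw [hK4, A5.cent_card ha ha1])
  -- decompositions
  have hdec : ∀ x (hx : x ∈ H), Commute a (π ⟨x, hx⟩) →
      ∃ q ∈ Q, ∃ w, w ∈ Qu ∧ Commute z w ∧ x = q * w := by
    intro x hx hc
    have : π ⟨x, hx⟩ ∈ φ.range := hKeq ▸ Subgroup.mem_centralizer_singleton_iff.mpr hc.eq.symm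
    obtain ⟨⟨w, hw⟩, he⟩ := this
    obtain ⟨h1, h2⟩ := Subgroup.mem_inf.mp hw
    refine ⟨x * w⁻¹, (hπ (⟨x, hx⟩ * ⟨w, h2⟩⁻¹)).mp ?_, w, h1,
      (Subgroup.mem_centralizer_singleton_iff.mp h2).symm, by group⟩
    rw [map_mul, map_inv, ← he]; exact mul_inv_cancel _
  have hyH : y ∈ H := Subgroup.mem_centralizer_singleton_iff.mpr hyz.eq.symm
  obtain ⟨q, hq, w, hwQ, hwz, rfl⟩ := hdec y hyH
    ((show Commute (⟨t, htH⟩ : H) ⟨y, hyH⟩ from Subtype.ext hyt.eq).map π)
  obtain ⟨q0, hq0, w0, hw0Q, hw0z, ht0⟩ := hdec t htH (Commute.refl a)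
  have hwu : Commute u w := Pu.hj.z_comm hwQ
  have hw0u : Commute u w0 := Pu.hj.z_comm hw0Q
  have hq0u : Commute u q0 := by
    have : q0 = t * w0⁻¹ := by rw [ht0]; group
    rw [this]; exact hut.symm.mul_right hw0u.inv_right
  set d1 := w * q0 * w⁻¹ * q0⁻¹ with hd1
  set d2 := w * w0 * w⁻¹ * w0⁻¹ with hd2
  have hd1Q : d1 ∈ Q := mul_mem (P.hj.normal_in hwz hq0) (inv_mem hq0)
  have hd1Qu : d1 ∈ Qu := by
    have := mul_mem hwQ (Pu.hj.normal_in hq0u (inv_mem hwQ))
    simpa [hd1, mul_assoc] using this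
  have hd2u : d2 = 1 ∨ d2 = u := Pu.hj.setup.comm_cases hwQ hw0Q
  have hd2Q : d2 ∈ Q ∧ d2 ∈ Qu := by
    rcases hd2u with e | e <;> rw [e]
    · exact ⟨one_mem _, one_mem _⟩
    · exact ⟨hu.1, Pu.hj.z_mem⟩
  have hWq0 : Commute q0 d2 := by
    rcases hd2u with e | e <;> rw [e]
    · exact Commute.one_right _
    · exact hq0u.symm
  have hwt : w * t * w⁻¹ = d1 * d2 * t := by
    calc w * t * w⁻¹ = w * (q0 * w0) * w⁻¹ := by rw [ht0]
      _ = d1 * (q0 * d2) * w0 := by rw [hd1, hd2]; group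
      _ = d1 * d2 * (q0 * w0) := by rw [hWq0.eq]; group
      _ = _ := by rw [← ht0]
  -- the displacement of `q` is an involution of `Q ∩ Qu`
  set d := d1 * d2
  have hdQ : d ∈ Q := mul_mem hd1Q hd2Q.1
  have hdQu : d ∈ Qu := mul_mem hd1Qu hd2Q.2
  have hd := P.hj.inter hu Pu.hj hdQ hdQu
  have hdsq : d * d = 1 := by
    rcases hd with e | e | e | e <;> rw [e]
    · exact one_mul 1
    · exact P.hj.z_sq
    · exact hu.2.1
    · rw [(P.hj.z_comm hu.1).symm.mul_mul_mul_comm, P.hj.z_sq, hu.2.1, one_mul]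
  have hqd : q * d * t = t * q := by
    have e : q * w * t = t * (q * w) := hyt.eq.symm
    calc q * d * t = q * (w * t * w⁻¹) := by rw [hwt, mul_assoc]
      _ = (q * w * t) * w⁻¹ := by group
      _ = t * q := by rw [e]; group
  have hdisp : disp t q = d := by
    unfold disp
    rw [← hqd]
    calc q⁻¹ * (q * d * t * t) = d * (t * t) := by group
      _ = d := by rw [P.outer.sq, mul_one]
  have hqc := P.outer.comm_disp P.hj hq (by rw [hdisp]; exact hdsq)
  rw [hdisp] at hqc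
  have hqu : Commute u q := by
    have hzq := P.hj.z_comm hq
    rcases hd with e | e | e | e
    · refine P.outer.stab_comm P.hj u ((P.outer.mem_cent_iff P.hj).mp ⟨hu.1, hut⟩).1 q ⟨hq, ?_⟩
      rw [hdisp, e]; exact one_mem _
    · refine P.outer.stab_comm P.hj u ((P.outer.mem_cent_iff P.hj).mp ⟨hu.1, hut⟩).1 q ⟨hq, ?_⟩
      rw [hdisp, e]; exact Subgroup.mem_zpowers z
    · rw [e] at hqc; exact hqc.symm
    · rw [e] at hqc
      have := hzq.symm.mul_right hqc
      rw [← mul_assoc, P.hj.z_sq, one_mul] at this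
      exact this.symm
  exact hqu.mul_right hwu

theorem card_cent_pair (P : Pair z Q t) :
    Nat.card ↥(Subgroup.centralizer ({t} : Set G) ⊓ Subgroup.centralizer ({z} : Set G)) = 16 :=
  P.outer.image_cent P.hj

/-- For each involution of `C_Q(t)` the centralizer in `C(t)` is the same. -/
theorem cent_eq (P : Pair z Q t) {u : G} (hu : u ∈ invs z Q) (hut : Commute t u) :
    Subgroup.centralizer ({t} : Set G) ⊓ Subgroup.centralizer ({u} : Set G) =
      Subgroup.centralizer ({t} : Set G) ⊓ Subgroup.centralizer ({z} : Set G) := by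
  obtain ⟨g, -, Pu⟩ := P.symm_pair hu hut
  symm
  refine Subgroup.eq_of_le_of_card_ge (le_inf inf_le_left fun y hy => ?_) (by rw [Pu.card_cent_pair, P.card_cent_pair])
  obtain ⟨h1, h2⟩ := Subgroup.mem_inf.mp hy
  exact Subgroup.mem_centralizer_singleton_iff.mpr
    (P.cent_fixes hu hut (Subgroup.mem_centralizer_singleton_iff.mp h1).symm
      (Subgroup.mem_centralizer_singleton_iff.mp h2).symm).eq.symm

/-- Conjugates of `z` centralizing `t` are conjugate in `C(t)`. -/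
theorem conj_in (P : Pair z Q t) {w : G} (hw : IsConj z w) (hwt : Commute t w) :
    ∃ c, Commute t c ∧ c * z * c⁻¹ = w := by
  obtain ⟨g, rfl⟩ := isConj_iff.mp hw
  have hz' : IsConj z (g * z * g⁻¹) := isConj_iff.mpr ⟨g, rfl⟩
  set t' := g⁻¹ * t * g with ht'
  have hzt' : Commute z t' := by
    show z * (g⁻¹ * t * g) = g⁻¹ * t * g * z
    calc z * (g⁻¹ * t * g) = g⁻¹ * ((g * z * g⁻¹) * t) * g := by group
      _ = g⁻¹ * (t * (g * z * g⁻¹)) * g := by rw [hwt.eq]
      _ = _ := by group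
  have hsq : t' * t' = 1 := by
    rw [ht', show g⁻¹ * t * g * (g⁻¹ * t * g) = g⁻¹ * (t * t) * g by group, P.outer.sq, mul_one, inv_mul_cancel]
  have hne : ¬ IsConj z t' := fun e => P.ne (e.trans (isConj_iff.mpr ⟨g, by rw [ht']; group⟩))
  have hnm : t' ∉ Q := fun hm => hne (by
    refine P.hj.isConj_invs ⟨hm, hsq, fun e => ?_, fun e => hne (e ▸ IsConj.refl z)⟩
    have : t = 1 := by
      have := congrArg (fun x => g * x * g⁻¹) e
      simpa [ht', mul_assoc] using this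
    exact P.outer.notMem (this ▸ one_mem Q))
  obtain ⟨c, hcz, hc⟩ := P.outer.conj_of_outer P.hj ⟨hzt', hnm, hsq⟩
  refine ⟨g * c, ?_, ?_⟩
  · show t * (g * c) = g * c * t
    calc t * (g * c) = g * (g⁻¹ * t * g) * c := by group
      _ = g * (c * t * c⁻¹) * c := by rw [hc]
      _ = g * c * t := by group
  · calc g * c * z * (g * c)⁻¹ = g * (c * z * c⁻¹) * g⁻¹ := by group
      _ = _ := by rw [← hcz.eq, mul_inv_cancel_right]

theorem mul_conj (P : Pair z Q t) {s : G} (hs : IsConj z s) (hst : Commute t s) : IsConj t (t * s) := by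
  obtain ⟨c, hct, hc⟩ := P.conj_in hs hst
  have h1 : IsConj t (t * z) := by
    have ho : Outer z Q (t * z) := ⟨P.outer.comm.mul_right (Commute.refl z),
      fun hm => P.outer.notMem ((Subgroup.mul_mem_cancel_right Q P.hj.z_mem).mp hm),
      by rw [P.outer.comm.mul_mul_mul_comm, P.outer.sq, P.hj.z_sq, one_mul]⟩
    obtain ⟨d, -, hd⟩ := P.outer.conj_of_outer P.hj ho
    exact isConj_iff.mpr ⟨d, hd⟩
  refine h1.trans (isConj_iff.mpr ⟨c, ?_⟩)
  calc c * (t * z) * c⁻¹ = (c * t) * z * c⁻¹ := by group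
    _ = t * (c * z * c⁻¹) := by rw [← hct.eq]; group
    _ = _ := by rw [hc]

end Pair

end Cfsg.Agent.J2Order38
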