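import Cfsg.Agent.J2Order38.Central

/-!
The order of the centralizer of a non-2-central involution, and the pairs over it.
-/

set_option autoImplicit false

namespace Cfsg.Agent.J2Order38

open Subgroup
open scoped commutatorElement

variable {G : Type*} [Group G] [Finite G]

/-- A normal subgroup `M` of `C(t)` of index four with four-group Sylow structure containing the
conjugates of `z`, and an abelian Sylow subgroup `A` meeting it in `W`. -/
structure CentralFrame (z t : G) (M A W : Subgroup ↥(Subgroup.centralizer ({t} : Set G))) : Prop where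
  normal : M.Normal
  card : Nat.card ↥(Subgroup.centralizer ({t} : Set G)) = 4 * Nat.card M
  le : W ≤ M
  four : FourHyp (W.subgroupOf M)
  class_mem : ∀ x : ↥(Subgroup.centralizer ({t} : Set G)), IsConj z (x : G) → x ∈ M
  card_sylow : Nat.card A = 16
  abelian : ∀ a ∈ A, ∀ b ∈ A, Commute a b
  inter : A ⊓ M = W
  sq : ∀ a ∈ A, a * a ∈ W
  cent_mem : ∀ x : ↥(Subgroup.centralizer ({t} : Set G)), Commute z (x : G) → x ∈ A

/-- What is needed about `C(t)`. -/
structure CentralData (z t : G) : Prop where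
  frame : ∃ M A W : Subgroup ↥(Subgroup.centralizer ({t} : Set G)), CentralFrame z t M A W
  card_ne : Nat.card ↥(Subgroup.centralizer ({t} : Set G)) = 48 ∨
    Nat.card ↥(Subgroup.centralizer ({t} : Set G)) = 240
  count : ∀ n : ℕ, Nat.card ↥(Subgroup.centralizer ({t} : Set G)) = 16 * n →
    Nat.card {p : G × G // IsConj z p.1 ∧ IsConj t p.2 ∧ t ∈ Subgroup.zpowers (p.1 * p.2)} = n * (n - 2)

namespace Pair

variable {z t : G} {Q : Subgroup G}

theorem centralData (P : Pair z Q t) : CentralData z t := by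
  classical
  haveI : Fact (Nat.Prime 2) := ⟨Nat.prime_two⟩
  obtain ⟨u, hu, hut, hWmem⟩ := P.exists_u
  have htz : Commute t z := P.outer.comm.symm
  have hzu := P.hj.z_comm hu.1
  have hzu_i : z * u ∈ invs z Q :=
    ⟨mul_mem P.hj.z_mem hu.1, by rw [hzu.symm.mul_mul_mul_comm, P.hj.z_sq, hu.2.1, one_mul],
      fun e => hu.2.2.2 ((eq_inv_of_mul_eq_one_right e).trans P.hj.z_inv),
      fun e => hu.2.2.1 (mul_eq_left.mp e)⟩
  set C := Subgroup.centralizer ({t} : Set G) with hC
  set A : Subgroup C := (Subgroup.centralizer ({z} : Set G)).subgroupOf C with hA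
  have memA : ∀ x : C, x ∈ A ↔ Commute z (x : G) := fun x => by
    rw [hA, Subgroup.mem_subgroupOf, Subgroup.mem_centralizer_singleton_iff]
    exact ⟨fun h => h.symm, fun h => h.eq.symm⟩
  have hCt : ∀ x : C, Commute t (x : G) := fun x =>
    (Subgroup.mem_centralizer_singleton_iff.mp x.2).symm
  have hAu : ∀ x : C, x ∈ A → Commute u (x : G) := fun x hx =>
    P.cent_fixes hu hut (hCt x) ((memA x).mp hx)
  have hA16 : Nat.card A = 16 := by
    rw [← P.card_cent_pair, hA, ← Subgroup.inf_subgroupOf_left]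
    exact Nat.card_congr (Subgroup.subgroupOfEquivOfLe inf_le_left).toEquiv
  have toC : ∀ {x : G}, Commute t x → x ∈ C := fun hx =>
    Subgroup.mem_centralizer_singleton_iff.mpr hx.eq.symm
  let zC : C := ⟨z, toC htz⟩
  let uC : C := ⟨u, toC hut⟩
  let tC : C := ⟨t, toC (Commute.refl t)⟩
  set W : Subgroup C := Q.subgroupOf C with hW
  have hWA : W ≤ A := fun x hx => (memA x).mpr (P.hj.z_comm hx)
  have hWcases : ∀ x : C, x ∈ W → x = 1 ∨ x = zC ∨ x = uC ∨ x = zC * uC := by
    intro x hx
    rcases hWmem x hx (hCt x) with e | e | e | e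
    · exact Or.inl (Subtype.ext e)
    · exact Or.inr (Or.inl (Subtype.ext e))
    · exact Or.inr (Or.inr (Or.inl (Subtype.ext e)))
    · exact Or.inr (Or.inr (Or.inr (Subtype.ext e)))
  have hW4 : Nat.card W = 4 := by
    rw [← P.outer.card_cent P.hj, hW, ← Subgroup.inf_subgroupOf_right]
    exact Nat.card_congr (Subgroup.subgroupOfEquivOfLe inf_le_right).toEquiv
  have hWsq : ∀ x ∈ W, x * x = 1 := by
    intro x hx
    exact Subtype.ext ((P.outer.mem_cent_iff P.hj).mp ⟨hx, hCt x⟩).2
  have htA : tC ∈ A := (memA tC).mpr P.outer.comm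
  have htW : tC ∉ W := fun h => P.outer.notMem h
  -- `A` is abelian
  have hAab : ∀ a ∈ A, ∀ b ∈ A, Commute a b := by
    intro a ha b hb
    set Zc := A ⊓ Subgroup.centralizer (A : Set C) with hZc
    have hWZ : W ≤ Zc := fun x hx => Subgroup.mem_inf.mpr ⟨hWA hx, Subgroup.mem_centralizer_iff.mpr fun y hy => by
      rcases hWcases x hx with rfl | rfl | rfl | rfl
      · simp
      · exact Subtype.ext ((memA y).mp hy).eq.symm
      · exact Subtype.ext (hAu y hy).eq.symm
      · exact Subtype.ext ((((memA y).mp hy).mul_left (hAu y hy)).eq.symm)⟩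
    have htZ : tC ∈ Zc := Subgroup.mem_inf.mpr ⟨htA, Subgroup.mem_centralizer_iff.mpr fun y _ =>
      Subtype.ext (hCt y).eq.symm⟩
    have h8 : 8 ≤ Nat.card Zc := by
      obtain ⟨k, hk⟩ := Subgroup.card_dvd_of_le hWZ
      have hd : Nat.card Zc ∣ 16 := hA16 ▸ Subgroup.card_dvd_of_le inf_le_left
      rw [hW4] at hk
      rcases (show k = 0 ∨ k = 1 ∨ 2 ≤ k by omega) with rfl | rfl | h2
      · have := (Nat.card_pos (α := Zc)); omega
      · exact absurd ((Subgroup.eq_of_le_of_card_ge hWZ (by omega)).symm ▸ htZ) htW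
      · omega
    by_contra hab
    have hbZ : b ∉ Zc := fun h => hab (Subgroup.mem_centralizer_iff.mp (Subgroup.mem_inf.mp h).2 a ha)
    have htop : Zc ⊔ Subgroup.zpowers b = A := by
      refine Subgroup.eq_of_le_of_card_ge (sup_le inf_le_left (Subgroup.zpowers_le.mpr hb)) ?_
      obtain ⟨k, hk⟩ := Subgroup.card_dvd_of_le (le_sup_left : Zc ≤ Zc ⊔ Subgroup.zpowers b)
      rw [hA16]
      rcases (show k = 0 ∨ k = 1 ∨ 2 ≤ k by omega) with rfl | rfl | h2
      · have := (Nat.card_pos (α := (Zc ⊔ Subgroup.zpowers b : Subgroup C))); omega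
      · exact absurd ((Subgroup.eq_of_le_of_card_ge (le_sup_left : Zc ≤ Zc ⊔ Subgroup.zpowers b) (by omega)).symm ▸
          Subgroup.mem_sup_right (Subgroup.mem_zpowers b)) hbZ
      · rw [hk]; exact le_trans (by norm_num) (Nat.mul_le_mul h8 h2)
    refine hbZ (Subgroup.mem_inf.mpr ⟨hb, Subgroup.mem_centralizer_iff.mpr fun y hy => ?_⟩)
    have hle : Zc ⊔ Subgroup.zpowers b ≤ Subgroup.centralizer ({b} : Set C) :=
      sup_le (fun w hw => Subgroup.mem_centralizer_singleton_iff.mpr
        (Subgroup.mem_centralizer_iff.mp (Subgroup.mem_inf.mp hw).2 b hb).symm)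
        (Subgroup.zpowers_le.mpr (Subgroup.mem_centralizer_singleton_iff.mpr rfl))
    exact Subgroup.mem_centralizer_singleton_iff.mp (hle (htop.symm ▸ hy))
  -- squares of `A` lie in `W`
  have hAsq : ∀ a ∈ A, a * a ∈ W := by
    intro a ha
    obtain ⟨π, -, hπ⟩ := P.hj.quot
    have htH : t ∈ Subgroup.centralizer ({z} : Set G) :=
      Subgroup.mem_centralizer_singleton_iff.mpr htz.eq
    have haH : (a : G) ∈ Subgroup.centralizer ({z} : Set G) := (Subgroup.mem_subgroupOf.mp ha)
    show (a : G) * a ∈ Q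
    refine (hπ (⟨a, haH⟩ * ⟨a, haH⟩)).mp ?_
    rw [map_mul]
    refine A5.cent_sq (a := π ⟨t, htH⟩) ?_ (fun e => P.outer.notMem ((hπ _).mp e))
      ((show Commute (⟨a, haH⟩ : Subgroup.centralizer ({z} : Set G)) ⟨t, htH⟩ from
        Subtype.ext (hCt a).eq.symm).map π)
    rw [← map_mul, show (⟨t, htH⟩ : Subgroup.centralizer ({z} : Set G)) * ⟨t, htH⟩ = 1 from
      Subtype.ext P.outer.sq, map_one]
  -- the conjugates of `z` in `A`
  have hzA : ∀ x : C, x ∈ A → IsConj z (x : G) → x = zC ∨ x = uC ∨ x = zC * uC := by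
    intro x hx hc
    have hxo := (isConj_orderOf hc).trans P.hj.z_order
    rcases P.classify (by rw [← pow_two, ← hxo, pow_orderOf_eq_one]) ((memA x).mp hx) hc with e | e
    · exact Or.inl (Subtype.ext e)
    · exact (hWcases x e.1).resolve_left (fun e' => e.2.2.1 (by rw [e']; rfl))
  have hcentw : ∀ w : C, (w = zC ∨ w = uC ∨ w = zC * uC) → ∀ y : C, Commute y w → y ∈ A := by
    have key : ∀ (w : G), w ∈ invs z Q → Commute t w → ∀ y : C, Commute (y : G) w → y ∈ A := by
      intro w hw hwt y hy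
      have : (y : G) ∈ Subgroup.centralizer ({t} : Set G) ⊓ Subgroup.centralizer ({w} : Set G) :=
        Subgroup.mem_inf.mpr ⟨y.2, Subgroup.mem_centralizer_singleton_iff.mpr hy.eq⟩
      rw [P.cent_eq hw hwt] at this
      exact Subgroup.mem_subgroupOf.mpr (Subgroup.mem_inf.mp this).2
    intro w hw y hy
    have hy' : Commute (y : G) w := congrArg Subtype.val hy.eq
    rcases hw with rfl | rfl | rfl
    · exact (memA y).mpr hy'.symm
    · exact key u hu hut y hy'
    · exact key (z * u) hzu_i (htz.mul_right hut) y hy'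
  -- `A` is a Sylow subgroup
  have hpA : IsPGroup 2 A := IsPGroup.of_card (n := 4) (by rw [hA16]; rfl)
  obtain ⟨S, hS⟩ := hpA.exists_le_sylow
  have hSA : (S : Subgroup C) = A := by
    refine le_antisymm ?_ hS
    by_contra hne
    have hlt : A.subgroupOf (S : Subgroup C) < ⊤ := lt_top_iff_ne_top.mpr fun e => hne (Subgroup.subgroupOf_eq_top.mp e)
    haveI : Group.IsNilpotent (S : Subgroup C) := S.2.isNilpotent
    have := Group.normalizerCondition_of_isNilpotent (A.subgroupOf (S : Subgroup C)) hlt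
    obtain ⟨y, hy, hyA⟩ := SetLike.exists_of_lt this
    have hyn : ∀ a ∈ A, (y : C) * a * (y : C)⁻¹ ∈ A := fun a ha =>
      (Subgroup.mem_normalizer_iff.mp hy ⟨a, hS ha⟩).mp ha
    set Z3 : Set C := {x | x = zC ∨ x = uC ∨ x = zC * uC} with hZ3
    have hZ3m : ∀ x ∈ Z3, x ∈ A ∧ IsConj z (x : G) := by
      rintro x (rfl | rfl | rfl)
      · exact ⟨(memA _).mpr (Commute.refl z), IsConj.refl z⟩
      · exact ⟨(memA _).mpr (P.hj.z_comm hu.1), P.hj.isConj_invs hu⟩
      · exact ⟨(memA _).mpr (P.hj.z_comm hzu_i.1), P.hj.isConj_invs hzu_i⟩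
    have hmove : ∀ x : Z3, (y : C) * x * (y : C)⁻¹ ∈ Z3 := fun x =>
      hzA _ (hyn _ (hZ3m _ x.2).1) ((hZ3m _ x.2).2.trans (isConj_iff.mpr ⟨((y : C) : G), by simp⟩))
    let σ : Equiv.Perm Z3 := Equiv.ofBijective (fun x => ⟨_, hmove x⟩)
      (Finite.injective_iff_bijective.mp fun a b e => Subtype.ext (by
        simpa using congrArg Subtype.val e))
    have hit : ∀ (k : ℕ) (x : Z3), (((σ ^ k) x : Z3) : C) = (y : C) ^ k * x * ((y : C) ^ k)⁻¹ := by
      intro k
      induction k with
      | zero => intro x; simp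
      | succ k ih =>
        intro x
        rw [pow_succ', Equiv.Perm.mul_apply]
        show (y : C) * ((σ ^ k) x : Z3) * (y : C)⁻¹ = _
        rw [ih, pow_succ']; group
    obtain ⟨j, hj⟩ := S.2 y
    have hj' : (y : C) ^ 2 ^ j = 1 := congrArg Subtype.val hj
    have hσ : σ ^ 2 ^ j = 1 := Equiv.ext fun x => Subtype.ext (by rw [hit, hj']; simp)
    letI := Fintype.ofFinite ↑Z3
    have h3 : ¬ 2 ∣ Fintype.card Z3 := by
      have : Fintype.card Z3 = 3 := by
        rw [← Set.toFinset_card, show Z3.toFinset = {zC, uC, zC * uC} by ext; simp [hZ3]]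
        rw [Finset.card_insert_of_notMem, Finset.card_pair]
        · exact fun e => P.hj.z_ne (mul_eq_right.mp (congrArg Subtype.val e).symm)
        · simp only [Finset.mem_insert, Finset.mem_singleton, not_or]
          exact ⟨fun e => hu.2.2.2 (congrArg Subtype.val e).symm,
            fun e => hu.2.2.1 (mul_eq_left.mp (congrArg Subtype.val e).symm)⟩
      omega
    obtain ⟨x, hx⟩ := Equiv.Perm.exists_fixed_point_of_prime h3 hσ
    exact hyA (Subgroup.mem_subgroupOf.mpr (hcentw _ x.2 _
      (mul_inv_eq_iff_eq_mul.mp (congrArg Subtype.val hx))))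
  have hSab : IsMulCommutative (S : Subgroup C) := ⟨⟨fun a b => Subtype.ext (hAab _ (hSA ▸ a.2) _ (hSA ▸ b.2)).eq⟩⟩
  have hoddidx : ¬ 2 ∣ A.index := hSA ▸ S.not_dvd_index
  -- the normalizer acts trivially modulo `W`
  set N := Subgroup.normalizer (A : Set C) with hN
  have hNW : ∀ n ∈ N, ∀ x ∈ W, n * x * n⁻¹ ∈ W := by
    intro n hn x hx
    rcases hWcases x hx with rfl | e
    · simp
    have hx' : x ∈ A ∧ IsConj z (x : G) := by
      rcases e with rfl | rfl | rfl
      · exact ⟨hWA hx, IsConj.refl z⟩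
      · exact ⟨hWA hx, P.hj.isConj_invs hu⟩
      · exact ⟨hWA hx, P.hj.isConj_invs hzu_i⟩
    rcases hzA _ ((Subgroup.mem_normalizer_iff.mp hn _).mp hx'.1)
      (hx'.2.trans (isConj_iff.mpr ⟨(n : G), by simp⟩)) with e' | e' | e' <;> rw [e']
    · exact P.hj.z_mem
    · exact hu.1
    · exact hzu_i.1
  have hNmod : ∀ n ∈ N, ∀ a ∈ A, a⁻¹ * (n * a * n⁻¹) ∈ W := by
    intro n hn a ha
    -- the three nontrivial cosets: `t W` is fixed, so the other two are fixed
    have hk : ∃ k : ℕ, Odd k ∧ n ^ k ∈ A := by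
      refine ⟨(A.subgroupOf N).index, ?_, ?_⟩
      · rw [← Nat.not_even_iff_odd, even_iff_two_dvd]
        exact fun h2 => hoddidx (h2.trans (Subgroup.relIndex_dvd_index_of_le Subgroup.le_normalizer))
      · haveI : (A.subgroupOf N).Normal := Subgroup.normal_in_normalizer
        exact Subgroup.mem_subgroupOf.mp (Subgroup.pow_index_mem (A.subgroupOf N) ⟨n, hn⟩)
    obtain ⟨k, hkodd, hkA⟩ := hk
    by_contra hnot
    have hA4 : ∀ x ∈ A, x ∈ W ∨ tC⁻¹ * x ∈ W ∨ a⁻¹ * x ∈ W ∨ (tC * a)⁻¹ * x ∈ W := by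
      intro x hx
      by_contra hcon
      push Not at hcon
      -- five cosets are too many
      have htt : tC * tC = 1 := Subtype.ext P.outer.sq
      set reps : Finset C := {1, tC, a, tC * a, x} with hreps
      have haW : a ∉ W := fun h => hnot (mul_mem (inv_mem h) (hNW n hn a h))
      have htaW : tC⁻¹ * a ∉ W := by
        intro h
        refine hnot ?_
        have e : a = tC * (tC⁻¹ * a) := by group
        set w := tC⁻¹ * a with hw
        have hnt : n * tC * n⁻¹ = tC := Subtype.ext (by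
          show (n : G) * t * (n : G)⁻¹ = t
          rw [← (hCt n).eq, mul_inv_cancel_right])
        rw [e, show n * (tC * w) * n⁻¹ = (n * tC * n⁻¹) * (n * w * n⁻¹) by group, hnt,
          show (tC * w)⁻¹ * (tC * (n * w * n⁻¹)) = w⁻¹ * (n * w * n⁻¹) by group]
        exact mul_mem (inv_mem h) (hNW n hn w h)
      have hdiff : ∀ p ∈ reps, ∀ q ∈ reps, p ≠ q → p⁻¹ * q ∉ W := by
        have hinvW : ∀ {p q : C}, p⁻¹ * q ∈ W → q⁻¹ * p ∈ W := fun h => by simpa using inv_mem h
        have htaW2 : tC * a ∉ W := by rwa [inv_eq_of_mul_eq_one_right htt] at htaW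
        have base : ∀ p q : C, (p = 1 ∧ q = tC) ∨ (p = 1 ∧ q = a) ∨ (p = 1 ∧ q = tC * a) ∨ (p = 1 ∧ q = x) ∨
            (p = tC ∧ q = a) ∨ (p = tC ∧ q = tC * a) ∨ (p = tC ∧ q = x) ∨ (p = a ∧ q = tC * a) ∨
            (p = a ∧ q = x) ∨ (p = tC * a ∧ q = x) → p⁻¹ * q ∉ W := by
          rintro p q (⟨rfl, rfl⟩ | ⟨rfl, rfl⟩ | ⟨rfl, rfl⟩ | ⟨rfl, rfl⟩ | ⟨rfl, rfl⟩ | ⟨rfl, rfl⟩ |
            ⟨rfl, rfl⟩ | ⟨rfl, rfl⟩ | ⟨rfl, rfl⟩ | ⟨rfl, rfl⟩)
          · simpa using htW
          · simpa using haW
          · simpa using htaW2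
          · simpa using hcon.1
          · exact htaW
          · simpa using haW
          · exact hcon.2.1
          · rw [← mul_assoc, ((hAab _ (inv_mem ha) _ htA).eq), inv_mul_cancel_right]; exact htW
          · exact hcon.2.2.1
          · exact hcon.2.2.2
        intro p hp q hq hpq
        simp only [hreps, Finset.mem_insert, Finset.mem_singleton] at hp hq
        have h1 := base p q
        have h2 := base q p
        by_contra hmem
        have hmem' := hinvW hmem
        rcases hp with hp | hp | hp | hp | hp <;> rcases hq with hq | hq | hq | hq | hq <;>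
          first
            | exact hpq (hp.trans hq.symm)
            | (refine h1 ?_ hmem; simp [hp, hq]; done)
            | (refine h2 ?_ hmem'; simp [hp, hq]; done)
      have hne : (A.subgroupOf A).index = 1 := by simp
      have h5 : reps.card = 5 := by
        have hne' : ∀ p q : C, p⁻¹ * q ∉ W → p ≠ q := fun p q h e => h (by rw [e, inv_mul_cancel]; exact one_mem W)
        have htaW2 : tC * a ∉ W := by rwa [inv_eq_of_mul_eq_one_right htt] at htaW
        rw [hreps, Finset.card_insert_of_notMem, Finset.card_insert_of_notMem, Finset.card_insert_of_notMem,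
          Finset.card_pair]
        · exact hne' _ _ hcon.2.2.2
        · simp only [Finset.mem_insert, Finset.mem_singleton, not_or]
          exact ⟨fun e => htW (by rw [show tC = tC * a * a⁻¹ by group, ← e, mul_inv_cancel]; exact one_mem W), hne' _ _ hcon.2.2.1⟩
        · simp only [Finset.mem_insert, Finset.mem_singleton, not_or]
          refine ⟨hne' _ _ htaW, fun e => haW ?_, hne' _ _ hcon.2.1⟩
          rw [show a = tC⁻¹ * (tC * a) by group, ← e, inv_mul_cancel]; exact one_mem W
        · simp only [Finset.mem_insert, Finset.mem_singleton, not_or]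
          exact ⟨fun e => htW (e ▸ one_mem W), fun e => haW (e ▸ one_mem W),
            fun e => htaW2 (e ▸ one_mem W), fun e => hcon.1 (e ▸ one_mem W)⟩
      have hrA : ∀ p ∈ reps, p ∈ A := by
        intro p hp
        simp only [hreps, Finset.mem_insert, Finset.mem_singleton] at hp
        rcases hp with rfl | rfl | rfl | rfl | rfl
        exacts [one_mem A, htA, ha, mul_mem htA ha, hx]
      let f : reps × W → A := fun p => ⟨(p.1 : C) * p.2, mul_mem (hrA _ p.1.2) (hWA p.2.2)⟩
      have hf : Function.Injective f := by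
        rintro ⟨⟨p, hp⟩, ⟨v, hv⟩⟩ ⟨⟨q, hq⟩, ⟨v', hv'⟩⟩ e
        have e' : p * v = q * v' := congrArg Subtype.val e
        by_cases hpq : p = q
        · subst hpq
          have := mul_left_cancel e'
          subst this; rfl
        · exact absurd (by
            rw [show p⁻¹ * q = v * v'⁻¹ by
              rw [show q = p * v * v'⁻¹ by rw [e']; group]; group]
            exact mul_mem hv (inv_mem hv')) (hdiff p hp q hq hpq)
      have := Nat.card_le_card_of_injective f hf
      rw [Nat.card_prod, Nat.card_eq_finsetCard, h5, hW4, hA16] at this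
      omega
    -- `n` maps `a W` to `t a W`
    have htaW : ∀ x : C, x ∈ A → tC * x * (x⁻¹ * tC⁻¹) = 1 := fun x _ => by group
    have hna := (Subgroup.mem_normalizer_iff.mp hn a).mp ha
    have hstep : (tC * a)⁻¹ * (n * a * n⁻¹) ∈ W := by
      rcases hA4 _ hna with h | h | h | h
      · exfalso
        refine hnot (mul_mem (inv_mem ?_) h)
        have := hNW n⁻¹ (inv_mem hn) _ h
        simpa [mul_assoc] using this
      · exfalso
        have hn' := hNW n⁻¹ (inv_mem hn) _ h
        have e : n⁻¹ * (tC⁻¹ * (n * a * n⁻¹)) * n⁻¹⁻¹ = tC⁻¹ * a := by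
          have hnt : n * tC = tC * n := Subtype.ext (hCt n).eq.symm
          calc n⁻¹ * (tC⁻¹ * (n * a * n⁻¹)) * n⁻¹⁻¹ = (tC * n)⁻¹ * n * a := by group
            _ = (n * tC)⁻¹ * n * a := by rw [hnt]
            _ = tC⁻¹ * a := by group
        rw [e] at hn'
        refine hnot ?_
        set w := tC⁻¹ * a with hw
        have hnt : n * tC * n⁻¹ = tC := Subtype.ext (by
          show (n : G) * t * (n : G)⁻¹ = t
          rw [← (hCt n).eq, mul_inv_cancel_right])
        rw [show a = tC * w by rw [hw]; group, show n * (tC * w) * n⁻¹ = (n * tC * n⁻¹) * (n * w * n⁻¹) by group, hnt,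
          show (tC * w)⁻¹ * (tC * (n * w * n⁻¹)) = w⁻¹ * (n * w * n⁻¹) by group]
        exact mul_mem (inv_mem hn') (hNW n hn w hn')
      · exact absurd h hnot
      · exact h
    have hiter : ∀ j : ℕ, (tC ^ j * a)⁻¹ * (n ^ j * a * (n ^ j)⁻¹) ∈ W := by
      intro j
      induction j with
      | zero => simp
      | succ j ih =>
        set w := (tC ^ j * a)⁻¹ * (n ^ j * a * (n ^ j)⁻¹) with hw
        have e : n ^ j * a * (n ^ j)⁻¹ = tC ^ j * a * w := by rw [hw]; group
        set v := (tC * a)⁻¹ * (n * a * n⁻¹) with hv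
        have hnt : n * tC ^ j * n⁻¹ = tC ^ j := by
          have : Commute n (tC ^ j) := (show Commute n tC from Subtype.ext (hCt n).eq.symm).pow_right j
          rw [this.eq, mul_inv_cancel_right]
        have e2 : n ^ (j + 1) * a * (n ^ (j + 1))⁻¹ = tC ^ (j + 1) * a * v * (n * w * n⁻¹) := by
          calc n ^ (j + 1) * a * (n ^ (j + 1))⁻¹ = n * (n ^ j * a * (n ^ j)⁻¹) * n⁻¹ := by
                rw [pow_succ']; group
            _ = (n * tC ^ j * n⁻¹) * (n * a * n⁻¹) * (n * w * n⁻¹) := by rw [e]; group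
            _ = tC ^ j * (tC * a * v) * (n * w * n⁻¹) := by rw [hnt, hv]; group
            _ = _ := by rw [pow_succ]; group
        rw [e2, show (tC ^ (j + 1) * a)⁻¹ * (tC ^ (j + 1) * a * v * (n * w * n⁻¹)) = v * (n * w * n⁻¹) by group]
        exact mul_mem hstep (hNW n hn w ih)
    obtain ⟨i, hi⟩ := hkodd
    have hlast := hiter k
    rw [show n ^ k * a * (n ^ k)⁻¹ = a by rw [(hAab _ hkA _ ha).eq, mul_inv_cancel_right],
      hi, pow_succ, pow_mul, show tC ^ 2 = 1 by rw [pow_two]; exact Subtype.ext P.outer.sq,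
      one_pow, one_mul, mul_inv_rev, mul_assoc] at hlast
    have e : a⁻¹ * (tC⁻¹ * a) = tC⁻¹ := by
      rw [(hAab _ (inv_mem htA) _ ha).eq, inv_mul_cancel_left]
    rw [e, inv_mem_iff] at hlast
    exact htW hlast
  -- the residual meets `A` in `W`
  set M := Cfsg.pResidual 2 C with hM
  have hfocal : (S : Subgroup C) ⊓ M = W := by
    rw [hM, Transfer.sylow_inf_pResidual_eq_focalSubgroup_of_abelian S hSab,
      Transfer.focalSubgroup_eq_commutator_normalizer_of_abelian S hSab, hSA]
    refine le_antisymm (Subgroup.commutator_le.mpr fun a ha n hn => ?_) ?_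
    · have := hNmod n hn a⁻¹ (inv_mem ha)
      rw [inv_inv] at this
      simpa [commutatorElement_def, mul_assoc] using this
    · have hin : ∀ w : C, (w = uC ∨ w = zC * uC) → zC * w ∈ ⁅A, N⁆ := by
        intro w hw
        have hwz : IsConj z (w : G) ∧ Commute t (w : G) ∧ w ∈ A := by
          rcases hw with rfl | rfl
          · exact ⟨P.hj.isConj_invs hu, hut, (memA _).mpr hzu⟩
          · exact ⟨P.hj.isConj_invs hzu_i, htz.mul_right hut, (memA _).mpr (P.hj.z_comm hzu_i.1)⟩
        obtain ⟨c, hct, hc⟩ := P.conj_in hwz.1 hwz.2.1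
        obtain ⟨n, hn, he⟩ := Transfer.conj_normalizer_of_abelian S hSab (x := zC) (g := ⟨c, toC hct⟩)
          (hSA.symm ▸ (memA zC).mpr (Commute.refl z))
          (hSA.symm ▸ (show (⟨c, toC hct⟩ : C) * zC * (⟨c, toC hct⟩ : C)⁻¹ = w from Subtype.ext hc) ▸ hwz.2.2)
        rw [show (⟨c, toC hct⟩ : C) * zC * (⟨c, toC hct⟩ : C)⁻¹ = w from Subtype.ext hc] at he
        rw [hSA] at hn
        have hzz : zC⁻¹ = zC := Subtype.ext P.hj.z_inv
        have e : ⁅zC, n⁆ = zC * w⁻¹ := by rw [← he, commutatorElement_def]; group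
        have hwi : w⁻¹ = w := by
          refine inv_eq_of_mul_eq_one_right (hWsq w ?_)
          rcases hw with rfl | rfl
          exacts [hu.1, hzu_i.1]
        rw [hwi] at e
        rw [← e]
        exact Subgroup.commutator_mem_commutator ((memA zC).mpr (Commute.refl z)) hn
      have h1 := hin uC (Or.inl rfl)
      have h2 := hin (zC * uC) (Or.inr rfl)
      have hzz : zC * zC = 1 := Subtype.ext P.hj.z_sq
      rw [← mul_assoc, hzz, one_mul] at h2
      have hz' : zC ∈ ⁅A, N⁆ := by
        have := mul_mem h1 h2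
        rwa [mul_assoc, show uC * uC = 1 from Subtype.ext hu.2.1, mul_one] at this
      intro x hx
      rcases hWcases x hx with rfl | rfl | rfl | rfl
      exacts [one_mem _, hz', h2, h1]
  have hWM : W ≤ M := hfocal ▸ inf_le_right
  have hMsup : (S : Subgroup C) ⊔ M = ⊤ := Transfer.sylow_sup_pResidual_eq_top S
  haveI hMn : M.Normal := by rw [hM]; infer_instance
  have hMidx : M.index = 4 := by
    have h1 : M.relIndex ((S : Subgroup C) ⊔ M) = M.relIndex (S : Subgroup C) := Subgroup.relIndex_sup_right _ _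
    rw [hMsup, Subgroup.relIndex_top_right, ← Subgroup.inf_relIndex_left, hfocal, hSA,
      Subgroup.relIndex] at h1
    have h2 := (W.subgroupOf A).card_mul_index
    rw [Nat.card_congr (Subgroup.subgroupOfEquivOfLe hWA).toEquiv, hW4, hA16] at h2
    omega
  -- every element squares into `M`
  have hCdec : ∀ x : C, ∃ a ∈ A, ∃ m ∈ M, x = a * m := by
    intro x
    obtain ⟨a, ha, m, hm, e⟩ := Subgroup.mem_sup_of_normal_right.mp (hMsup.ge (Subgroup.mem_top x))
    exact ⟨a, hSA ▸ ha, m, hm, e.symm⟩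
  have hsqM : ∀ x : C, x * x ∈ M := by
    intro x
    obtain ⟨a, ha, m, hm, rfl⟩ := hCdec x
    rw [show a * m * (a * m) = (a * a) * ((a⁻¹ * m * a⁻¹⁻¹) * m) by group]
    exact mul_mem (hWM (hAsq a ha)) (mul_mem (hMn.conj_mem m hm a⁻¹) hm)
  have htM : tC ∉ M := fun h => htW (hfocal ▸ Subgroup.mem_inf.mpr ⟨hSA.symm ▸ htA, h⟩)
  -- conjugates of `z` in `C` lie in `M`
  have hzclass : ∀ x : C, IsConj z (x : G) → x ∈ M ∧ ∃ m ∈ M, m * zC * m⁻¹ = x := by
    intro x hx
    obtain ⟨c, hct, hc⟩ := P.conj_in hx (hCt x)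
    obtain ⟨a, ha, m, hm, e⟩ := hCdec ⟨c, toC hct⟩
    have e' : a * m * zC * (a * m)⁻¹ = x := by rw [← e]; exact Subtype.ext hc
    have hzW : zC ∈ W := P.hj.z_mem
    refine ⟨e' ▸ hMn.conj_mem _ (hWM hzW) _, a * m * a⁻¹, hMn.conj_mem m hm a, ?_⟩
    rw [← e']
    have haz : Commute a⁻¹ zC := (show Commute zC a⁻¹ from hAab _ (hWA hzW) _ (inv_mem ha)).symm
    calc a * m * a⁻¹ * zC * (a * m * a⁻¹)⁻¹ = a * m * (a⁻¹ * zC) * a * (a * m)⁻¹ := by group
      _ = a * m * (zC * a⁻¹) * a * (a * m)⁻¹ := by rw [haz.eq]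
      _ = _ := by group
  -- the four-group hypothesis in `M`
  have hWinM : Nat.card ↥(W.subgroupOf M) = 4 := by
    rw [Nat.card_congr (Subgroup.subgroupOfEquivOfLe hWM).toEquiv, hW4]
  have hF : FourHyp (W.subgroupOf M) := by
    refine ⟨hWinM, fun w hw => Subtype.ext (hWsq w hw), fun w hw hw1 => ?_, fun s hs w hw hw1 => ?_⟩
    · ext y
      rw [Subgroup.mem_centralizer_singleton_iff, Subgroup.mem_subgroupOf]
      have hwc : (w : C) = zC ∨ (w : C) = uC ∨ (w : C) = zC * uC :=
        (hWcases _ hw).resolve_left fun e => hw1 (Subtype.ext e)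
      constructor
      · intro hy
        exact hfocal ▸ Subgroup.mem_inf.mpr ⟨hSA.symm ▸ hcentw _ hwc _ (congrArg Subtype.val hy), y.2⟩
      · intro hy
        exact Subtype.ext (hAab _ (hWA hy) _ (hWA hw)).eq
    · -- an involution of `M` is conjugate into `W`
      have hs2 : orderOf (s : C) = 2 := by rw [Subgroup.orderOf_coe]; exact hs
      have hp : IsPGroup 2 (Subgroup.zpowers (s : C)) :=
        IsPGroup.of_card (n := 1) (by rw [Nat.card_zpowers, hs2, pow_one])
      obtain ⟨T, hT⟩ := hp.exists_le_sylow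
      obtain ⟨g, hg⟩ := MulAction.exists_smul_eq C T S
      have hmem : g * (s : C) * g⁻¹ ∈ W := by
        refine hfocal ▸ Subgroup.mem_inf.mpr ⟨?_, hMn.conj_mem _ s.2 g⟩
        rw [← hg, Sylow.smul_def, Sylow.pointwise_smul_def]
        exact Subgroup.smul_mem_pointwise_smul _ (MulAut.conj g) _ (hT (Subgroup.mem_zpowers _))
      have hne : g * (s : C) * g⁻¹ ≠ 1 := fun e => by
        rw [conj_eq_one_iff] at e; rw [e, orderOf_one] at hs2; omega
      have hconjW : ∀ x ∈ W, x ≠ 1 → IsConj z (x : G) := by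
        intro x hx hx1
        rcases (hWcases x hx).resolve_left hx1 with rfl | rfl | rfl
        exacts [IsConj.refl z, P.hj.isConj_invs hu, P.hj.isConj_invs hzu_i]
      obtain ⟨-, m1, hm1, e1⟩ := hzclass (s : C) ((hconjW _ hmem hne).trans
        (isConj_iff.mpr ⟨((g : C) : G)⁻¹, by simp [mul_assoc]⟩))
      obtain ⟨-, m2, hm2, e2⟩ := hzclass (w : C) (hconjW _ hw (fun e => hw1 (Subtype.ext e)))
      refine isConj_iff.mpr ⟨⟨m1 * m2⁻¹, mul_mem hm1 (inv_mem hm2)⟩, Subtype.ext ?_⟩
      show m1 * m2⁻¹ * (w : C) * (m1 * m2⁻¹)⁻¹ = s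
      rw [← e1, ← e2]; group
  have hcardC : Nat.card C = 4 * Nat.card M := by rw [← M.card_mul_index, hMidx, mul_comm]
  refine ⟨⟨M, A, W, hMn, hcardC, hWM, hF, fun x hx => (hzclass x hx).1, hA16, hAab, hSA ▸ hfocal,
    hAsq, fun x hx => (memA x).mpr hx⟩, ?_, fun n hn => ?_⟩
  · rcases hF.card_eq with e | e
    · left; rw [hcardC, e]
    · right; rw [hcardC, e]
  -- counting
  set X : Set C := {x | IsConj z (x : G)} with hX
  have hXc : Nat.card X = n := by
    have h1 := S1875.card_class zC
    have e1 : Nat.card {x : C // IsConj zC x} = Nat.card X := Nat.card_congr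
      (Equiv.subtypeEquivRight fun x => ⟨fun h => by
        obtain ⟨c, hc⟩ := isConj_iff.mp h
        exact isConj_iff.mpr ⟨(c : G), congrArg Subtype.val hc⟩, fun h => by
        obtain ⟨-, m, -, hm⟩ := hzclass x h
        exact isConj_iff.mpr ⟨m, hm⟩⟩)
    have e2 : Nat.card ↥(Subgroup.centralizer ({zC} : Set C)) = 16 := by
      rw [← hA16]
      refine Nat.card_congr (Equiv.subtypeEquivRight fun x => ?_)
      rw [Subgroup.mem_centralizer_singleton_iff]
      exact ⟨fun h => (memA x).mpr (congrArg Subtype.val h).symm, fun h => Subtype.ext ((memA x).mp h).eq.symm⟩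
    rw [e1, e2, hn] at h1
    omega
  letI := Fintype.ofFinite C
  have hord : ∀ {a b : G}, IsConj a b → orderOf a = 2 → b * b = 1 := fun h ha => by
    rw [← pow_two, ← ha, ← isConj_orderOf h, pow_orderOf_eq_one]
  have hXM : ∀ x : C, x ∈ X → ∃ hx : x ∈ M, orderOf (⟨x, hx⟩ : M) = 2 := fun x hx => by
    refine ⟨(hzclass x hx).1, ?_⟩
    rw [← Subgroup.orderOf_coe, ← Subgroup.orderOf_coe]
    exact (isConj_orderOf hx).trans P.hj.z_order
  have hMX : ∀ s : M, orderOf s = 2 → (s : C) ∈ X := fun s hs => by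
    have hzW : (⟨zC, hWM (P.hj.z_mem)⟩ : M) ∈ W.subgroupOf M := P.hj.z_mem
    have hz1 : (⟨zC, hWM (P.hj.z_mem)⟩ : M) ≠ 1 := fun e =>
      P.hj.z_ne (congrArg (fun w : M => ((w : C) : G)) e)
    obtain ⟨g, hg⟩ := isConj_iff.mp (hF.one_class s hs _ hzW hz1)
    exact isConj_iff.mpr ⟨((g : C) : G), congrArg (fun w : M => ((w : C) : G)) hg⟩
  set R : C → C → Prop := fun a b => a = b ∨ ¬ Commute a b with hR
  have e : {p : G × G // IsConj z p.1 ∧ IsConj t p.2 ∧ t ∈ Subgroup.zpowers (p.1 * p.2)} ≃
      {q : X × X // R q.1 q.2} := by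
    have fwd : ∀ p : {p : G × G // IsConj z p.1 ∧ IsConj t p.2 ∧ t ∈ Subgroup.zpowers (p.1 * p.2)},
        ∃ q : {q : X × X // R q.1 q.2}, ((q.1.1 : C) : G) = p.1.1 ∧ t * ((q.1.2 : C) : G) = p.1.2 := by
      rintro ⟨⟨a, b⟩, ha, hb, hm⟩
      simp only at ha hb hm ⊢
      have haa : a * a = 1 := hord ha P.hj.z_order
      have hbb : b * b = 1 := hord hb P.outer.order
      obtain ⟨k, hk⟩ := Subgroup.mem_zpowers_iff.mp hm
      have hai : a⁻¹ = a := inv_eq_of_mul_eq_one_right haa
      have hbi : b⁻¹ = b := inv_eq_of_mul_eq_one_right hbb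
      have hti : t⁻¹ = t := P.outer.inv_eq
      have hta : Commute t a := by
        have h1 : a * (a * b) ^ k * a⁻¹ = ((a * b) ^ k)⁻¹ := by
          rw [← conj_zpow, ← inv_zpow, mul_inv_rev, hai, hbi]
          congr 1
          calc a * (a * b) * a = (a * a) * (b * a) := by group
            _ = b * a := by rw [haa, one_mul]
        rw [hk, hti, mul_inv_eq_iff_eq_mul] at h1
        exact h1.symm
      have htb : Commute t b := by
        have := hta.mul_right (show Commute t (a * b) by rw [← hk]; exact (Commute.refl (a * b)).zpow_left k)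
        rwa [← mul_assoc, haa, one_mul] at this
      have hab : Commute t (a * b) := hta.mul_right htb
      -- the exponent is odd
      have hodd : Odd k := by
        rw [← Int.not_even_iff_odd]
        rintro ⟨j, rfl⟩
        refine htM ?_
        have : tC = (⟨(a * b) ^ j, toC (hab.zpow_right j)⟩ : C) * ⟨(a * b) ^ j, toC (hab.zpow_right j)⟩ :=
          Subtype.ext (by show t = _ * _; rw [← zpow_add, hk])
        rw [this]; exact hsqM _
      obtain ⟨j, rfl⟩ := hodd
      have hconj : (a * b) ^ j * a * ((a * b) ^ j)⁻¹ = t * b := by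
        have h1 : a * ((a * b) ^ j)⁻¹ = (a * b) ^ j * a := by
          have h2 : a * (a * b) ^ j * a⁻¹ = ((a * b) ^ j)⁻¹ := by
            rw [← conj_zpow, ← inv_zpow, mul_inv_rev, hai, hbi]
            congr 1
            calc a * (a * b) * a = (a * a) * (b * a) := by group
              _ = b * a := by rw [haa, one_mul]
          rw [← h2, hai]
          calc a * (a * (a * b) ^ j * a) = (a * a) * (a * b) ^ j * a := by group
            _ = (a * b) ^ j * a := by rw [haa, one_mul]
        rw [mul_assoc, h1, ← mul_assoc, ← hk, two_mul, zpow_add, zpow_one, zpow_add]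
        calc (a * b) ^ j * (a * b) ^ j * a = (a * b) ^ j * (a * b) ^ j * a * (b * b) := by rw [hbb, mul_one]
          _ = _ := by group
      have hts : IsConj z (t * b) := ha.trans (isConj_iff.mpr ⟨_, hconj⟩)
      refine ⟨⟨(⟨⟨a, toC hta⟩, ha⟩, ⟨⟨t * b, toC ((Commute.refl t).mul_right htb)⟩, hts⟩), ?_⟩, rfl, ?_⟩
      · by_contra hne
        simp only [hR, not_or, not_not] at hne
        obtain ⟨hne, hcomm⟩ := hne
        have hc : Commute a (t * b) := congrArg Subtype.val hcomm.eq
        have hab2 : (a * b) * (a * b) = 1 := by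
          have hc2 : Commute a b := by
            have := hta.symm.mul_right hc
            rwa [← mul_assoc, P.outer.sq, one_mul] at this
          rw [hc2.symm.mul_mul_mul_comm, haa, hbb, one_mul]
        apply hne
        refine Subtype.ext ?_
        show a = t * b
        rw [← hk, zpow_add, zpow_mul, zpow_two, hab2, one_zpow, one_mul, zpow_one, mul_assoc, hbb, mul_one]
      · show t * (t * b) = b
        rw [← mul_assoc, P.outer.sq, one_mul]
    choose fq hfq1 hfq2 using fwd
    refine Equiv.ofBijective fq ⟨fun p p' e => ?_, fun q => ?_⟩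
    · refine Subtype.ext (Prod.ext ?_ ?_)
      · rw [← hfq1, ← hfq1, e]
      · rw [← hfq2, ← hfq2, e]
    · obtain ⟨⟨⟨⟨a, haC⟩, ha⟩, ⟨⟨s, hsC⟩, hs⟩⟩, hRq⟩ := q
      have hta : Commute t a := hCt ⟨a, haC⟩
      have hts : Commute t s := hCt ⟨s, hsC⟩
      have hm : t ∈ Subgroup.zpowers (a * (t * s)) := by
        have e1 : a * (t * s) = t * (a * s) := by rw [← mul_assoc, ← hta.eq, mul_assoc]
        rw [e1]
        have hodd : Odd (orderOf (a * s)) := by
          rcases hRq with e | hnc
          · have e' : a = s := congrArg Subtype.val e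
            rw [← e', hord ha P.hj.z_order, orderOf_one]; exact odd_one
          · by_contra heven
            obtain ⟨haM, hao⟩ := hXM _ ha
            obtain ⟨hsM, hso⟩ := hXM _ hs
            set am : M := ⟨_, haM⟩
            set sm : M := ⟨_, hsM⟩
            have ho' : orderOf (am * sm) = orderOf (a * s) := by
              rw [← Subgroup.orderOf_coe, ← Subgroup.orderOf_coe]; rfl
            obtain ⟨i, hi, hi2⟩ := FourHyp.exists_inv_of_even (H := Subgroup.zpowers (am * sm))
              (by rwa [Nat.card_zpowers, ho'])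
            obtain ⟨k, rfl⟩ := Subgroup.mem_zpowers_iff.mp hi
            have hc1 : Commute ((am * sm) ^ k) (am * sm) := (Commute.refl _).zpow_left k
            have hsq := hF.sq_of_commute_inv hi2 hc1
            apply hnc
            have hai : am⁻¹ = am := inv_eq_of_mul_eq_one_right (by rw [← pow_two, ← hao, pow_orderOf_eq_one])
            have hsi : sm⁻¹ = sm := inv_eq_of_mul_eq_one_right (by rw [← pow_two, ← hso, pow_orderOf_eq_one])
            have := inv_eq_of_mul_eq_one_right hsq
            rw [mul_inv_rev, hai, hsi] at this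
            exact (congrArg Subtype.val this).symm
        refine Subgroup.mem_zpowers_iff.mpr ⟨(orderOf (a * s) : ℤ), ?_⟩
        rw [zpow_natCast, (hta.mul_right hts).mul_pow, pow_orderOf_eq_one, mul_one]
        obtain ⟨i, hi⟩ := hodd
        rw [hi, pow_succ, pow_mul, pow_two, P.outer.sq, one_pow, one_mul]
      refine ⟨⟨(a, t * s), ha, P.mul_conj hs hts, hm⟩, Subtype.ext (Prod.ext ?_ ?_)⟩
      · exact Subtype.ext (Subtype.ext (hfq1 _))
      · refine Subtype.ext (Subtype.ext ?_)
        exact mul_left_cancel ((hfq2 ⟨(a, t * s), ha, P.mul_conj hs hts, hm⟩).trans rfl)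
  rw [Nat.card_congr e, Nat.card_eq_fintype_card, Fintype.card_subtype]
  have hone : ∀ a : X, (Finset.univ.filter fun b : X => R a b).card = n - 2 := by
    intro a
    have h3 : (Finset.univ.filter fun b : X => Commute (a : C) b).card = 3 := by
      obtain ⟨haM, hao⟩ := hXM _ a.2
      have h4 := hF.card_cent_inv hao
      set am : M := ⟨_, haM⟩
      have hcong : Nat.card {b : X // Commute (a : C) b} = Nat.card {m : Subgroup.centralizer ({am} : Set M) // m ≠ 1} := by
        refine Nat.card_congr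
          { toFun := fun b => ⟨⟨⟨(b.1 : C), (hzclass _ b.1.2).1⟩, Subgroup.mem_centralizer_singleton_iff.mpr (Subtype.ext b.2.eq.symm)⟩, ?_⟩
            invFun := fun m => ⟨⟨((m.1 : M) : C), hMX _ ?_⟩, ?_⟩
            left_inv := fun _ => rfl
            right_inv := fun _ => rfl }
        · intro e
          have hb : ((b.1 : C) : G) = 1 := congrArg (fun m : Subgroup.centralizer ({am} : Set M) => (((m : M) : C) : G)) e
          have := (isConj_orderOf b.1.2).trans P.hj.z_order
          rw [hb, orderOf_one] at this; omega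
        · refine orderOf_eq_prime ?_ (fun e => m.2 (Subtype.ext e))
          rw [pow_two]
          exact hF.sq_of_commute_inv hao (Subgroup.mem_centralizer_singleton_iff.mp m.1.2).symm
        · exact congrArg Subtype.val (Subgroup.mem_centralizer_singleton_iff.mp m.1.2).symm
      have hne1 : Nat.card {m : Subgroup.centralizer ({am} : Set M) // m ≠ 1} = 3 := by
        letI := Fintype.ofFinite (Subgroup.centralizer ({am} : Set M))
        rw [Nat.card_eq_fintype_card, Fintype.card_subtype_compl, Fintype.card_subtype_eq]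
        rw [Nat.card_eq_fintype_card] at h4
        omega
      rw [← hne1, ← hcong, Nat.card_eq_fintype_card, Fintype.card_subtype]
    have h1 : (Finset.univ.filter fun b : X => R a b) =
        insert a ((Finset.univ.filter fun b : X => Commute (a : C) b)ᶜ) := by
      ext b
      simp [hR, eq_comm (a := (a : C)), Subtype.coe_inj]
    rw [h1, Finset.card_insert_of_notMem (by simp), Finset.card_compl, h3, ← Nat.card_eq_fintype_card, hXc]
    have : 3 ≤ n := by
      rw [← hXc, ← h3, Nat.card_eq_fintype_card]; exact Finset.card_le_univ _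
    omega
  have key : (Finset.univ.filter fun q : X × X => R q.1 q.2).card =
      ∑ a : X, (Finset.univ.filter fun b : X => R a b).card := by
    simp only [Finset.card_filter]
    exact Fintype.sum_prod_type _
  calc _ = ∑ a : X, (Finset.univ.filter fun b : X => R a b).card := by convert key
    _ = n * (n - 2) := by
      rw [Finset.sum_congr rfl (fun a _ => hone a), Finset.sum_const, Finset.card_univ,
        ← Nat.card_eq_fintype_card, hXc, smul_eq_mul]

end Pair

end Cfsg.Agent.J2Order38
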