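import Cfsg.Prelude.Def_MonsterType
import Cfsg.Agent.Lib.PGroup.Extraspecial
import Mathlib

/-!
Nonabelian groups of order twenty-seven.
-/

set_option autoImplicit false

namespace Cfsg.Agent.J2Order38

open Subgroup

theorem extraspecial_of_card {P : Type*} [Group P] [Finite P] (hP : Nat.card P = 27)
    (hna : ¬ ∀ a b : P, Commute a b) :
    Cfsg.IsExtraspecial 3 P ∧ Nat.card ↥(Subgroup.center P) = 3 := by
  haveI : Fact (Nat.Prime 3) := ⟨Nat.prime_three⟩
  have hp : IsPGroup 3 P := IsPGroup.of_card (n := 3) (by rw [hP]; norm_num)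
  have hnc : ¬ IsCyclic (P ⧸ Subgroup.center P) := fun hc => hna fun a b =>
    (isMulCommutative_of_isCyclic_quotient_center_self (G := P)).is_comm.comm a b
  have hmul := (Subgroup.center P).card_eq_card_quotient_mul_card_subgroup
  rw [hP] at hmul
  haveI : Nontrivial P := Finite.one_lt_card_iff_nontrivial.mp (by omega)
  have hc1 : 1 < Nat.card ↥(Subgroup.center P) :=
    Finite.one_lt_card_iff_nontrivial.mpr hp.center_nontrivial
  have hd : Nat.card ↥(Subgroup.center P) ∣ 3 ^ 3 := ⟨_, hmul.trans (mul_comm _ _)⟩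
  have h3 : Nat.card ↥(Subgroup.center P) = 3 := by
    obtain ⟨j, hj, e⟩ := (Nat.dvd_prime_pow Nat.prime_three).mp hd
    rw [e] at hmul hc1 ⊢
    interval_cases j
    · omega
    · rfl
    · exfalso
      exact hnc (isCyclic_of_prime_card (p := 3) (by omega))
    · exfalso
      haveI : Subsingleton (P ⧸ Subgroup.center P) := (Nat.card_eq_one_iff_unique.mp (by omega)).1
      exact hnc isCyclic_of_subsingleton
  have hq9 : Nat.card (P ⧸ Subgroup.center P) = 3 ^ 2 := by rw [h3] at hmul; omega
  have hqc := IsPGroup.isMulCommutative_of_card_eq_prime_sq hq9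
  have hle : commutator P ≤ Subgroup.center P := by
    rw [commutator_def, Subgroup.commutator_le]
    intro a _ b _
    rw [← QuotientGroup.eq_one_iff, ← QuotientGroup.mk'_apply, map_commutatorElement,
      commutatorElement_eq_one_iff_mul_comm]
    exact hqc.is_comm.comm _ _
  have heq : commutator P = Subgroup.center P := by
    refine Subgroup.eq_of_le_of_card_ge hle ?_
    rw [h3]
    have hd3 := Subgroup.card_dvd_of_le hle
    rw [h3] at hd3
    rcases (Nat.dvd_prime Nat.prime_three).mp hd3 with e | e
    · exfalso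
      apply hna
      intro a b
      have hm := Subgroup.commutator_mem_commutator (Subgroup.mem_top a) (Subgroup.mem_top b)
      rw [← commutator_def, Subgroup.card_eq_one.mp e, Subgroup.mem_bot,
        commutatorElement_eq_one_iff_mul_comm] at hm
      exact hm
    · omega
  refine ⟨⟨⟨hp, le_antisymm ?_ ?_, heq⟩, h3⟩, h3⟩
  · refine PGroup.frattini_le_of_quotient (p := 3) hle fun x => ?_
    rw [← QuotientGroup.eq_one_iff, ← QuotientGroup.mk'_apply, map_pow]
    by_contra hx
    apply hnc
    refine isCyclic_of_orderOf_eq_card (QuotientGroup.mk' (Subgroup.center P) x) ?_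
    have hdo := orderOf_dvd_natCard (QuotientGroup.mk' (Subgroup.center P) x)
    rw [hq9] at hdo ⊢
    obtain ⟨j, hj, e⟩ := (Nat.dvd_prime_pow Nat.prime_three).mp hdo
    rw [e]
    interval_cases j
    · exact absurd (orderOf_dvd_iff_pow_eq_one.mp (by rw [e]; norm_num)) hx
    · exact absurd (orderOf_dvd_iff_pow_eq_one.mp (by rw [e]; norm_num)) hx
    · rfl
  · rw [← heq]; exact PGroup.commutator_le_frattini hp

end Cfsg.Agent.J2Order38
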