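import Cfsg.Agent.J2Order38.TNormalizer
import Cfsg.Agent.J2Order38.A5Five

/-!
Elements of order five.
-/

set_option autoImplicit false

namespace Cfsg.Agent.J2Order38

open Subgroup

variable {G : Type*} [Group G] [Finite G]

instance fact_five : Fact (Nat.Prime 5) := ⟨Nat.prime_five⟩

theorem card_cent_conj (g x : G) :
    Nat.card ↥(Subgroup.centralizer ({g * x * g⁻¹} : Set G)) =
      Nat.card ↥(Subgroup.centralizer ({x} : Set G)) := by
  rw [← FourHyp.map_cent, Subgroup.card_map_of_injective (f := (MulAut.conj g).toMonoidHom)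
    (MulAut.conj g).injective]

theorem mem_zpowers_pow_eq {x y : G} (hy : y ∈ Subgroup.zpowers x) {k : ℕ} (hx : x ^ k = 1) :
    y ^ k = 1 := by
  obtain ⟨i, rfl⟩ := Subgroup.mem_zpowers_iff.mp hy
  rw [← zpow_natCast, ← zpow_mul, mul_comm, zpow_mul, zpow_natCast, hx, one_zpow]

/-- A five-element of `M` and a five-element of `H`. -/
structure FiveA (t : G) (M : Subgroup G) (x : G) : Prop where
  mem : x ∈ M
  order : orderOf x = 5

namespace TSplit

variable {z t : G} {V M : Subgroup G}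

theorem exists_fiveA (T : TSplit z t V M) : ∃ x, FiveA t M x := by
  obtain ⟨φ⟩ := T.alt
  obtain ⟨x, hx⟩ := exists_prime_orderOf_dvd_card' (G := M) 5 (by
    rw [Nat.card_congr φ.toEquiv, A5.card_eq]; norm_num)
  exact ⟨x, x.2, by rw [Subgroup.orderOf_coe]; exact hx⟩

/-- `C(v) ∩ C(x) = V ⟨x⟩`. -/
theorem cent_inter_five (T : TSplit z t V M) {x : G} (hx : FiveA t M x) {y : G} (hty : Commute t y)
    (hxy : Commute x y) : ∃ v ∈ V, ∃ w ∈ Subgroup.zpowers x, y = v * w := by
  obtain ⟨φ⟩ := T.alt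
  have hy : y ∈ V ⊔ M := T.sup.symm ▸ Subgroup.mem_centralizer_singleton_iff.mpr hty.eq.symm
  obtain ⟨e⟩ := prod_nonempty_equiv (fun a ha b hb => T.comm ha hb) T.inf
  have hle : M ≤ Subgroup.centralizer (V : Set G) := fun m hm =>
    Subgroup.mem_centralizer_iff.mpr fun v hv => (T.comm hv hm).eq
  have hle' : M ≤ Subgroup.normalizer (V : Set G) := hle.trans (Subgroup.centralizer_le_normalizer _)
  rw [← SetLike.mem_coe, Subgroup.coe_mul_of_right_le_normalizer_left V M hle'] at hy
  obtain ⟨v, hv, m, hm, rfl⟩ := hy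
  refine ⟨v, hv, m, ?_, rfl⟩
  have hxm : Commute x m := by
    have h1 : Commute x v := (T.comm hv hx.mem).symm
    have := h1.inv_right.mul_right hxy
    rwa [inv_mul_cancel_left] at this
  have ho : orderOf (φ ⟨x, hx.mem⟩) = 5 := by
    rw [MulEquiv.orderOf_eq, Subgroup.orderOf_mk]; exact hx.order
  have hmem : φ ⟨m, hm⟩ ∈ Subgroup.zpowers (φ ⟨x, hx.mem⟩) := by
    rw [← A5.five_cent ho, Subgroup.mem_centralizer_singleton_iff, ← map_mul, ← map_mul]
    exact congrArg φ (Subtype.ext hxm.eq.symm)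
  obtain ⟨k, hk⟩ := Subgroup.mem_zpowers_iff.mp hmem
  rw [← map_zpow] at hk
  exact Subgroup.mem_zpowers_iff.mpr ⟨k, congrArg Subtype.val (φ.injective hk)⟩

theorem inv_mem_V (T : TSplit z t V M) {x : G} (hx : FiveA t M x) {s : G} (hts : Commute t s)
    (hxs : Commute x s) (hs : s * s = 1) : s ∈ V := by
  obtain ⟨v, hv, w, hw, rfl⟩ := T.cent_inter_five hx hts hxs
  have hc : Commute v w := by
    obtain ⟨k, rfl⟩ := Subgroup.mem_zpowers_iff.mp hw
    exact (T.comm hv hx.mem).zpow_right k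
  rw [hc.symm.mul_mul_mul_comm, T.sq_V v hv, one_mul] at hs
  have h5 : w ^ 5 = 1 := mem_zpowers_pow_eq hw (hx.order ▸ pow_orderOf_eq_one x)
  have hw1 : w = 1 := by
    calc w = w ^ 5 * ((w * w) * (w * w))⁻¹ := by group
      _ = 1 := by rw [h5, hs]; group
  rw [hw1, mul_one]; exact hv

theorem five_comm_V (T : TSplit z t V M) {x : G} (hx : FiveA t M x) {v : G} (hv : v ∈ V) :
    Commute x v := (T.comm hv hx.mem).symm

/-- `V` is a Sylow 2-subgroup of `C(x)`. -/
theorem sylow_five (T : TSplit z t V M) {x : G} (hx : FiveA t M x) (S : Subgroup G)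
    (hS : IsPGroup 2 S) (hVS : V ≤ S) (hSx : ∀ s ∈ S, Commute x s) : S = V := by
  haveI : Fact (Nat.Prime 2) := ⟨Nat.prime_two⟩
  refine le_antisymm ?_ hVS
  haveI : Nontrivial S := by
    have hV1 : 1 < Nat.card V := by rw [T.card_V]; norm_num
    haveI := Finite.one_lt_card_iff_nontrivial.mp hV1
    exact (Subgroup.inclusion_injective hVS).nontrivial
  haveI : Nontrivial (Subgroup.center S) := hS.center_nontrivial
  obtain ⟨c, hc, hc2⟩ : ∃ c ∈ Subgroup.center S, orderOf c = 2 := by
    obtain ⟨c, hc⟩ := exists_prime_orderOf_dvd_card' (G := Subgroup.center S) 2 (by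
      obtain ⟨k, hk⟩ := IsPGroup.iff_card.mp (hS.to_subgroup (Subgroup.center S))
      have h1 : 1 < Nat.card (Subgroup.center S) := Finite.one_lt_card_iff_nontrivial.mpr inferInstance
      rw [hk] at h1 ⊢
      exact dvd_pow_self 2 (by rintro rfl; norm_num at h1))
    exact ⟨c, c.2, by rw [Subgroup.orderOf_coe]; exact hc⟩
  have hcc : ∀ s ∈ S, Commute (c : G) s := fun s hs =>
    (congrArg Subtype.val (Subgroup.mem_center_iff.mp hc ⟨s, hs⟩)).symm
  have hcsq : (c : G) * c = 1 := by
    rw [← pow_two, ← hc2, ← Subgroup.orderOf_coe, pow_orderOf_eq_one]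
  have hcV : (c : G) ∈ V := T.inv_mem_V hx (hcc t (hVS T.mem_V)).symm (hSx c c.2) hcsq
  have hc1 : (c : G) ≠ 1 := fun e => by
    rw [← Subgroup.orderOf_coe, e, orderOf_one] at hc2; omega
  intro s hs
  have hts : Commute t s := by
    have h1 := SetLike.ext_iff.mp (T.cent_eq hcV hc1) s
    simp only [Subgroup.mem_centralizer_singleton_iff] at h1
    exact (h1.mp (hcc s hs).eq.symm).symm
  obtain ⟨v, hv, w, hw, rfl⟩ := T.cent_inter_five hx hts (hSx s hs)
  have hwS : w ∈ S := by
    have := mul_mem (inv_mem (hVS hv)) hs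
    rwa [inv_mul_cancel_left] at this
  have h5 : w ^ 5 = 1 := mem_zpowers_pow_eq hw (hx.order ▸ pow_orderOf_eq_one x)
  obtain ⟨j, hj⟩ := hS ⟨w, hwS⟩
  have hj' : w ^ 2 ^ j = 1 := congrArg Subtype.val hj
  have hw1 : w = 1 := orderOf_eq_one_iff.mp (Nat.dvd_one.mp ((Nat.Coprime.pow_left j
    (by norm_num : Nat.Coprime 2 5)).gcd_eq_one ▸ Nat.dvd_gcd (orderOf_dvd_of_pow_eq_one hj')
    (orderOf_dvd_of_pow_eq_one h5)))
  rw [hw1, mul_one]; exact hv

end TSplit

/-- Facts on a five-element `x` of the `V × M` kind. -/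
structure FiveAData (z t x : G) : Prop where
  order : orderOf x = 5
  card : Nat.card ↥(Subgroup.centralizer ({x} : Set G)) = 300
  invol : ∀ s, orderOf s = 2 → Commute x s → IsConj t s
  quot : ∃ π : ↥(Subgroup.centralizer ({x} : Set G)) →* alternatingGroup (Fin 5),
    Function.Surjective π ∧ ∀ y, π y = 1 ↔ (y : G) ∈ Subgroup.zpowers x

theorem exists_sylow_five_of (hG : Nat.card G = 604800) {x : G} (hx : orderOf x = 5) :
    ∃ P : Sylow 5 G, x ∈ (P : Subgroup G) ∧ Nat.card (P : Subgroup G) = 25 ∧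
      ∀ a ∈ (P : Subgroup G), ∀ b ∈ (P : Subgroup G), Commute a b := by
  have hp : IsPGroup 5 (Subgroup.zpowers x) :=
    IsPGroup.of_card (n := 1) (by rw [Nat.card_zpowers, hx, pow_one])
  obtain ⟨P, hP⟩ := hp.exists_le_sylow
  have h25 : Nat.card (P : Subgroup G) = 25 := by
    rw [Sylow.card_eq_multiplicity, hG, show (604800 : ℕ) = 5 ^ 2 * 24192 by norm_num,
      Nat.factorization_mul_apply_of_coprime (by norm_num), Nat.Prime.factorization_pow (by norm_num),
      Nat.factorization_eq_zero_of_not_dvd (show ¬ (5 : ℕ) ∣ 24192 by norm_num)]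
    simp
  have hab := IsPGroup.isMulCommutative_of_card_eq_prime_sq (p := 5) (G := (P : Subgroup G)) h25
  exact ⟨P, hP (Subgroup.mem_zpowers x), h25, fun a ha b hb =>
    congrArg Subtype.val (hab.is_comm.comm (⟨a, ha⟩ : (P : Subgroup G)) ⟨b, hb⟩)⟩

theorem twentyfive_dvd_cent (hG : Nat.card G = 604800) {x : G} (hx : orderOf x = 5) :
    25 ∣ Nat.card ↥(Subgroup.centralizer ({x} : Set G)) := by
  obtain ⟨P, hxP, h25, hab⟩ := exists_sylow_five_of hG hx
  rw [← h25]
  exact Subgroup.card_dvd_of_le fun y hy =>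
    Subgroup.mem_centralizer_singleton_iff.mpr (hab y hy x hxP).eq

namespace TSplit

variable {z t : G} {V M : Subgroup G}

theorem fiveAData (T : TSplit z t V M) {L : Subgroup G} (N : NSplit z t V M L)
    (hG : Nat.card G = 604800) {x : G} (hx : FiveA t M x) : FiveAData z t x := by
  classical
  haveI : Fact (Nat.Prime 2) := ⟨Nat.prime_two⟩
  set C := Subgroup.centralizer ({x} : Set G) with hC
  have toC : ∀ {y : G}, Commute x y → y ∈ C := fun h =>
    Subgroup.mem_centralizer_singleton_iff.mpr h.eq.symm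
  have ofC : ∀ y : C, Commute x (y : G) := fun y => (Subgroup.mem_centralizer_singleton_iff.mp y.2).symm
  set R : Subgroup C := (Subgroup.zpowers x).subgroupOf C with hR
  haveI : R.Normal := ⟨fun r hr c => by
    have hrx : (r : G) ∈ Subgroup.zpowers x := hr
    obtain ⟨k, hk⟩ := Subgroup.mem_zpowers_iff.mp hrx
    show (c : G) * r * (c : G)⁻¹ ∈ Subgroup.zpowers x
    rw [← hk, ← ((ofC c).zpow_left k).eq, mul_inv_cancel_right]
    exact ⟨k, rfl⟩⟩
  have hR5 : Nat.card R = 5 := by
    rw [hR, Nat.card_congr (Subgroup.subgroupOfEquivOfLe (Subgroup.zpowers_le.mpr (toC (Commute.refl x)))).toEquiv,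
      Nat.card_zpowers, hx.order]
  have hVC : V ≤ C := fun v hv => toC (T.five_comm_V hx hv)
  set V' : Subgroup C := V.subgroupOf C with hV'
  have hV'4 : Nat.card V' = 4 := by
    rw [hV', Nat.card_congr (Subgroup.subgroupOfEquivOfLe hVC).toEquiv, T.card_V]
  have hV'p : IsPGroup 2 V' := IsPGroup.of_card (n := 2) (by rw [hV'4]; norm_num)
  obtain ⟨S, hS⟩ := hV'p.exists_le_sylow
  have hSV : (S : Subgroup C) = V' := by
    apply Subgroup.map_injective C.subtype_injective
    rw [hV', Subgroup.map_subgroupOf_eq_of_le hVC]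
    refine T.sylow_five hx _ (S.2.map _) ?_ ?_
    · rw [← Subgroup.map_subgroupOf_eq_of_le hVC]; exact Subgroup.map_mono hS
    · rintro _ ⟨s, -, rfl⟩; exact ofC s
  have hinv : ∀ s : C, s * s = 1 → s ≠ 1 → ∃ c : C, c * s * c⁻¹ ∈ V' := by
    intro s hs hs1
    have hs2 : orderOf s = 2 := orderOf_eq_prime (by rw [pow_two]; exact hs) hs1
    have hp : IsPGroup 2 (Subgroup.zpowers s) :=
      IsPGroup.of_card (n := 1) (by rw [Nat.card_zpowers, hs2, pow_one])
    obtain ⟨U, hU⟩ := hp.exists_le_sylow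
    obtain ⟨g, hg⟩ := MulAction.exists_smul_eq C U S
    refine ⟨g, ?_⟩
    rw [← hSV, ← hg, Sylow.smul_def, Sylow.pointwise_smul_def]
    exact Subgroup.smul_mem_pointwise_smul _ (MulAut.conj g) _ (hU (Subgroup.mem_zpowers _))
  have hinvol : ∀ s, orderOf s = 2 → Commute x s → IsConj t s := by
    intro s hs hxs
    have hss : s * s = 1 := by rw [← pow_two, ← hs, pow_orderOf_eq_one]
    have hs1 : s ≠ 1 := fun e => by rw [e, orderOf_one] at hs; omega
    obtain ⟨c, hc⟩ := hinv ⟨s, toC hxs⟩ (Subtype.ext hss) (fun e => hs1 (congrArg Subtype.val e))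
    have hc' : (c : G) * s * (c : G)⁻¹ ∈ V := hc
    exact (T.V_class _ hc' (by rwa [Ne, conj_eq_one_iff])).trans (isConj_iff.mpr ⟨(c : G), rfl⟩).symm
  -- the quotient
  let q := QuotientGroup.mk' R
  have hqker : ∀ y : C, q y = 1 ↔ (y : G) ∈ Subgroup.zpowers x := fun y =>
    QuotientGroup.eq_one_iff y
  have hVR : ∀ v : C, (v : G) ∈ V → q v = 1 → v = 1 := by
    intro v hv hq
    have h5 : (v : G) ^ 5 = 1 := mem_zpowers_pow_eq ((hqker v).mp hq) (hx.order ▸ pow_orderOf_eq_one x)
    refine Subtype.ext ?_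
    calc (v : G) = (v : G) ^ 5 * (((v : G) * v) * ((v : G) * v))⁻¹ := by group
      _ = 1 := by rw [h5, T.sq_V v hv]; group
  set W : Subgroup (C ⧸ R) := V'.map q with hW
  have hW4 : Nat.card W = 4 := by
    rw [← hV'4]
    refine (Nat.card_congr (Equiv.ofBijective (fun v : V' => (⟨q v, v, v.2, rfl⟩ : W)) ⟨?_, ?_⟩)).symm
    · intro a b e
      have e' : q a = q b := congrArg Subtype.val e
      have : q ((a : C)⁻¹ * b) = 1 := by rw [map_mul, map_inv, e', inv_mul_cancel]
      exact Subtype.ext (inv_mul_eq_one.mp (hVR _ (mul_mem (inv_mem a.2) b.2) this))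
    · rintro ⟨_, v, hv, rfl⟩; exact ⟨⟨v, hv⟩, rfl⟩
  have hF : FourHyp W := by
    refine ⟨hW4, ?_, ?_, ?_⟩
    · rintro _ ⟨v, hv, rfl⟩
      rw [← map_mul, show v * v = 1 from Subtype.ext (T.sq_V v hv), map_one]
    · rintro _ ⟨v, hv, rfl⟩ hv1
      have hv1' : (v : G) ≠ 1 := fun e => hv1 (by rw [show v = 1 from Subtype.ext e, map_one])
      ext y
      obtain ⟨y, rfl⟩ := QuotientGroup.mk'_surjective R y
      rw [Subgroup.mem_centralizer_singleton_iff]
      constructor
      · intro hy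
        have hc : (y : G) * v * (y : G)⁻¹ * (v : G)⁻¹ ∈ Subgroup.zpowers x := by
          refine (hqker (y * v * y⁻¹ * v⁻¹)).mp ?_
          rw [map_mul, map_mul, map_mul, map_inv, map_inv, hy, mul_inv_cancel_right, mul_inv_cancel]
        set w := (y : G) * v * (y : G)⁻¹ * (v : G)⁻¹ with hw
        have hwv : Commute (v : G) w := by
          obtain ⟨k, hk⟩ := Subgroup.mem_zpowers_iff.mp hc
          rw [← hk]; exact (T.five_comm_V hx hv).symm.zpow_right k
        have hw1 : w = 1 := by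
          have h5 : w ^ 5 = 1 := mem_zpowers_pow_eq hc (hx.order ▸ pow_orderOf_eq_one x)
          have e : w * v = (y : G) * v * (y : G)⁻¹ := by rw [hw]; group
          have h2 : w * v * (w * v) = 1 := by
            rw [e, show (y : G) * v * (y : G)⁻¹ * ((y : G) * v * (y : G)⁻¹) =
              (y : G) * ((v : G) * v) * (y : G)⁻¹ by group, T.sq_V v hv]; group
          rw [hwv.mul_mul_mul_comm, T.sq_V v hv, mul_one] at h2
          calc w = w ^ 5 * ((w * w) * (w * w))⁻¹ := by group
            _ = 1 := by rw [h5, h2]; group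
        have hyv : Commute (y : G) v := by
          have := hw.symm.trans hw1
          exact mul_inv_eq_iff_eq_mul.mp (mul_inv_eq_one.mp this)
        have hty : Commute t (y : G) := by
          have h1 := SetLike.ext_iff.mp (T.cent_eq hv hv1') (y : G)
          simp only [Subgroup.mem_centralizer_singleton_iff] at h1
          exact (h1.mp hyv.eq).symm
        obtain ⟨v', hv', w', hw', e⟩ := T.cent_inter_five hx hty (ofC y)
        refine ⟨⟨v', hVC hv'⟩, hv', ?_⟩
        have hw'C : w' ∈ C := by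
          have := mul_mem (inv_mem (hVC hv')) y.2
          rw [e, inv_mul_cancel_left] at this; exact this
        rw [show y = ⟨v', hVC hv'⟩ * ⟨w', hw'C⟩ from Subtype.ext e, map_mul, (hqker ⟨w', hw'C⟩).mpr hw',
          mul_one]
      · rintro ⟨v', hv', e⟩
        rw [← e, ← map_mul, ← map_mul]
        congr 1
        exact Subtype.ext (T.central _ hv' _ (Subgroup.mem_centralizer_singleton_iff.mp (T.V_le hv)).symm).eq
    · intro s hs w hw hw1
      obtain ⟨v, hv, rfl⟩ := hw
      have hv1' : (v : G) ≠ 1 := fun e => hw1 (by rw [show v = 1 from Subtype.ext e, map_one])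
      -- move `s` into `W`
      obtain ⟨y, rfl⟩ := QuotientGroup.mk'_surjective R s
      obtain ⟨v', hv', hv1'', hs'⟩ : ∃ v' : C, (v' : G) ∈ V ∧ v' ≠ 1 ∧ IsConj (q v') (q y) := by
        have hys : q (y * y) = 1 := by
          rw [map_mul, ← pow_two, ← hs, pow_orderOf_eq_one]
        have h5 : ((y : G) * y) ^ 5 = 1 :=
          mem_zpowers_pow_eq ((hqker (y * y)).mp hys) (hx.order ▸ pow_orderOf_eq_one x)
        set s' : C := y ^ 5 with hs'
        have hsq : s' * s' = 1 := Subtype.ext (by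
          show ((y : G) ^ 5) * ((y : G) ^ 5) = 1
          rw [← h5, ← pow_two, ← pow_two, ← pow_mul, ← pow_mul])
        have hq' : q s' = q y := by
          rw [hs', map_pow, show (5 : ℕ) = 2 * 2 + 1 from rfl, pow_succ, pow_mul, ← hs, pow_orderOf_eq_one,
            one_pow, one_mul]
        have hs1 : s' ≠ 1 := fun e => by
          rw [e, map_one] at hq'
          rw [← hq', orderOf_one] at hs; omega
        obtain ⟨c, hc⟩ := hinv s' hsq hs1
        refine ⟨c * s' * c⁻¹, hc, fun e => hs1 ?_, ?_⟩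
        · rwa [conj_eq_one_iff] at e
        · exact (isConj_iff.mpr ⟨q c, by rw [← hq', ← map_inv, ← map_mul, ← map_mul]⟩ :
            IsConj (q y) (q (c * s' * c⁻¹))).symm
      -- `L` fuses the involutions of `V`
      obtain ⟨g, hg⟩ := isConj_iff.mp ((T.V_class _ hv hv1').symm.trans
        (T.V_class _ hv' fun e => hv1'' (Subtype.ext e)))
      have hgN : g ∈ Subgroup.normalizer (V : Set G) := by
        obtain ⟨a, ha⟩ := isConj_iff.mp (T.V_class _ hv hv1')
        have haN : a ∈ Subgroup.normalizer (V : Set G) := T.mem_normalizer (by rw [ha]; exact hv)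
        have hgaN : g * a ∈ Subgroup.normalizer (V : Set G) := T.mem_normalizer (by
          rw [show g * a * t * (g * a)⁻¹ = g * (a * t * a⁻¹) * g⁻¹ by group, ha, hg]; exact hv')
        have := mul_mem hgaN (inv_mem haN)
        rwa [mul_inv_cancel_right] at this
      rw [← N.sup] at hgN
      have hle : M ≤ Subgroup.normalizer (L : Set G) := fun m hm => by
        refine Subgroup.centralizer_le_normalizer _ (Subgroup.mem_centralizer_iff.mpr fun l hl => ?_)
        exact (N.comm l hl m hm).eq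
      rw [← SetLike.mem_coe, Subgroup.coe_mul_of_right_le_normalizer_left L M hle] at hgN
      obtain ⟨l, hl, m, hm, rfl⟩ := hgN
      have hlC : l ∈ C := toC (N.comm l hl x hx.mem).symm
      refine (isConj_iff.mpr ⟨q ⟨l, hlC⟩, ?_⟩ : IsConj (q v) (q v')).trans hs'
      rw [← map_inv, ← map_mul, ← map_mul]
      congr 1
      refine Subtype.ext ?_
      show l * (v : G) * l⁻¹ = v'
      rw [← hg]
      show l * (v : G) * l⁻¹ = l * m * (v : G) * (l * m)⁻¹
      have hmv : m * (v : G) = (v : G) * m := (T.comm hv hm).symm.eq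
      rw [show l * m * (v : G) * (l * m)⁻¹ = l * (m * v * m⁻¹) * l⁻¹ by group,
        hmv, mul_inv_cancel_right]
  have hidx : Nat.card (C ⧸ R) * 5 = Nat.card C := by
    rw [← hR5, ← R.card_eq_card_quotient_mul_card_subgroup]
  have h60 : Nat.card (C ⧸ R) = 60 := by
    have h25 := twentyfive_dvd_cent hG hx.order
    rw [← hC, ← hidx] at h25
    rcases hF.card_eq with e | e
    · rw [e] at h25; norm_num at h25
    · exact e
  obtain ⟨φ⟩ := hF.nonempty_equiv h60
  refine ⟨hx.order, by rw [← hC, ← hidx, h60], hinvol, φ.toMonoidHom.comp q,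
    φ.surjective.comp (QuotientGroup.mk'_surjective R), fun y => ?_⟩
  rw [MonoidHom.comp_apply, MulEquiv.coe_toMonoidHom, MulEquiv.map_eq_one_iff, hqker]

end TSplit

end Cfsg.Agent.J2Order38
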