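import Cfsg.Agent.J2Order38.Five

/-!
Five-elements centralizing a conjugate of `z`.
-/

set_option autoImplicit false

namespace Cfsg.Agent.J2Order38

open Subgroup

variable {G : Type*} [Group G] [Finite G]

/-- Facts on a five-element centralizing a conjugate of `z`. -/
structure FiveBData (z y : G) : Prop where
  order : orderOf y = 5
  card : Nat.card ↥(Subgroup.centralizer ({y} : Set G)) = 50
  invol : ∃ s, IsConj z s ∧ Commute y s

theorem FiveBData.conj {z y : G} (h : FiveBData z y) (g : G) : FiveBData z (g * y * g⁻¹) := by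
  obtain ⟨s, hs, hys⟩ := h.invol
  refine ⟨by rw [← MulAut.conj_apply, MulEquiv.orderOf_eq]; exact h.order,
    by rw [card_cent_conj]; exact h.card, g * s * g⁻¹, hs.trans (isConj_iff.mpr ⟨g, rfl⟩), ?_⟩
  exact Commute.map hys (MulAut.conj g).toMonoidHom

theorem conj_commute {a b : G} (h : Commute a b) (g : G) : Commute (g * a * g⁻¹) (g * b * g⁻¹) :=
  Commute.map h (MulAut.conj g).toMonoidHom

namespace FiveAData

variable {z t x : G}

theorem conj (h : FiveAData z t x) (g : G) : FiveAData z t (g * x * g⁻¹) := by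
  obtain ⟨π, hπs, hπ⟩ := h.quot
  refine ⟨by rw [← MulAut.conj_apply, MulEquiv.orderOf_eq]; exact h.order,
    by rw [card_cent_conj]; exact h.card, fun s hs hc => ?_, ?_⟩
  · have hs' : orderOf (g⁻¹ * s * g) = 2 := by
      rw [← hs, show g⁻¹ * s * g = MulAut.conj g⁻¹ s by simp, MulEquiv.orderOf_eq]
    have hc' : Commute x (g⁻¹ * s * g) := by
      have := conj_commute hc g⁻¹
      simpa [mul_assoc] using this
    exact (h.invol _ hs' hc').trans (isConj_iff.mpr ⟨g, by group⟩)
  · let f : ↥(Subgroup.centralizer ({g * x * g⁻¹} : Set G)) →* ↥(Subgroup.centralizer ({x} : Set G)) :=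
      MonoidHom.mk' (fun y => ⟨g⁻¹ * (y : G) * g, Subgroup.mem_centralizer_singleton_iff.mpr (by
        have := conj_commute (Subgroup.mem_centralizer_singleton_iff.mp y.2 :
          (y : G) * (g * x * g⁻¹) = g * x * g⁻¹ * y) g⁻¹
        simpa [mul_assoc] using this.eq)⟩) fun a b => Subtype.ext (by simp [mul_assoc])
    refine ⟨π.comp f, hπs.comp fun y => ?_, fun y => ?_⟩
    · refine ⟨⟨g * (y : G) * g⁻¹, Subgroup.mem_centralizer_singleton_iff.mpr
        (conj_commute (Subgroup.mem_centralizer_singleton_iff.mp y.2 : (y : G) * x = x * y) g).eq⟩,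
        Subtype.ext (by simp [f, mul_assoc])⟩
    · rw [MonoidHom.comp_apply, hπ]
      show g⁻¹ * (y : G) * g ∈ _ ↔ _
      constructor
      · intro hm
        obtain ⟨k, hk⟩ := Subgroup.mem_zpowers_iff.mp hm
        exact ⟨k, by show (g * x * g⁻¹) ^ k = _; rw [conj_zpow, hk]; group⟩
      · intro hm
        obtain ⟨k, hk⟩ := Subgroup.mem_zpowers_iff.mp hm
        exact ⟨k, by show x ^ k = _; rw [← hk, conj_zpow]; group⟩

/-- A five-element commuting with a conjugate of `z` is not a conjugate of a power of `x`. -/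
theorem not_conj (h : FiveAData z t x) (hzt : ¬ IsConj z t) (hz : orderOf z = 2) {y s : G}
    (hs : IsConj z s) (hys : Commute y s) (hy : orderOf y = 5) (g : G) :
    g * y * g⁻¹ ∉ Subgroup.zpowers x := by
  intro hm
  obtain ⟨k, hk⟩ := Subgroup.mem_zpowers_iff.mp hm
  have h5 : orderOf (g * y * g⁻¹) = 5 := by rw [← MulAut.conj_apply, MulEquiv.orderOf_eq]; exact hy
  -- `x` is a power of the conjugate
  have heq : Subgroup.zpowers (g * y * g⁻¹) = Subgroup.zpowers x := by
    refine Subgroup.eq_of_le_of_card_ge (Subgroup.zpowers_le.mpr hm) ?_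
    rw [Nat.card_zpowers, Nat.card_zpowers, h5, h.order]
  obtain ⟨j, hj⟩ := Subgroup.mem_zpowers_iff.mp (heq.ge (Subgroup.mem_zpowers x))
  have hc : Commute x (g * s * g⁻¹) := hj ▸ ((conj_commute hys g).zpow_left j)
  have hso : orderOf (g * s * g⁻¹) = 2 := by
    rw [← MulAut.conj_apply, MulEquiv.orderOf_eq, isConj_orderOf hs, hz]
  exact hzt ((hs.trans (isConj_iff.mpr ⟨g, rfl⟩)).trans (h.invol _ hso hc).symm)

theorem exists_conj_mem (h : FiveAData z t x) (P : Sylow 5 G) :
    ∃ g : G, g * x * g⁻¹ ∈ (P : Subgroup G) := by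
  have hp : IsPGroup 5 (Subgroup.zpowers x) :=
    IsPGroup.of_card (n := 1) (by rw [Nat.card_zpowers, h.order, pow_one])
  obtain ⟨P', hP'⟩ := hp.exists_le_sylow
  obtain ⟨g, hg⟩ := MulAction.exists_smul_eq G P' P
  refine ⟨g, ?_⟩
  rw [← hg, Sylow.smul_def, Sylow.pointwise_smul_def]
  exact Subgroup.smul_mem_pointwise_smul _ (MulAut.conj g) _ (hP' (Subgroup.mem_zpowers x))

theorem sylow_card (hG : Nat.card G = 604800) (P : Sylow 5 G) : Nat.card (P : Subgroup G) = 25 := by
  rw [Sylow.card_eq_multiplicity, hG, show (604800 : ℕ) = 5 ^ 2 * 24192 by norm_num,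
    Nat.factorization_mul_apply_of_coprime (by norm_num), Nat.Prime.factorization_pow (by norm_num),
    Nat.factorization_eq_zero_of_not_dvd (show ¬ (5 : ℕ) ∣ 24192 by norm_num)]
  simp

theorem sylow_comm (hG : Nat.card G = 604800) (P : Sylow 5 G) :
    ∀ a ∈ (P : Subgroup G), ∀ b ∈ (P : Subgroup G), Commute a b := by
  have hab := IsPGroup.isMulCommutative_of_card_eq_prime_sq (p := 5) (G := (P : Subgroup G))
    (sylow_card hG P)
  exact fun a ha b hb =>
    congrArg Subtype.val (hab.is_comm.comm (⟨a, ha⟩ : (P : Subgroup G)) ⟨b, hb⟩)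

/-- A Sylow 5-subgroup has exponent five. -/
theorem sylow_exp (h : FiveAData z t x) (hG : Nat.card G = 604800) (hzt : ¬ IsConj z t)
    (hz : orderOf z = 2) {y s : G} (hs : IsConj z s) (hys : Commute y s) (hy : orderOf y = 5)
    (P : Sylow 5 G) : ∀ a ∈ (P : Subgroup G), a ^ 5 = 1 := by
  intro a ha
  by_contra h5
  have ho : orderOf a = 25 := by
    have hd := orderOf_dvd_natCard (⟨a, ha⟩ : (P : Subgroup G))
    rw [Subgroup.orderOf_mk, sylow_card hG P] at hd
    obtain ⟨j, hj, e⟩ := (Nat.dvd_prime_pow Nat.prime_five).mp (show orderOf a ∣ 5 ^ 2 from hd)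
    interval_cases j
    · exact absurd (by rw [← orderOf_dvd_iff_pow_eq_one, e]; norm_num) h5
    · exact absurd (by rw [← orderOf_dvd_iff_pow_eq_one, e]; norm_num) h5
    · rw [e]; norm_num
  have hcyc : Subgroup.zpowers a = P := by
    refine Subgroup.eq_of_le_of_card_ge (Subgroup.zpowers_le.mpr ha) ?_
    rw [Nat.card_zpowers, ho, sylow_card hG P]
  obtain ⟨g, hg⟩ := h.exists_conj_mem P
  have hp : IsPGroup 5 (Subgroup.zpowers y) :=
    IsPGroup.of_card (n := 1) (by rw [Nat.card_zpowers, hy, pow_one])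
  obtain ⟨P', hP'⟩ := hp.exists_le_sylow
  obtain ⟨c, hc⟩ := MulAction.exists_smul_eq G P' P
  have hym : c * y * c⁻¹ ∈ (P : Subgroup G) := by
    rw [← hc, Sylow.smul_def, Sylow.pointwise_smul_def]
    exact Subgroup.smul_mem_pointwise_smul _ (MulAut.conj c) _ (hP' (Subgroup.mem_zpowers y))
  -- elements of order five are powers of `a ^ 5`
  have key : ∀ w ∈ (P : Subgroup G), w ^ 5 = 1 → w ∈ Subgroup.zpowers (a ^ 5) := by
    intro w hw h5'
    rw [← hcyc] at hw
    obtain ⟨k, rfl⟩ := Subgroup.mem_zpowers_iff.mp hw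
    have hd : (25 : ℤ) ∣ k * 5 := by
      have e := orderOf_dvd_iff_zpow_eq_one.mpr (show a ^ (k * 5) = 1 by rw [zpow_mul]; exact_mod_cast h5')
      rw [ho] at e; exact_mod_cast e
    obtain ⟨j, hj⟩ := hd
    refine Subgroup.mem_zpowers_iff.mpr ⟨j, ?_⟩
    rw [← zpow_natCast, ← zpow_mul]
    congr 1
    push_cast
    omega
  have hgo : orderOf (g * x * g⁻¹) = 5 := (h.conj g).order
  have heq : Subgroup.zpowers (g * x * g⁻¹) = Subgroup.zpowers (a ^ 5) := by
    refine Subgroup.eq_of_le_of_card_ge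
      (Subgroup.zpowers_le.mpr (key _ hg (hgo ▸ pow_orderOf_eq_one _))) ?_
    rw [Nat.card_zpowers, Nat.card_zpowers, hgo, orderOf_pow, ho]
    norm_num
  refine (h.conj g).not_conj hzt hz hs hys hy c (heq.ge (key _ hym ?_))
  rw [conj_pow, show y ^ 5 = 1 from hy ▸ pow_orderOf_eq_one y, mul_one, mul_inv_cancel]

/-- A Sylow 5-subgroup is its own centralizer. -/
theorem sylow_self_cent (h : FiveAData z t x) (hG : Nat.card G = 604800)
    (hexp : ∀ P : Sylow 5 G, ∀ a ∈ (P : Subgroup G), a ^ 5 = 1)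
    (P : Sylow 5 G) {w : G} (hw : ∀ p ∈ (P : Subgroup G), Commute w p) : w ∈ (P : Subgroup G) := by
  obtain ⟨g, hg⟩ := h.exists_conj_mem P
  have hx := h.conj g
  set x' := g * x * g⁻¹ with hx'
  obtain ⟨π, hπs, hπ⟩ := hx.quot
  have hle : (P : Subgroup G) ≤ Subgroup.centralizer ({x'} : Set G) := fun p hp =>
    Subgroup.mem_centralizer_singleton_iff.mpr (sylow_comm hG P p hp x' hg).eq
  obtain ⟨p, hp, hpx⟩ : ∃ p ∈ (P : Subgroup G), p ∉ Subgroup.zpowers x' := by
    by_contra hcon
    push Not at hcon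
    have := Subgroup.card_le_of_le (show (P : Subgroup G) ≤ Subgroup.zpowers x' from hcon)
    rw [sylow_card hG P, Nat.card_zpowers, hx.order] at this
    omega
  let wC : ↥(Subgroup.centralizer ({x'} : Set G)) := ⟨w, Subgroup.mem_centralizer_singleton_iff.mpr (hw x' hg).eq⟩
  let pC : ↥(Subgroup.centralizer ({x'} : Set G)) := ⟨p, hle hp⟩
  have ho : orderOf (π pC) = 5 := by
    refine orderOf_eq_prime ?_ fun e => hpx ((hπ pC).mp e)
    rw [← map_pow, show pC ^ 5 = 1 from Subtype.ext (hexp P p hp), map_one]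
  have hm : π wC ∈ Subgroup.zpowers (π pC) := by
    rw [← A5.five_cent ho, Subgroup.mem_centralizer_singleton_iff, ← map_mul, ← map_mul]
    exact congrArg π (Subtype.ext (hw p hp).eq)
  obtain ⟨i, hi⟩ := Subgroup.mem_zpowers_iff.mp hm
  have := (hπ ((pC ^ i)⁻¹ * wC)).mp (by rw [map_mul, map_inv, map_zpow, hi, inv_mul_cancel])
  have h2 : (p ^ i)⁻¹ * w ∈ (P : Subgroup G) := (Subgroup.zpowers_le.mpr hg) (by simpa [pC, wC] using this)
  have := mul_mem (Subgroup.zpow_mem _ hp i) h2
  rwa [mul_inv_cancel_left] at this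

end FiveAData

theorem fiveB_of_HJ {z : G} {Q : Subgroup G} (h : HJ z Q) (hG : Nat.card G = 604800)
    (hexp : ∀ P : Sylow 5 G, ∀ a ∈ (P : Subgroup G), a ^ 5 = 1)
    (hcent : ∀ (P : Sylow 5 G) (w : G), (∀ p ∈ (P : Subgroup G), Commute w p) → w ∈ (P : Subgroup G)) :
    ∃ y, FiveBData z y := by
  classical
  haveI : Fact (Nat.Prime 2) := ⟨Nat.prime_two⟩
  obtain ⟨y, hzy, hy⟩ := h.exists_five
  refine ⟨y, hy, ?_, z, IsConj.refl z, hzy.symm⟩
  set C := Subgroup.centralizer ({y} : Set G) with hC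
  set zC : C := ⟨z, Subgroup.mem_centralizer_singleton_iff.mpr hzy.eq⟩ with hzC
  set yC : C := ⟨y, Subgroup.mem_centralizer_singleton_iff.mpr rfl⟩ with hyC
  have ofC : ∀ c : C, Commute y (c : G) := fun c =>
    (Subgroup.mem_centralizer_singleton_iff.mp c.2).symm
  obtain ⟨π, hπs, hπ⟩ := h.quot
  -- an element commuting with `y` and `z`
  have hcy : ∀ c : G, Commute z c → Commute y c → ∃ i : ℤ, y ^ i * c = 1 ∨ y ^ i * c = z := by
    intro c hzc hyc
    let yH : Subgroup.centralizer ({z} : Set G) := ⟨y, Subgroup.mem_centralizer_singleton_iff.mpr hzy.eq.symm⟩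
    let cH : Subgroup.centralizer ({z} : Set G) := ⟨c, Subgroup.mem_centralizer_singleton_iff.mpr hzc.eq.symm⟩
    have ho : orderOf (π yH) = 5 := by
      refine orderOf_eq_prime (by rw [← map_pow, show yH ^ 5 = 1 from Subtype.ext (hy ▸ pow_orderOf_eq_one y), map_one]) ?_
      intro e
      have hyQ : y ∈ Q := (hπ yH).mp e
      rcases h.cases_z (h.five_fix hzy hy hyQ (Commute.refl y)) with e' | e'
      · rw [e', orderOf_one] at hy; omega
      · rw [e', h.z_order] at hy; omega
    have hc : π cH ∈ Subgroup.zpowers (π yH) := by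
      rw [← A5.five_cent ho, Subgroup.mem_centralizer_singleton_iff, ← map_mul, ← map_mul]
      exact congrArg π (Subtype.ext hyc.eq.symm)
    obtain ⟨i, hi⟩ := Subgroup.mem_zpowers_iff.mp hc
    refine ⟨-i, ?_⟩
    have hQ : y ^ (-i) * c ∈ Q := by
      have := (hπ (yH ^ (-i) * cH)).mp (by rw [map_mul, map_zpow, zpow_neg, hi, inv_mul_cancel])
      simpa using this
    rcases h.cases_z (h.five_fix hzy hy hQ (((Commute.refl y).zpow_right _).mul_right hyc)) with e | e
    · exact Or.inl e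
    · exact Or.inr e
  -- `⟨z⟩` is a Sylow subgroup of `C`
  have hz2 : orderOf zC = 2 := by rw [hzC, Subgroup.orderOf_mk]; exact h.z_order
  have hp : IsPGroup 2 (Subgroup.zpowers zC) :=
    IsPGroup.of_card (n := 1) (by rw [Nat.card_zpowers, hz2, pow_one])
  obtain ⟨S, hS⟩ := hp.exists_le_sylow
  have hcz : ∀ s : C, s ∈ (S : Subgroup C) → Commute zC s → s ∈ Subgroup.zpowers zC := by
    intro s hs hc
    obtain ⟨i, e⟩ := hcy (s : G) (congrArg Subtype.val hc.eq) (ofC s)
    have hyS : yC ^ i ∈ (S : Subgroup C) := by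
      rcases e with e | e
      · rw [show yC ^ i = s⁻¹ from eq_inv_of_mul_eq_one_left (Subtype.ext (by simpa [hyC] using e))]
        exact inv_mem hs
      · rw [show yC ^ i = zC * s⁻¹ from eq_mul_inv_of_mul_eq (Subtype.ext (by simpa [hyC, hzC] using e))]
        exact mul_mem (hS (Subgroup.mem_zpowers zC)) (inv_mem hs)
    obtain ⟨j, hj⟩ := S.2 ⟨_, hyS⟩
    have hj' : (yC ^ i) ^ 2 ^ j = 1 := congrArg Subtype.val hj
    have h5 : (yC ^ i) ^ 5 = 1 := mem_zpowers_pow_eq ⟨i, rfl⟩
      (Subtype.ext (hy ▸ pow_orderOf_eq_one y))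
    have hone : yC ^ i = 1 := orderOf_eq_one_iff.mp (Nat.dvd_one.mp ((Nat.Coprime.pow_left j
      (by norm_num : Nat.Coprime 2 5)).gcd_eq_one ▸ Nat.dvd_gcd (orderOf_dvd_of_pow_eq_one hj')
      (orderOf_dvd_of_pow_eq_one h5)))
    have hone' : y ^ i = 1 := by simpa [hyC] using congrArg Subtype.val hone
    rw [hone', one_mul] at e
    rcases e with e | e
    · rw [show s = 1 from Subtype.ext e]; exact one_mem _
    · rw [show s = zC from Subtype.ext e]; exact Subgroup.mem_zpowers zC
  have hSz : (S : Subgroup C) = Subgroup.zpowers zC := by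
    refine le_antisymm ?_ hS
    haveI : Nontrivial (S : Subgroup C) :=
      ⟨⟨⟨zC, hS (Subgroup.mem_zpowers zC)⟩, 1, fun e => h.z_ne (congrArg (fun w : (S : Subgroup C) => ((w : C) : G)) e)⟩⟩
    haveI : Nontrivial (Subgroup.center (S : Subgroup C)) := S.2.center_nontrivial
    obtain ⟨⟨c, hc⟩, hne⟩ := exists_ne (1 : Subgroup.center (S : Subgroup C))
    have hcs : ∀ s ∈ (S : Subgroup C), Commute (c : C) s := fun s hs =>
      (congrArg Subtype.val (Subgroup.mem_center_iff.mp hc ⟨s, hs⟩)).symm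
    have hmem := hcz c c.2 (hcs zC (hS (Subgroup.mem_zpowers zC))).symm
    have hcz' : (c : C) = zC := by
      obtain ⟨k, hk⟩ := Subgroup.mem_zpowers_iff.mp hmem
      rcases Int.even_or_odd' k with ⟨j, e | e⟩ <;> subst e
      · exfalso
        rw [zpow_mul, zpow_two, show zC * zC = 1 from Subtype.ext h.z_sq, one_zpow] at hk
        exact hne (Subtype.ext (Subtype.ext hk.symm))
      · rw [zpow_add, zpow_mul, zpow_two, show zC * zC = 1 from Subtype.ext h.z_sq, one_zpow,
          one_mul, zpow_one] at hk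
        exact hk.symm
    intro s hs
    exact hcz s hs (hcz' ▸ hcs s hs)
  have hS2 : Nat.card (S : Subgroup C) = 2 := by rw [hSz, Nat.card_zpowers, hz2]
  have hNle : Subgroup.normalizer ((S : Subgroup C) : Set C) ≤ Subgroup.centralizer ((S : Subgroup C) : Set C) := by
    intro c hc
    have hzz : c * zC * c⁻¹ = zC := by
      have hm := (Subgroup.mem_normalizer_iff.mp hc zC).mp (hSz.symm ▸ Subgroup.mem_zpowers zC)
      rw [hSz, mem_zpowers_iff_mem_range_orderOf, hz2, Finset.mem_image] at hm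
      obtain ⟨k, hk, e⟩ := hm
      rw [Finset.mem_range] at hk
      interval_cases k
      · exfalso
        rw [pow_zero, eq_comm, conj_eq_one_iff] at e
        exact h.z_ne (congrArg Subtype.val e)
      · rw [← e, pow_one]
    refine Subgroup.mem_centralizer_iff.mpr fun s hs => ?_
    rw [hSz] at hs
    obtain ⟨k, rfl⟩ := Subgroup.mem_zpowers_iff.mp hs
    have : Commute c zC := mul_inv_eq_iff_eq_mul.mp hzz
    exact (this.zpow_right k).eq.symm
  set O : Subgroup C := (MonoidHom.transferSylow S hNle).ker with hO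
  have hOc : Subgroup.IsComplement' O (S : Subgroup C) := MonoidHom.ker_transferSylow_isComplement' S hNle
  haveI : O.Normal := by rw [hO]; infer_instance
  have hCcard : Nat.card O * 2 = Nat.card C := hS2 ▸ hOc.card_mul
  have hOodd : Odd (Nat.card O) := by
    have := MonoidHom.not_dvd_card_ker_transferSylow S hNle
    rw [← hO] at this
    exact Nat.not_even_iff_odd.mp (fun e => this (even_iff_two_dvd.mp e))
  have hodd : ∀ {a : C}, a ∈ O → a * a = 1 → a = 1 := by
    intro a ha ha2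
    by_contra ha1
    have := orderOf_dvd_natCard (⟨a, ha⟩ : O)
    rw [Subgroup.orderOf_mk, orderOf_eq_prime (by rw [pow_two]; exact ha2) ha1] at this
    exact Nat.not_even_iff_odd.mpr hOodd (even_iff_two_dvd.mpr this)
  have h5O : ∀ a : C, a ^ 5 = 1 → a ∈ O := by
    intro a ha
    have h2 : a ^ O.index ∈ O := Subgroup.pow_index_mem O a
    have hidx : O.index = 2 := by
      have := O.card_mul_index
      rw [← hCcard] at this
      exact Nat.eq_of_mul_eq_mul_left Nat.card_pos this
    rw [hidx] at h2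
    have e : a = (a ^ 2) ^ 3 * (a ^ 5)⁻¹ := by group
    rw [e, ha, inv_one, mul_one]
    exact pow_mem h2 3
  have hyO : yC ∈ O := h5O _ (Subtype.ext (hy ▸ pow_orderOf_eq_one y))
  -- modulo `⟨y⟩` the subgroup `O` is inverted
  set R : Subgroup O := (Subgroup.zpowers yC).subgroupOf O with hR
  haveI : R.Normal := ⟨fun r hr c => by
    obtain ⟨k, hk⟩ := Subgroup.mem_zpowers_iff.mp (hr : ((r : C)) ∈ Subgroup.zpowers yC)
    have hk' : ((r : O) : C) = yC ^ k := hk.symm
    show (c : C) * r * (c : C)⁻¹ ∈ Subgroup.zpowers yC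
    have hcc : Commute (c : C) yC := Subtype.ext (ofC (c : C)).eq.symm
    rw [hk', (hcc.zpow_right k).eq, mul_inv_cancel_right]
    exact ⟨k, rfl⟩⟩
  have hab : ∀ a b : O, (a : C) * b * (a : C)⁻¹ * (b : C)⁻¹ ∈ Subgroup.zpowers yC := by
    let τ : O →* O := MonoidHom.mk' (fun a => ⟨zC * a * zC⁻¹, (inferInstance : O.Normal).conj_mem _ a.2 zC⟩)
      (fun a b => Subtype.ext (by simp [mul_assoc]))
    have hzy' : Commute zC yC := Subtype.ext hzy.eq
    have hRle : R ≤ R.comap τ := fun r hr => by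
      obtain ⟨k, hk⟩ := Subgroup.mem_zpowers_iff.mp (hr : ((r : C)) ∈ Subgroup.zpowers yC)
      have hk' : ((r : O) : C) = yC ^ k := hk.symm
      show zC * (r : C) * zC⁻¹ ∈ Subgroup.zpowers yC
      rw [hk', (hzy'.zpow_right k).eq, mul_inv_cancel_right]
      exact ⟨k, rfl⟩
    let φ : O ⧸ R →* O ⧸ R := QuotientGroup.map R R τ hRle
    have hinvol : Function.Involutive φ := by
      intro w
      obtain ⟨a, rfl⟩ := QuotientGroup.mk'_surjective R w
      show φ (φ (a : O ⧸ R)) = _
      rw [QuotientGroup.map_mk, QuotientGroup.map_mk]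
      show ((τ (τ a) : O) : O ⧸ R) = (a : O ⧸ R)
      congr 1
      refine Subtype.ext ?_
      show zC * (zC * (a : C) * zC⁻¹) * zC⁻¹ = a
      rw [show zC * (zC * (a : C) * zC⁻¹) * zC⁻¹ = (zC * zC) * a * (zC * zC)⁻¹ by group,
        show zC * zC = 1 from Subtype.ext h.z_sq]
      group
    have hfree : MonoidHom.FixedPointFree φ := by
      intro w hw
      obtain ⟨a, rfl⟩ := QuotientGroup.mk'_surjective R w
      have hw' : ((τ a : O) : O ⧸ R) = (a : O ⧸ R) := by
        rw [← QuotientGroup.map_mk R R τ hRle]; exact hw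
      rw [QuotientGroup.eq] at hw'
      obtain ⟨k, hk⟩ := Subgroup.mem_zpowers_iff.mp
        (hw' : (((τ a)⁻¹ * a : O) : C) ∈ Subgroup.zpowers yC)
      have hk' : yC ^ k = zC * (a : C)⁻¹ * zC⁻¹ * a := by
        rw [hk]; show (zC * (a : C) * zC⁻¹)⁻¹ * a = _; group
      -- applying `z` again gives the inverse
      have h2 : yC ^ k * yC ^ k = 1 := by
        have e1 : yC ^ k = zC * yC ^ k * zC⁻¹ := by rw [(hzy'.zpow_right k).eq, mul_inv_cancel_right]
        calc yC ^ k * yC ^ k = (zC * yC ^ k * zC⁻¹) * yC ^ k := by rw [← e1]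
          _ = (zC * zC) * (a : C)⁻¹ * (zC⁻¹ * a * zC⁻¹) * (zC * (a : C)⁻¹ * zC⁻¹ * a) := by
            rw [hk']; group
          _ = (zC * zC) * (a : C)⁻¹ * ((zC * zC)⁻¹ * a) := by group
          _ = 1 := by rw [show zC * zC = 1 from Subtype.ext h.z_sq]; group
      have hk0 : yC ^ k = 1 := hodd (Subgroup.zpow_mem O hyO k) h2
      rw [hk0] at hk'
      have hcom : Commute zC (a : C) := by
        have e : zC * (a : C) * zC⁻¹ = a := by
          have := eq_inv_of_mul_eq_one_right hk'.symm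
          calc zC * (a : C) * zC⁻¹ = (zC * (a : C)⁻¹ * zC⁻¹)⁻¹ := by group
            _ = a := this.symm
        exact mul_inv_eq_iff_eq_mul.mp e
      obtain ⟨i, e⟩ := hcy ((a : C) : G) (congrArg Subtype.val hcom.eq) (ofC a)
      show ((a : O) : O ⧸ R) = 1
      rw [QuotientGroup.eq_one_iff]
      show (a : C) ∈ Subgroup.zpowers yC
      rcases e with e | e
      · rw [show (a : C) = (yC ^ i)⁻¹ from eq_inv_of_mul_eq_one_right (Subtype.ext (by simpa [hyC] using e))]
        exact inv_mem ⟨i, rfl⟩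
      · exfalso
        have : zC ∈ O := by
          rw [show zC = yC ^ i * a from Subtype.ext (by simpa [hyC, hzC] using e.symm)]
          exact mul_mem (Subgroup.zpow_mem O hyO i) a.2
        exact h.z_ne (congrArg Subtype.val (hodd this (Subtype.ext h.z_sq)))
    intro a b
    have hcomm : Commute (a : O ⧸ R) (b : O ⧸ R) := hfree.commute_all_of_involutive hinvol _ _
    have h1 : QuotientGroup.mk' R (a * b * a⁻¹ * b⁻¹) = 1 := by
      rw [map_mul, map_mul, map_mul, map_inv, map_inv]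
      show (a : O ⧸ R) * b * (a : O ⧸ R)⁻¹ * (b : O ⧸ R)⁻¹ = 1
      rw [hcomm.eq, mul_inv_cancel_right, mul_inv_cancel]
    exact ((QuotientGroup.eq_one_iff (a * b * a⁻¹ * b⁻¹)).mp h1 : _)
  -- a Sylow 5-subgroup lies in `O`
  obtain ⟨P, hyP, h25, hPab⟩ := exists_sylow_five_of hG hy
  have hPC : (P : Subgroup G) ≤ C := fun a ha =>
    Subgroup.mem_centralizer_singleton_iff.mpr (hPab a ha y hyP).eq
  have hPO : ∀ a : C, (a : G) ∈ (P : Subgroup G) → a ∈ O := by
    intro a ha
    refine h5O a (Subtype.ext ?_)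
    show (a : G) ^ 5 = 1
    exact hexp P _ ha
  have hO25 : Nat.card O = 25 := by
    have hPO' : ((P : Subgroup G).subgroupOf C) ≤ O := fun a ha => hPO a ha
    have h25' : 25 ∣ Nat.card O := by
      have := Subgroup.card_dvd_of_le hPO'
      rwa [Nat.card_congr (Subgroup.subgroupOfEquivOfLe hPC).toEquiv, h25] at this
    by_contra hne
    obtain ⟨k, hk⟩ := h25'
    obtain ⟨r, hr, hrk⟩ := Nat.exists_prime_and_dvd (show k ≠ 1 by rintro rfl; exact hne (by omega))
    haveI := Fact.mk hr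
    have hr5 : r ≠ 5 := by
      rintro rfl
      have : 125 ∣ Nat.card G := by
        refine (Dvd.dvd.trans ?_ (Subgroup.card_subgroup_dvd_card C))
        rw [← hCcard, hk]
        exact Dvd.dvd.mul_right (by rw [show 125 = 25 * 5 by norm_num]; exact Nat.mul_dvd_mul_left 25 hrk) 2
      rw [hG] at this
      norm_num at this
    obtain ⟨w, hw⟩ := exists_prime_orderOf_dvd_card' (G := O) r (hk ▸ Dvd.dvd.mul_left hrk 25)
    have hwO : orderOf ((w : C) : G) = r := by
      rw [Subgroup.orderOf_coe, Subgroup.orderOf_coe]; exact hw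
    have hwP : ∀ p ∈ (P : Subgroup G), Commute ((w : C) : G) p := by
      intro p hp
      set pO : O := ⟨⟨p, hPC hp⟩, hPO _ hp⟩ with hpO
      obtain ⟨i, hi⟩ := Subgroup.mem_zpowers_iff.mp (hab w pO)
      have hi' : ((w : C) : G) * p * ((w : C) : G)⁻¹ = y ^ i * p := by
        have := congrArg (Subtype.val) hi
        simp only [hpO, hyC, Subgroup.coe_mul, Subgroup.coe_inv, SubgroupClass.coe_zpow] at this
        rw [this]; group
      set W : G := ((w : C) : G) with hW
      have hWy : Commute W (y ^ i) := (ofC (w : C)).symm.zpow_right i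
      have hit : ∀ j : ℕ, W ^ j * p * (W ^ j)⁻¹ = (y ^ i) ^ j * p := by
        intro j
        induction j with
        | zero => simp
        | succ j ih =>
          calc W ^ (j + 1) * p * (W ^ (j + 1))⁻¹ = W * (W ^ j * p * (W ^ j)⁻¹) * W⁻¹ := by
                rw [pow_succ']; group
            _ = (W * (y ^ i) ^ j) * p * W⁻¹ := by rw [ih]; group
            _ = (y ^ i) ^ j * (W * p * W⁻¹) := by rw [(hWy.pow_right j).eq]; group
            _ = (y ^ i) ^ (j + 1) * p := by rw [hi', pow_succ]; group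
      have hr' := hit r
      rw [← hwO, pow_orderOf_eq_one, one_mul, inv_one, mul_one, hwO] at hr'
      have h1 : (y ^ i) ^ r = 1 := mul_eq_right.mp hr'.symm
      have h5' : (y ^ i) ^ 5 = 1 := mem_zpowers_pow_eq ⟨i, rfl⟩ (hy ▸ pow_orderOf_eq_one y)
      have h0 : y ^ i = 1 := orderOf_eq_one_iff.mp (Nat.dvd_one.mp
        (((Nat.coprime_primes hr Nat.prime_five).mpr hr5).gcd_eq_one ▸
          Nat.dvd_gcd (orderOf_dvd_of_pow_eq_one h1) (orderOf_dvd_of_pow_eq_one h5')))
      rw [h0, one_mul] at hi'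
      exact mul_inv_eq_iff_eq_mul.mp hi'
    have hwm := hcent P _ hwP
    have h5w := hexp P _ hwm
    exact hr5 ((Nat.prime_dvd_prime_iff_eq hr Nat.prime_five).mp (hwO ▸ orderOf_dvd_of_pow_eq_one h5w))
  rw [← hCcard, hO25]

end Cfsg.Agent.J2Order38
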