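import Cfsg.Agent.J2Order38.FiveB

/-!
The normalizer of a Sylow 5-subgroup and the classes of elements of order five.
-/

set_option autoImplicit false

namespace Cfsg.Agent.J2Order38

open Subgroup

variable {G : Type*} [Group G] [Finite G]

/-- The facts about elements of order five. -/
structure FiveResult (z t : G) : Prop where
  self_cent : ∀ P : Sylow 5 G, Subgroup.centralizer ((P : Subgroup G) : Set G) = P
  card_sylow : ∀ P : Sylow 5 G, Nat.card (P : Subgroup G) = 25
  card_norm : ∀ P : Sylow 5 G, Nat.card ↥(Subgroup.normalizer ((P : Subgroup G) : Set G)) = 300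
  reps : ∃ x y, FiveAData z t x ∧ FiveBData z y ∧ ¬ IsConj x (x ^ 2) ∧
    (∀ g : G, g * y * g⁻¹ ∉ Subgroup.zpowers x) ∧
    ∀ w : G, orderOf w = 5 → IsConj x w ∨ IsConj (x ^ 2) w ∨ IsConj y w ∨ IsConj (y ^ 2) w

theorem mem_normalizer_of_map {X : Type*} [Group X] [Finite X] {H : Subgroup X} {g : X}
    (h : ∀ q ∈ H, g * q * g⁻¹ ∈ H) : g ∈ Subgroup.normalizer (H : Set X) := by
  refine Subgroup.mem_normalizer_iff.mpr fun q => ⟨h q, fun hq => ?_⟩
  have hinj : Function.Injective (fun r : H => (⟨g * r * g⁻¹, h r r.2⟩ : H)) := fun a b e =>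
    Subtype.ext (mul_left_cancel (mul_right_cancel (congrArg Subtype.val e)))
  obtain ⟨r, hr⟩ := Finite.injective_iff_surjective.mp hinj ⟨g * q * g⁻¹, hq⟩
  have : (r : X) = q := mul_left_cancel (mul_right_cancel (congrArg Subtype.val hr))
  exact this ▸ r.2

namespace HJG

variable {z t : G} {Q : Subgroup G}

theorem fiveResult (D : HJG z Q t) : FiveResult z t := by
  classical
  have hz := D.pair.hj.z_order
  have hzt := D.pair.ne
  have hG := D.card
  obtain ⟨V, M, T⟩ := D.exists_split
  obtain ⟨L, NS⟩ := T.exists_nsplit D.pair.outer.order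
  obtain ⟨x0, hx0⟩ := T.exists_fiveA
  have A0 := T.fiveAData NS hG hx0
  obtain ⟨y0, hy0, hy0'⟩ := D.pair.hj.exists_five
  have hexp : ∀ P : Sylow 5 G, ∀ a ∈ (P : Subgroup G), a ^ 5 = 1 := fun P =>
    A0.sylow_exp hG hzt hz (IsConj.refl z) hy0.symm hy0' P
  have hcent : ∀ (P : Sylow 5 G) (w : G), (∀ p ∈ (P : Subgroup G), Commute w p) →
      w ∈ (P : Subgroup G) := fun P w hw => A0.sylow_self_cent hG hexp P hw
  obtain ⟨y1, B1⟩ := fiveB_of_HJ D.pair.hj hG hexp hcent
  -- a Sylow subgroup containing both kinds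
  obtain ⟨P, hxP, h25, hab⟩ := exists_sylow_five_of hG A0.order
  obtain ⟨c, hc⟩ : ∃ c : G, c * y1 * c⁻¹ ∈ (P : Subgroup G) := by
    have hp : IsPGroup 5 (Subgroup.zpowers y1) :=
      IsPGroup.of_card (n := 1) (by rw [Nat.card_zpowers, B1.order, pow_one])
    obtain ⟨P', hP'⟩ := hp.exists_le_sylow
    obtain ⟨g, hg⟩ := MulAction.exists_smul_eq G P' P
    refine ⟨g, ?_⟩
    rw [← hg, Sylow.smul_def, Sylow.pointwise_smul_def]
    exact Subgroup.smul_mem_pointwise_smul _ (MulAut.conj g) _ (hP' (Subgroup.mem_zpowers y1))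
  have B := B1.conj c
  set y := c * y1 * c⁻¹ with hy
  clear_value y
  set x := x0 with hx
  clear_value x
  subst hx
  obtain ⟨s, hs, hys⟩ := B.invol
  have hnc : ∀ g : G, g * y * g⁻¹ ∉ Subgroup.zpowers x := A0.not_conj hzt hz hs hys B.order
  have hy_nx : y ∉ Subgroup.zpowers x := fun hm => hnc 1 (by simpa using hm)
  have hself : ∀ R : Sylow 5 G, Subgroup.centralizer ((R : Subgroup G) : Set G) = R := fun R =>
    le_antisymm (fun w hw => hcent R w fun p hp => (Subgroup.mem_centralizer_iff.mp hw p hp).symm)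
      (fun w hw => Subgroup.mem_centralizer_iff.mpr fun p hp =>
        (FiveAData.sylow_comm hG R p hp w hw).eq)
  set N := Subgroup.normalizer ((P : Subgroup G) : Set G) with hN
  have hPN : (P : Subgroup G) ≤ N := Subgroup.le_normalizer
  -- an element inverting `y` modulo `⟨x⟩`
  obtain ⟨π, hπs, hπ⟩ := A0.quot
  have toC : ∀ {w : G}, w ∈ (P : Subgroup G) → w ∈ Subgroup.centralizer ({x} : Set G) := fun hw =>
    Subgroup.mem_centralizer_singleton_iff.mpr (hab _ hw x hxP).eq
  let yC : ↥(Subgroup.centralizer ({x} : Set G)) := ⟨y, toC hc⟩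
  have ho : orderOf (π yC) = 5 := by
    refine orderOf_eq_prime ?_ fun e => hy_nx ((hπ yC).mp e)
    rw [← map_pow, show yC ^ 5 = 1 from Subtype.ext (hexp P y hc), map_one]
  have hpre : ∀ w : ↥(Subgroup.centralizer ({x} : Set G)), π w ∈ Subgroup.zpowers (π yC) ↔
      (w : G) ∈ (P : Subgroup G) := by
    intro w
    constructor
    · intro hw
      obtain ⟨i, hi⟩ := Subgroup.mem_zpowers_iff.mp hw
      have := (hπ ((yC ^ i)⁻¹ * w)).mp (by rw [map_mul, map_inv, map_zpow, hi, inv_mul_cancel])
      have h2 : (y ^ i)⁻¹ * (w : G) ∈ (P : Subgroup G) :=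
        (Subgroup.zpowers_le.mpr hxP) (by simpa [yC] using this)
      have := mul_mem (Subgroup.zpow_mem _ hc i) h2
      rwa [mul_inv_cancel_left] at this
    · intro hw
      rw [← A5.five_cent ho, Subgroup.mem_centralizer_singleton_iff, ← map_mul, ← map_mul]
      exact congrArg π (Subtype.ext (hab _ hw y hc).eq)
  obtain ⟨v, ⟨hv2, hv1⟩, hv⟩ := A5.five_inv (π yC) (A5.five_of_order ho)
  obtain ⟨e, he⟩ := hπs v
  have heN : (e : G) ∈ N := by
    refine mem_normalizer_of_map ?_
    intro p hp
    have h1 := (hpre ⟨p, toC hp⟩).mpr hp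
    refine (hpre (e * ⟨p, toC hp⟩ * e⁻¹)).mp ?_
    rw [map_mul, map_mul, map_inv, he]
    obtain ⟨i, hi⟩ := Subgroup.mem_zpowers_iff.mp h1
    rw [← hi, ← conj_zpow, hv]
    exact Subgroup.zpow_mem _ (inv_mem (Subgroup.mem_zpowers _)) i
  have heo : 2 ∣ orderOf (e : G) := by
    rw [Subgroup.orderOf_coe]
    have h1 := orderOf_map_dvd π e
    rw [he, orderOf_eq_prime (by rw [pow_two]; exact hv2) hv1] at h1
    exact h1
  have hey : ¬ Commute (e : G) y := by
    intro hcm
    have h1 : Commute v (π yC) := he ▸ (show Commute e yC from Subtype.ext hcm.eq).map π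
    rw [h1.eq, mul_inv_cancel_right] at hv
    have h2 : π yC * π yC = 1 := by rw [← inv_eq_iff_mul_eq_one]; exact hv.symm
    have h3 := orderOf_dvd_of_pow_eq_one (show π yC ^ 2 = 1 by rw [pow_two]; exact h2)
    rw [ho] at h3
    norm_num at h3
  -- work inside `N`
  let xN : N := ⟨x, hPN hxP⟩
  let yN : N := ⟨y, hPN hc⟩
  let eN : N := ⟨e, heN⟩
  set P' : Subgroup N := (P : Subgroup G).subgroupOf N with hP'
  have hP'25 : Nat.card P' = 25 := by
    rw [hP', Nat.card_congr (Subgroup.subgroupOfEquivOfLe hPN).toEquiv, h25]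
  have hP'c : ∀ w : N, (w : G) ∈ (P : Subgroup G) → P' ≤ Subgroup.centralizer ({w} : Set N) :=
    fun w hw q hq => Subgroup.mem_centralizer_singleton_iff.mpr (Subtype.ext (hab _ hq _ hw).eq)
  have hcx : Nat.card ↥(Subgroup.centralizer ({xN} : Set N)) = 50 := by
    have hle : Nat.card ↥(Subgroup.centralizer ({xN} : Set N)) ≤ 50 := by
      set Nπ := Subgroup.normalizer ((Subgroup.zpowers (π yC) : Subgroup _) : Set (alternatingGroup (Fin 5)))
      have hinj : Nat.card ↥(Subgroup.centralizer ({xN} : Set N)) ≤ Nat.card ↥(Nπ.comap π) := by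
        refine Nat.card_le_card_of_injective (fun n => ⟨⟨((n.1 : N) : G),
          Subgroup.mem_centralizer_singleton_iff.mpr
            (congrArg Subtype.val (Subgroup.mem_centralizer_singleton_iff.mp n.2))⟩, ?_⟩) ?_
        · refine mem_normalizer_of_map fun q hq => ?_
          obtain ⟨w, rfl⟩ := hπs q
          rw [← map_inv, ← map_mul, ← map_mul, hpre]
          exact (Subgroup.mem_normalizer_iff.mp (n.1 : N).2 _).mp ((hpre w).mp hq)
        · intro a b h
          exact Subtype.ext (Subtype.ext (congrArg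
            (fun w : ↥(Nπ.comap π) => ((w : ↥(Subgroup.centralizer ({x} : Set G))) : G)) h))
      refine hinj.trans ?_
      have h10 : Nat.card ↥Nπ ≤ 10 := A5.five_norm ho
      have h1 := (Nπ.comap π).card_mul_index
      rw [Subgroup.index_comap_of_surjective _ hπs, A0.card] at h1
      have h2 := Nπ.card_mul_index
      rw [A5.card_eq] at h2
      have hi : 0 < Nπ.index := Nat.pos_of_ne_zero Subgroup.index_ne_zero_of_finite
      refine Nat.le_of_mul_le_mul_right ?_ hi
      rw [h1]
      calc 300 = 5 * (Nat.card ↥Nπ * Nπ.index) := by rw [h2]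
        _ = (5 * Nat.card ↥Nπ) * Nπ.index := by ring
        _ ≤ 50 * Nπ.index := Nat.mul_le_mul_right _ (by omega)
    have h25d := hP'25 ▸ Subgroup.card_dvd_of_le (hP'c xN hxP)
    have he2 : 2 ∣ Nat.card ↥(Subgroup.centralizer ({xN} : Set N)) := by
      have hm : eN ∈ Subgroup.centralizer ({xN} : Set N) := Subgroup.mem_centralizer_singleton_iff.mpr
        (Subtype.ext (Subgroup.mem_centralizer_singleton_iff.mp e.2))
      have := orderOf_dvd_natCard (⟨eN, hm⟩ : Subgroup.centralizer ({xN} : Set N))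
      rw [Subgroup.orderOf_mk, ← Subgroup.orderOf_coe] at this
      exact heo.trans this
    have h50 := Nat.Coprime.mul_dvd_of_dvd_of_dvd (by norm_num : Nat.Coprime 25 2) h25d he2
    have := Nat.le_of_dvd Nat.card_pos h50
    omega
  have hcy : Nat.card ↥(Subgroup.centralizer ({yN} : Set N)) = 50 := by
    rw [← B.card]
    have hPy : (P : Subgroup G) ≤ Subgroup.centralizer ({y} : Set G) := fun q hq =>
      Subgroup.mem_centralizer_singleton_iff.mpr (hab q hq y hc).eq
    have hidx : ((P : Subgroup G).subgroupOf (Subgroup.centralizer ({y} : Set G))).index = 2 := by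
      have := ((P : Subgroup G).subgroupOf (Subgroup.centralizer ({y} : Set G))).card_mul_index
      rw [Nat.card_congr (Subgroup.subgroupOfEquivOfLe hPy).toEquiv, h25, B.card] at this
      omega
    haveI := Subgroup.normal_of_index_eq_two hidx
    have hle : Subgroup.centralizer ({y} : Set G) ≤ N :=
      (Subgroup.normal_subgroupOf_iff_le_normalizer hPy).mp inferInstance
    exact Nat.card_congr
      { toFun := fun n => ⟨((n.1 : N) : G), Subgroup.mem_centralizer_singleton_iff.mpr
          (congrArg Subtype.val (Subgroup.mem_centralizer_singleton_iff.mp n.2))⟩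
        invFun := fun n => ⟨⟨n.1, hle n.2⟩, Subgroup.mem_centralizer_singleton_iff.mpr
          (Subtype.ext (Subgroup.mem_centralizer_singleton_iff.mp n.2))⟩
        left_inv := fun _ => rfl
        right_inv := fun _ => rfl }
  have hsqc : ∀ w : N, w ^ 5 = 1 →
      Subgroup.centralizer ({w ^ 2} : Set N) = Subgroup.centralizer ({w} : Set N) := by
    intro w h5
    ext n
    rw [Subgroup.mem_centralizer_singleton_iff, Subgroup.mem_centralizer_singleton_iff]
    constructor
    · intro hm
      have e1 : (w ^ 2) ^ 3 = w := by rw [← pow_mul, show 2 * 3 = 5 + 1 from rfl, pow_succ, h5, one_mul]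
      have := (show Commute n (w ^ 2) from hm).pow_right 3
      rwa [e1] at this
    · intro hm
      exact ((show Commute n w from hm).pow_right 2).eq
  have hclass : ∀ w : N, Nat.card ↥(Subgroup.centralizer ({w} : Set N)) = 50 →
      Nat.card {u : N // IsConj w u} * 50 = Nat.card N := fun w hw => hw ▸ S1875.card_class w
  let K : N → Finset N := fun w => (@Finset.univ N (Fintype.ofFinite N)).filter fun u => IsConj w u
  letI := Fintype.ofFinite N
  have hKmem : ∀ w u : N, u ∈ K w ↔ IsConj w u := fun w u => by simp [K]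
  have hKcard : ∀ w : N, (K w).card = Nat.card {u : N // IsConj w u} := fun w => by
    rw [Nat.card_eq_fintype_card, Fintype.card_subtype]
    congr 1
    ext u
    simp [K]
  set Pn : Finset N := (Finset.univ.filter fun u : N => u ∈ P').erase 1 with hPn
  have hPn24 : Pn.card = 24 := by
    rw [hPn, Finset.card_erase_of_mem (by simp), ← Fintype.card_subtype, ← Nat.card_eq_fintype_card]
    have : Nat.card {u : N // u ∈ P'} = 25 := hP'25
    omega
  have hKsub : ∀ w : N, (w : G) ∈ (P : Subgroup G) → w ≠ 1 → K w ⊆ Pn := by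
    intro w hw hw1 u hu
    obtain ⟨n, rfl⟩ := isConj_iff.mp ((hKmem w u).mp hu)
    rw [hPn, Finset.mem_erase, Ne, conj_eq_one_iff]
    refine ⟨hw1, Finset.mem_filter.mpr ⟨Finset.mem_univ _, ?_⟩⟩
    exact (Subgroup.mem_normalizer_iff.mp n.2 _).mp hw
  have hdis : ∀ a b : N, ¬ IsConj a b → Disjoint (K a) (K b) := fun a b hab' =>
    Finset.disjoint_left.mpr fun u h1 h2 =>
      hab' (((hKmem a u).mp h1).trans ((hKmem b u).mp h2).symm)
  -- powers of the two kinds are not conjugate
  have hmix : ∀ i j : ℕ, ¬ (5 ∣ i) → ¬ (5 ∣ j) → ¬ IsConj (y ^ i) (x ^ j) := by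
    intro i j hi hj hcj
    obtain ⟨g, hg⟩ := isConj_iff.mp hcj
    apply hnc g
    have h1 : g * y * g⁻¹ ∈ Subgroup.zpowers (g * y ^ i * g⁻¹) := by
      have hgcd : Nat.Coprime i 5 := (Nat.Coprime.symm ((Nat.Prime.coprime_iff_not_dvd Nat.prime_five).mpr hi))
      obtain ⟨k, hk⟩ := exists_pow_eq_self_of_coprime (x := y) (n := i) (by rw [B.order]; exact hgcd)
      refine Subgroup.mem_zpowers_iff.mpr ⟨(k : ℤ), ?_⟩
      rw [zpow_natCast, conj_pow, hk]
    rw [hg] at h1
    exact (Subgroup.zpowers_le.mpr (Subgroup.pow_mem _ (Subgroup.mem_zpowers x) j)) h1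
  have hmixN : ∀ i j : ℕ, ¬ (5 ∣ i) → ¬ (5 ∣ j) → ¬ IsConj (xN ^ i) (yN ^ j) := by
    intro i j hi hj h
    obtain ⟨n, hn⟩ := isConj_iff.mp h
    exact hmix j i hj hi (isConj_iff.mpr ⟨(n : G), congrArg Subtype.val hn⟩ : IsConj (x ^ i) (y ^ j)).symm
  have hx1 : xN ≠ 1 := fun e1 => by
    have := congrArg Subtype.val e1
    have hh := A0.order
    rw [show x = 1 from this, orderOf_one] at hh; omega
  have hy1 : yN ≠ 1 := fun e1 => hy_nx (by
    rw [show y = 1 from congrArg Subtype.val e1]; exact one_mem _)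
  have hx5 : xN ^ 5 = 1 := Subtype.ext (hexp P x hxP)
  have hy5 : yN ^ 5 = 1 := Subtype.ext (hexp P y hc)
  have hidxN := N.card_mul_index
  have hnidx : N.index = Nat.card (Sylow 5 G) := (Sylow.card_eq_index_normalizer P).symm
  rw [hG, hnidx] at hidxN
  have hmod := card_sylow_modEq_one 5 G
  have hN300 : Nat.card N = 300 := by
    have h1 := hclass xN hcx
    have h2 := hclass yN hcy
    have hcard2 : (K xN).card + (K yN).card ≤ 24 := by
      rw [← hPn24, ← Finset.card_union_of_disjoint (hdis _ _ (by simpa using hmixN 1 1 (by norm_num) (by norm_num)))]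
      exact Finset.card_le_card (Finset.union_subset (hKsub _ hxP hx1) (hKsub _ hc hy1))
    rw [hKcard, hKcard] at hcard2
    have hne1 : Nat.card {u : N // IsConj yN u} ≠ 1 := by
      intro h1'
      haveI := (Nat.card_eq_one_iff_unique.mp h1').1
      have := Subsingleton.elim (⟨yN, IsConj.refl _⟩ : {u : N // IsConj yN u})
        ⟨eN * yN * eN⁻¹, isConj_iff.mpr ⟨eN, rfl⟩⟩
      have h' : y = (e : G) * y * (e : G)⁻¹ := congrArg (fun u : {u : N // IsConj yN u} => ((u.1 : N) : G)) this
      exact hey (mul_inv_eq_iff_eq_mul.mp h'.symm)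
    set n5 := Nat.card (Sylow 5 G)
    set c' := Nat.card {u : N // IsConj yN u}
    rw [← h2] at hidxN h1
    have hc12 : c' ≤ 12 := by omega
    have hcn : c' * n5 = 12096 := by
      have : c' * n5 * 50 = 12096 * 50 := by rw [mul_right_comm, hidxN]
      omega
    rw [Nat.ModEq] at hmod
    rw [← h2]
    have hmod' : c' * n5 % 5 = c' % 5 := by rw [Nat.mul_mod, hmod]; simp
    rw [hcn] at hmod'
    have hdvd : c' ∣ 12096 := ⟨n5, hcn.symm⟩
    clear_value c'
    interval_cases c' <;> omega
  have hK6 : ∀ w : N, Nat.card ↥(Subgroup.centralizer ({w} : Set N)) = 50 → (K w).card = 6 := by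
    intro w hw
    have := hclass w hw
    rw [hN300] at this
    rw [hKcard]; omega
  -- `x` and its square are not conjugate
  have hxsqN : ∀ w : N, w ^ 5 = 1 → w ≠ 1 → Nat.card ↥(Subgroup.centralizer ({w} : Set N)) = 50 →
      ¬ IsConj w (w ^ 2) := by
    intro w h5 hw1 hw hcj
    obtain ⟨n, hn⟩ := isConj_iff.mp hcj
    set S := Subgroup.normalizer ((Subgroup.zpowers w : Subgroup N) : Set N) with hS
    have hCS : Subgroup.centralizer ({w} : Set N) ≤ S := by
      intro u hu
      refine mem_normalizer_of_map fun q hq => ?_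
      obtain ⟨i, rfl⟩ := Subgroup.mem_zpowers_iff.mp hq
      rw [((show Commute u w from Subgroup.mem_centralizer_singleton_iff.mp hu).zpow_right i).eq,
        mul_inv_cancel_right]
      exact ⟨i, rfl⟩
    have hnS : n ∈ S := mem_normalizer_of_map fun q hq => by
      obtain ⟨i, rfl⟩ := Subgroup.mem_zpowers_iff.mp hq
      rw [← conj_zpow, hn]
      exact Subgroup.zpow_mem _ (Subgroup.pow_mem _ (Subgroup.mem_zpowers w) 2) i
    let wS : S := ⟨w, Subgroup.le_normalizer (Subgroup.mem_zpowers w)⟩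
    have hcS : Nat.card ↥(Subgroup.centralizer ({wS} : Set S)) = 50 := by
      rw [← hw]
      exact Nat.card_congr
        { toFun := fun u => ⟨((u.1 : S) : N), Subgroup.mem_centralizer_singleton_iff.mpr
            (congrArg Subtype.val (Subgroup.mem_centralizer_singleton_iff.mp u.2))⟩
          invFun := fun u => ⟨⟨u.1, hCS u.2⟩, Subgroup.mem_centralizer_singleton_iff.mpr
            (Subtype.ext (Subgroup.mem_centralizer_singleton_iff.mp u.2))⟩
          left_inv := fun _ => rfl
          right_inv := fun _ => rfl }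
    have hwo : orderOf w = 5 := orderOf_eq_prime h5 hw1
    have h4 : Nat.card {u : S // IsConj wS u} = 4 := by
      refine le_antisymm ?_ ?_
      · let f : {u : S // IsConj wS u} → {q : Subgroup.zpowers w // q ≠ 1} := fun u =>
          ⟨⟨((u.1 : S) : N), by
            obtain ⟨d, hd⟩ := isConj_iff.mp u.2
            rw [← hd]
            exact (Subgroup.mem_normalizer_iff.mp d.2 w).mp (Subgroup.mem_zpowers w)⟩, fun h => by
            obtain ⟨d, hd⟩ := isConj_iff.mp u.2
            have h' : ((u.1 : S) : N) = 1 := congrArg Subtype.val h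
            rw [← hd] at h'
            exact hw1 (conj_eq_one_iff.mp h')⟩
        have hf : Function.Injective f := fun a b h => Subtype.ext (Subtype.ext
          (congrArg (fun q : {q : Subgroup.zpowers w // q ≠ 1} => ((q.1 : Subgroup.zpowers w) : N)) h))
        refine (Nat.card_le_card_of_injective f hf).trans ?_
        letI := Fintype.ofFinite (Subgroup.zpowers w)
        rw [Nat.card_eq_fintype_card, Fintype.card_subtype_compl, Fintype.card_subtype_eq,
          ← Nat.card_eq_fintype_card, Nat.card_zpowers, hwo]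
      · have hpow : ∀ k : ℕ, IsConj wS (⟨w ^ (2 ^ k), Subgroup.pow_mem _ wS.2 _⟩ : S) := by
          intro k
          induction k with
          | zero =>
            rw [show (⟨w ^ (2 ^ 0), Subgroup.pow_mem _ wS.2 _⟩ : S) = wS from Subtype.ext (by simp [wS])]
          | succ k ih =>
            refine ih.trans (isConj_iff.mpr ⟨⟨n, hnS⟩, Subtype.ext ?_⟩)
            show n * w ^ (2 ^ k) * n⁻¹ = w ^ (2 ^ (k + 1))
            rw [← conj_pow, hn, ← pow_mul, pow_succ']
        let g4 : Fin 4 → {u : S // IsConj wS u} := fun k => ⟨_, hpow k⟩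
        have hg : Function.Injective g4 := by
          intro a b h
          have h' : w ^ (2 ^ (a : ℕ)) = w ^ (2 ^ (b : ℕ)) :=
            congrArg (fun u : {u : S // IsConj wS u} => ((u.1 : S) : N)) h
          rw [pow_inj_mod, hwo] at h'
          exact (by decide : ∀ a b : Fin 4, 2 ^ (a : ℕ) % 5 = 2 ^ (b : ℕ) % 5 → a = b) a b h'
        simpa using Nat.card_le_card_of_injective g4 hg
    have h200 := S1875.card_class wS
    rw [h4, hcS] at h200
    have := Subgroup.card_subgroup_dvd_card S
    rw [← h200, hN300] at this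
    norm_num at this
  have hsqx : Nat.card ↥(Subgroup.centralizer ({xN ^ 2} : Set N)) = 50 := by rw [hsqc xN hx5]; exact hcx
  have hsqy : Nat.card ↥(Subgroup.centralizer ({yN ^ 2} : Set N)) = 50 := by rw [hsqc yN hy5]; exact hcy
  have hne2 : ∀ w : N, w ^ 5 = 1 → w ≠ 1 → w ^ 2 ≠ 1 := fun w h5 h1 h2 => h1 (by
    calc w = w ^ 5 * ((w ^ 2) ^ 2)⁻¹ := by group
      _ = 1 := by rw [h5, h2]; group)
  have hunion : Pn = K xN ∪ K (xN ^ 2) ∪ (K yN ∪ K (yN ^ 2)) := by
    symm
    refine Finset.eq_of_subset_of_card_le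
      (Finset.union_subset (Finset.union_subset (hKsub _ hxP hx1)
        (hKsub _ ((P : Subgroup G).pow_mem hxP 2) (hne2 _ hx5 hx1)))
        (Finset.union_subset (hKsub _ hc hy1)
          (hKsub _ ((P : Subgroup G).pow_mem hc 2) (hne2 _ hy5 hy1)))) ?_
    rw [hPn24, Finset.card_union_of_disjoint, Finset.card_union_of_disjoint (hdis _ _ (hxsqN _ hx5 hx1 hcx)),
      Finset.card_union_of_disjoint (hdis _ _ (hxsqN _ hy5 hy1 hcy)), hK6 _ hcx, hK6 _ hsqx, hK6 _ hcy,
      hK6 _ hsqy]
    rw [Finset.disjoint_union_left, Finset.disjoint_union_right, Finset.disjoint_union_right]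
    exact ⟨⟨hdis _ _ (by simpa using hmixN 1 1 (by norm_num) (by norm_num)),
      hdis _ _ (by simpa using hmixN 1 2 (by norm_num) (by norm_num))⟩,
      hdis _ _ (by simpa using hmixN 2 1 (by norm_num) (by norm_num)),
      hdis _ _ (hmixN 2 2 (by norm_num) (by norm_num))⟩
  refine ⟨hself, FiveAData.sylow_card hG, fun R => ?_, x, y, A0, B, ?_, hnc, fun w hw => ?_⟩
  · have h1 := (Subgroup.normalizer ((R : Subgroup G) : Set G)).card_mul_index
    rw [show (Subgroup.normalizer ((R : Subgroup G) : Set G)).index = Nat.card (Sylow 5 G) from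
      (Sylow.card_eq_index_normalizer R).symm, hG] at h1
    rw [hN300] at hidxN
    rw [← hidxN] at h1
    exact Nat.eq_of_mul_eq_mul_right Nat.card_pos h1
  · intro hcj
    obtain ⟨g, hg⟩ := isConj_iff.mp hcj
    have hPm : IsMulCommutative (P : Subgroup G) :=
      ⟨⟨fun a b => Subtype.ext (hab a a.2 b b.2).eq⟩⟩
    obtain ⟨n, hn, hne⟩ := Transfer.conj_normalizer_of_abelian P hPm hxP
      (by rw [hg]; exact (P : Subgroup G).pow_mem hxP 2)
    rw [hg] at hne
    exact hxsqN xN hx5 hx1 hcx (isConj_iff.mpr ⟨⟨n, hn⟩, Subtype.ext hne⟩)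
  · have hp : IsPGroup 5 (Subgroup.zpowers w) :=
      IsPGroup.of_card (n := 1) (by rw [Nat.card_zpowers, hw, pow_one])
    obtain ⟨P1, hP1⟩ := hp.exists_le_sylow
    obtain ⟨g, hg⟩ := MulAction.exists_smul_eq G P1 P
    have hgw : g * w * g⁻¹ ∈ (P : Subgroup G) := by
      rw [← hg, Sylow.smul_def, Sylow.pointwise_smul_def]
      exact Subgroup.smul_mem_pointwise_smul _ (MulAut.conj g) _ (hP1 (Subgroup.mem_zpowers w))
    have hmem : (⟨g * w * g⁻¹, hPN hgw⟩ : N) ∈ Pn := by
      rw [hPn, Finset.mem_erase]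
      refine ⟨fun h => ?_, Finset.mem_filter.mpr ⟨Finset.mem_univ _, hgw⟩⟩
      have h' : g * w * g⁻¹ = 1 := congrArg Subtype.val h
      rw [conj_eq_one_iff] at h'
      rw [h', orderOf_one] at hw; omega
    have hback : IsConj (g * w * g⁻¹) w := isConj_iff.mpr ⟨g⁻¹, by group⟩
    have push : ∀ a : N, IsConj a (⟨g * w * g⁻¹, hPN hgw⟩ : N) → IsConj (a : G) w := fun a h => by
      obtain ⟨n, hn⟩ := isConj_iff.mp h
      exact (isConj_iff.mpr ⟨(n : G), congrArg Subtype.val hn⟩ : IsConj (a : G) _).trans hback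
    rw [hunion, Finset.mem_union, Finset.mem_union, Finset.mem_union, hKmem, hKmem, hKmem, hKmem] at hmem
    rcases hmem with (h | h) | (h | h)
    · exact Or.inl (push _ h)
    · exact Or.inr (Or.inl (push _ h))
    · exact Or.inr (Or.inr (Or.inl (push _ h)))
    · exact Or.inr (Or.inr (Or.inr (push _ h)))

end HJG

end Cfsg.Agent.J2Order38
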