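import Cfsg.Agent.J2Order38.FourSylow
import Cfsg.Agent.J2Order38.A5
import Cfsg.Agent.Lib.LargeExtraspecial.Basic
import Cfsg.Agent.S0494

/-!
Groups of order sixty with four-group involution centralizers, and their automorphisms fixing a
four group pointwise.
-/

set_option autoImplicit false

namespace Cfsg.Agent.J2Order38

open Subgroup Equiv

namespace A5

/-- A second involution commuting with `a0`. -/
def c0 : alternatingGroup (Fin 5) :=
  ⟨swap 0 2 * swap 1 3, by rw [Equiv.Perm.mem_alternatingGroup]; decide +kernel⟩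

/-- An involution generating with the centralizer of `a0`. -/
def g0 : alternatingGroup (Fin 5) :=
  ⟨swap 0 1 * swap 3 4, by rw [Equiv.Perm.mem_alternatingGroup]; decide +kernel⟩

theorem rels : g0 * g0 = 1 ∧ (a0 * g0) ^ 3 = 1 ∧ (c0 * g0) ^ 5 = 1 ∧ (a0 * c0 * g0) ^ 5 = 1 ∧
    a0 * g0 ≠ 1 ∧ c0 * g0 ≠ 1 ∧ c0 * a0 = a0 * c0 := by decide +kernel

set_option maxRecDepth 100000 in
theorem aut_fix : ∀ g' : alternatingGroup (Fin 5), (g' * g' = 1 ∧ (a0 * g') ^ 3 = 1 ∧
    (c0 * g') ^ 5 = 1 ∧ (a0 * c0 * g') ^ 5 = 1) →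
    ∃ v : alternatingGroup (Fin 5), v * a0 = a0 * v ∧ v * g0 * v⁻¹ = g' := by
  decide +kernel

theorem eq_top {H : Subgroup (alternatingGroup (Fin 5))}
    (hW : ∀ x, Commute x a0 → x ∈ H) (hg : g0 ∈ H) : H = ⊤ := by
  haveI : Fact (Nat.Prime 3) := ⟨Nat.prime_three⟩
  haveI : Fact (Nat.Prime 5) := ⟨Nat.prime_five⟩
  have ha : a0 ∈ H := hW a0 (Commute.refl _)
  have hc : c0 ∈ H := hW c0 rels.2.2.2.2.2.2
  have h3 : 3 ∣ Nat.card H := by
    have := orderOf_dvd_natCard (⟨a0 * g0, mul_mem ha hg⟩ : H)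
    rwa [Subgroup.orderOf_mk, orderOf_eq_prime rels.2.1 rels.2.2.2.2.1] at this
  have h5 : 5 ∣ Nat.card H := by
    have := orderOf_dvd_natCard (⟨c0 * g0, mul_mem hc hg⟩ : H)
    rwa [Subgroup.orderOf_mk, orderOf_eq_prime rels.2.2.1 rels.2.2.2.2.2.1] at this
  have h4 : 4 ∣ Nat.card H := by
    have hle : Subgroup.centralizer ({a0} : Set (alternatingGroup (Fin 5))) ≤ H :=
      fun x hx => hW x (Subgroup.mem_centralizer_singleton_iff.mp hx)
    have := Subgroup.card_dvd_of_le hle
    rwa [cent_card a0_sq a0_ne] at this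
  refine Subgroup.eq_top_of_le_card H ?_
  rw [card_eq]
  exact Nat.le_of_dvd Nat.card_pos (by
    have := Nat.Coprime.mul_dvd_of_dvd_of_dvd (by decide : Nat.Coprime (4 * 3) 5)
      (Nat.Coprime.mul_dvd_of_dvd_of_dvd (by decide : Nat.Coprime 4 3) h4 h3) h5
    exact this)

end A5

namespace FourHyp

variable {M : Type*} [Group M] [Finite M] {W : Subgroup M}

theorem exists_ne_one (h : FourHyp W) : ∃ w ∈ W, w ≠ 1 := by
  by_contra hcon
  push Not at hcon
  have : W = ⊥ := (Subgroup.eq_bot_iff_forall W).mpr hcon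
  have h4 := h.card
  rw [this, Subgroup.card_bot] at h4
  omega

theorem order_two (h : FourHyp W) {w : M} (hw : w ∈ W) (hw1 : w ≠ 1) : orderOf w = 2 :=
  orderOf_eq_prime (by rw [pow_two]; exact h.sq w hw) hw1

theorem normal_eq_bot_or_top (h : FourHyp W) (h60 : Nat.card M = 60) (N : Subgroup M) [hN : N.Normal] :
    N = ⊥ ∨ N = ⊤ := by
  classical
  -- odd normal subgroups are trivial
  have hodd : ∀ K : Subgroup M, K.Normal → Odd (Nat.card K) → K = ⊥ := by
    intro K hK hKodd
    refine (Subgroup.eq_bot_iff_forall K).mpr fun x hx => ?_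
    obtain ⟨w, hw, hw1⟩ := h.exists_ne_one
    have hfix : ∀ v ∈ W, v ≠ 1 → ∀ k ∈ K, v * k * v⁻¹ = k → k = 1 := by
      intro v hv hv1 k hk he
      refine h.eq_one_of_commute_inv (h.order_two hv hv1) (mul_inv_eq_iff_eq_mul.mp he) ?_
      have := orderOf_dvd_natCard (⟨k, hk⟩ : K)
      rw [Subgroup.orderOf_mk] at this
      exact hKodd.of_dvd_nat this
    have hinv : ∀ v ∈ W, v ≠ 1 → ∀ k ∈ K, v * k * v⁻¹ = k⁻¹ := fun v hv hv1 =>
      LargeExtraspecial.inverts_of_fixedPointFree (h.sq v hv)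
        (Subgroup.mem_normalizer_iff.mpr fun y => ⟨fun hy => hK.conj_mem y hy v, fun hy => by
          have := hK.conj_mem _ hy v⁻¹; simpa [mul_assoc] using this⟩) (hfix v hv hv1)
    obtain ⟨v, hv, hv1, hvw⟩ : ∃ v ∈ W, v ≠ 1 ∧ v ≠ w := by
      by_contra hcon
      push Not at hcon
      have hle : W ≤ Subgroup.zpowers w := fun v hv => by
        by_cases hv1 : v = 1
        · rw [hv1]; exact one_mem _
        · rw [hcon v hv hv1]; exact Subgroup.mem_zpowers w
      have := Subgroup.card_le_of_le hle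
      rw [h.card, Nat.card_zpowers, h.order_two hw hw1] at this
      omega
    have hvw1 : v * w ≠ 1 := fun e => hvw (by
      rw [eq_inv_of_mul_eq_one_left e, inv_eq_of_mul_eq_one_right (h.sq w hw)])
    refine hfix (v * w) (mul_mem hv hw) hvw1 x hx ?_
    calc v * w * x * (v * w)⁻¹ = v * (w * x * w⁻¹) * v⁻¹ := by group
      _ = v * x⁻¹ * v⁻¹ := by rw [hinv w hw hw1 x hx]
      _ = x := by rw [hinv v hv hv1 _ (inv_mem hx), inv_inv]
  by_cases he : Odd (Nat.card N)
  · exact Or.inl (hodd N hN he)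
  right
  obtain ⟨i, hi, hi2⟩ := exists_inv_of_even he
  -- all involutions lie in `N`
  have hall : ∀ s : M, orderOf s = 2 → s ∈ N := by
    intro s hs
    obtain ⟨g, w, hw, hw1, rfl⟩ := h.exists_conj hi2
    obtain ⟨c, hc⟩ := isConj_iff.mp (h.one_class s hs w hw hw1)
    have hwN : w ∈ N := by
      have := hN.conj_mem _ hi g⁻¹
      simpa [mul_assoc] using this
    exact hc ▸ hN.conj_mem _ hwN c
  obtain ⟨w, hw, hw1⟩ := h.exists_ne_one
  have h15 : Nat.card {x : M // IsConj w x} = 15 := by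
    have h1 := S1875.card_class w
    rw [h.card_cent_inv (h.order_two hw hw1), h60] at h1
    omega
  have hge : 16 ≤ Nat.card N := by
    let f : Option {x : M // IsConj w x} → N := fun o => o.elim 1 fun x => ⟨x.1, hall _ (by
      obtain ⟨c, hc⟩ := isConj_iff.mp x.2
      rw [← hc, ← MulAut.conj_apply, MulEquiv.orderOf_eq, h.order_two hw hw1])⟩
    have hf : Function.Injective f := by
      have hne1 : ∀ x : {x : M // IsConj w x}, (x : M) ≠ 1 := fun x e =>
        hw1 (isConj_one_left.mp (e ▸ x.2))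
      rintro (_ | a) (_ | b) e
      · rfl
      · exact absurd (congrArg Subtype.val e).symm (hne1 b)
      · exact absurd (congrArg Subtype.val e) (hne1 a)
      · exact congrArg some (Subtype.ext (show (a : M) = b from congrArg (fun n : N => (n : M)) e))
    have := Nat.card_le_card_of_injective f hf
    rw [Finite.card_option, h15] at this
    omega
  have hW4 : 4 ∣ Nat.card N := by
    have hle : W ≤ N := fun x hx => by
      by_cases hx1 : x = 1
      · rw [hx1]; exact one_mem _
      · exact hall x (h.order_two hx hx1)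
    exact h.card ▸ Subgroup.card_dvd_of_le hle
  have hdvd : Nat.card N ∣ 60 := h60 ▸ Subgroup.card_subgroup_dvd_card N
  have hcases : Nat.card N = 20 ∨ Nat.card N = 60 := by
    have hle : Nat.card N ≤ 60 := Nat.le_of_dvd (by norm_num) hdvd
    generalize Nat.card N = k at hge hW4 hdvd hle
    obtain ⟨j, rfl⟩ := hW4
    have hj : j ≤ 15 := by omega
    interval_cases j <;> first | omega | exact absurd hdvd (by norm_num)
  rcases hcases with e | e
  · exfalso
    haveI : Fact (Nat.Prime 5) := ⟨Nat.prime_five⟩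
    obtain ⟨P⟩ : Nonempty (Sylow 5 N) := inferInstance
    have hP : Nat.card (P : Subgroup N) = 5 := by
      rw [Sylow.card_eq_multiplicity, e]
      rw [show (20 : ℕ) = 5 ^ 1 * 4 by norm_num, Nat.factorization_mul_apply_of_coprime (by norm_num),
        Nat.Prime.factorization_pow (by norm_num),
        Nat.factorization_eq_zero_of_not_dvd (show ¬ (5 : ℕ) ∣ 4 by norm_num)]
      simp
    have hn : Nat.card (Sylow 5 N) = 1 := by
      have h1 := card_sylow_modEq_one 5 N
      have h2 : Nat.card (Sylow 5 N) ∣ 4 := by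
        have := Sylow.card_dvd_index P
        have h3 := (P : Subgroup N).card_mul_index
        rw [hP, e] at h3
        rwa [show (P : Subgroup N).index = 4 by omega] at this
      rw [Nat.ModEq] at h1
      have := Nat.le_of_dvd (by norm_num) h2
      interval_cases hk : Nat.card (Sylow 5 N) <;> omega
    haveI : Subsingleton (Sylow 5 N) := (Nat.card_eq_one_iff_unique.mp hn).1
    haveI : (P : Subgroup N).Characteristic := Sylow.characteristic_of_subsingleton P
    haveI hPn : ((P : Subgroup N).map N.subtype).Normal := inferInstance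
    have hb := hodd _ hPn (by
      rw [Subgroup.card_map_of_injective N.subtype_injective, hP]; decide)
    rw [Subgroup.map_eq_bot_iff_of_injective _ N.subtype_injective] at hb
    rw [hb, Subgroup.card_bot] at hP
    omega
  · exact Subgroup.eq_top_of_card_eq N (e.trans h60.symm)

theorem nonempty_equiv (h : FourHyp W) (h60 : Nat.card M = 60) :
    Nonempty (M ≃* alternatingGroup (Fin 5)) := by
  haveI : Nontrivial M := Finite.one_lt_card_iff_nontrivial.mp (by omega)
  haveI : IsSimpleGroup M := ⟨fun N hN => h.normal_eq_bot_or_top h60 N⟩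
  exact S0494.result h60

theorem map {N : Type*} [Group N] [Finite N] (e : M ≃* N) (h : FourHyp W) :
    FourHyp (W.map e.toMonoidHom) := by
  refine ⟨by rw [Subgroup.card_map_of_injective (f := e.toMonoidHom) e.injective, h.card], ?_, ?_, ?_⟩
  · rintro _ ⟨w, hw, rfl⟩
    rw [← map_mul, h.sq w hw, map_one]
  · rintro _ ⟨w, hw, rfl⟩ hw1
    have hw1' : w ≠ 1 := fun e' => hw1 (by rw [e', map_one])
    ext x
    rw [Subgroup.mem_centralizer_singleton_iff, Subgroup.mem_map_equiv, ← h.cent w hw hw1',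
      Subgroup.mem_centralizer_singleton_iff]
    exact ⟨fun hx => e.injective (by simpa using hx), fun hx => by simpa using congrArg e hx⟩
  · rintro s hs _ ⟨w, hw, rfl⟩ hw1
    have := h.one_class (e.symm s) (by rw [MulEquiv.orderOf_eq]; exact hs) w hw
      (fun e' => hw1 (by rw [e', map_one]))
    obtain ⟨g, hg⟩ := isConj_iff.mp this
    exact isConj_iff.mpr ⟨e g, by
      have := congrArg e hg
      simpa using this⟩


/-- An automorphism fixing `W` pointwise is conjugation by an element of `W`. -/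
theorem inner_of_fix (h : FourHyp W) (h60 : Nat.card M = 60) (α : M ≃* M)
    (hα : ∀ w ∈ W, α w = w) : ∃ v ∈ W, ∀ x, α x = v * x * v⁻¹ := by
  classical
  obtain ⟨φ₀⟩ := h.nonempty_equiv h60
  obtain ⟨w, hw, hw1⟩ := h.exists_ne_one
  obtain ⟨c, hc⟩ := A5.exists_conj (φ₀ w) (by rw [← map_mul, h.sq w hw, map_one])
    (fun e => hw1 (φ₀.map_eq_one_iff.mp e))
  let φ := φ₀.trans (MulAut.conj c).symm
  have hφw : φ w = A5.a0 := by
    show c⁻¹ * φ₀ w * c = A5.a0
    rw [← hc]; group
  have hW : ∀ y, Commute y A5.a0 → φ.symm y ∈ W := by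
    intro y hy
    rw [← h.cent w hw hw1, Subgroup.mem_centralizer_singleton_iff]
    apply φ.injective
    rw [map_mul, map_mul, φ.apply_symm_apply, hφw]
    exact hy
  let β : alternatingGroup (Fin 5) ≃* alternatingGroup (Fin 5) := φ.symm.trans (α.trans φ)
  have hβ : ∀ y, Commute y A5.a0 → β y = y := fun y hy => by
    show φ (α (φ.symm y)) = y
    rw [hα _ (hW y hy), φ.apply_symm_apply]
  have ha : β A5.a0 = A5.a0 := hβ _ (Commute.refl _)
  have hc0 : β A5.c0 = A5.c0 := hβ _ A5.rels.2.2.2.2.2.2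
  obtain ⟨v, hv, hvg⟩ := A5.aut_fix (β A5.g0) ⟨(by rw [← map_mul, A5.rels.1, map_one]),
    (by rw [← ha, ← map_mul, ← map_pow, A5.rels.2.1, map_one]),
    (by rw [← hc0, ← map_mul, ← map_pow, A5.rels.2.2.1, map_one]),
    (by rw [← ha, ← hc0, ← map_mul, ← map_mul, ← map_pow, A5.rels.2.2.2.1, map_one])⟩
  have hH := A5.eq_top (H := MonoidHom.eqLocus β.toMonoidHom (MulAut.conj v).toMonoidHom)
    (fun y hy => by
      show β y = v * y * v⁻¹
      rw [hβ y hy, (A5.cent_comm A5.a0_sq A5.a0_ne hv hy).eq, mul_inv_cancel_right])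
    (by show β A5.g0 = v * A5.g0 * v⁻¹; exact hvg.symm)
  refine ⟨φ.symm v, hW v hv, fun x => ?_⟩
  have hx : φ x ∈ MonoidHom.eqLocus β.toMonoidHom (MulAut.conj v).toMonoidHom := hH ▸ Subgroup.mem_top _
  have hx' : φ (α (φ.symm (φ x))) = v * φ x * v⁻¹ := hx
  rw [φ.symm_apply_apply] at hx'
  apply φ.injective
  rw [hx', map_mul, map_mul, map_inv, φ.apply_symm_apply]

end FourHyp

end Cfsg.Agent.J2Order38
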