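import Cfsg.Agent.J2Order38.CentralOrder
import Cfsg.Agent.S0213

/-!
The order of a group of Hall-Janko type.
-/

set_option autoImplicit false

namespace Cfsg.Agent.J2Order38

open Subgroup

variable {G : Type*} [Group G] [Finite G]

theorem sq_of_isConj {a b : G} (h : IsConj a b) (ha : orderOf a = 2) : b * b = 1 := by
  rw [← pow_two, ← ha, ← isConj_orderOf h, pow_orderOf_eq_one]

namespace HJ

variable {z : G} {Q : Subgroup G}

theorem conj_into (h : HJ z Q) {x : G} (hx : orderOf x = 2) :
    ∃ g : G, Commute z (g * x * g⁻¹) := by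
  haveI : Fact (Nat.Prime 2) := ⟨Nat.prime_two⟩
  obtain ⟨S, hS⟩ := h.two_group.exists_le_sylow
  have hSH : ∀ s ∈ (S : Subgroup G), Commute z s := by
    haveI : Nontrivial (S : Subgroup G) :=
      ⟨⟨⟨z, hS h.z_mem⟩, 1, fun e => h.z_ne (congrArg Subtype.val e)⟩⟩
    haveI : Nontrivial (Subgroup.center (S : Subgroup G)) := S.2.center_nontrivial
    obtain ⟨⟨c, hc⟩, hne⟩ := exists_ne (1 : Subgroup.center (S : Subgroup G))
    have hcc : ((c : (S : Subgroup G)) : G) ∈ Subgroup.centralizer (Q : Set G) :=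
      Subgroup.mem_centralizer_iff.mpr fun q hq =>
        congrArg Subtype.val (Subgroup.mem_center_iff.mp hc ⟨q, hS hq⟩)
    rw [h.setup.centralizer_eq] at hcc
    intro s hs
    rcases h.cases_z hcc with e | e
    · exact absurd (Subtype.ext (Subtype.ext e)) hne
    · rw [← e]
      exact (congrArg Subtype.val (Subgroup.mem_center_iff.mp hc ⟨s, hs⟩)).symm
  have hp : IsPGroup 2 (Subgroup.zpowers x) :=
    IsPGroup.of_card (n := 1) (by rw [Nat.card_zpowers, hx, pow_one])
  obtain ⟨T, hT⟩ := hp.exists_le_sylow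
  obtain ⟨g, hg⟩ := MulAction.exists_smul_eq G T S
  refine ⟨g, hSH _ ?_⟩
  rw [← hg, Sylow.smul_def, Sylow.pointwise_smul_def]
  exact Subgroup.smul_mem_pointwise_smul _ (MulAut.conj g) _ (hT (Subgroup.mem_zpowers _))

theorem exists_pair (h : HJ z Q)
    (hcl : ∃ x y : G, orderOf x = 2 ∧ orderOf y = 2 ∧ ¬ IsConj x y) :
    ∃ t, Pair z Q t ∧ ∀ x : G, orderOf x = 2 → IsConj z x ∨ IsConj t x := by
  have key : ∀ x : G, orderOf x = 2 → IsConj z x ∨ ∃ v, Outer z Q v ∧ IsConj x v := by
    intro x hx
    obtain ⟨g, hg⟩ := h.conj_into hx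
    have hc : IsConj x (g * x * g⁻¹) := isConj_iff.mpr ⟨g, rfl⟩
    set w := g * x * g⁻¹ with hw
    have hw2 : w * w = 1 := sq_of_isConj hc hx
    by_cases hwQ : w ∈ Q
    · left
      by_cases hwz : w = z
      · rw [← hwz]; exact hc.symm
      · have hw1 : w ≠ 1 := fun e => by
          have := isConj_orderOf hc
          rw [e, orderOf_one, hx] at this; omega
        exact (h.isConj_invs ⟨hwQ, hw2, hw1, hwz⟩).trans hc.symm
    · exact Or.inr ⟨w, ⟨hg, hwQ, hw2⟩, hc⟩
  obtain ⟨a, b, ha, hb, hab⟩ := hcl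
  obtain ⟨x, hx, hxz⟩ : ∃ x, orderOf x = 2 ∧ ¬ IsConj z x := by
    by_cases h1 : IsConj z a
    · exact ⟨b, hb, fun h2 => hab (h1.symm.trans h2)⟩
    · exact ⟨a, ha, h1⟩
  obtain ⟨t, ht, hxt⟩ := (key x hx).resolve_left hxz
  refine ⟨t, ⟨h, ht, fun e => hxz (e.trans hxt.symm)⟩, fun y hy => ?_⟩
  rcases key y hy with e | ⟨v, hv, hyv⟩
  · exact Or.inl e
  · obtain ⟨c, -, hc⟩ := ht.conj_of_outer h hv
    exact Or.inr ((isConj_iff.mpr ⟨c, hc⟩ : IsConj t v).trans hyv.symm)

end HJ

namespace Pair

variable {z t : G} {Q : Subgroup G}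

theorem isConj_outer (P : Pair z Q t) {v : G} (hv : Outer z Q v) : IsConj t v := by
  obtain ⟨c, -, hc⟩ := P.outer.conj_of_outer P.hj hv
  exact isConj_iff.mpr ⟨c, hc⟩

theorem of_outer (P : Pair z Q t) {v : G} (hv : Outer z Q v) : Pair z Q v :=
  ⟨P.hj, hv, fun e => P.ne (e.trans (P.isConj_outer hv).symm)⟩

theorem outer_of_conj (P : Pair z Q t) {b : G} (hb : IsConj t b) (hzb : Commute z b) :
    Outer z Q b := by
  refine ⟨hzb, fun hbQ => ?_, sq_of_isConj hb P.outer.order⟩
  have hb1 : b ≠ 1 := fun e => by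
    have := isConj_orderOf hb
    rw [e, orderOf_one, P.outer.order] at this; omega
  by_cases hbz : b = z
  · exact P.ne (hbz ▸ hb).symm
  · exact P.ne ((P.hj.isConj_invs ⟨hbQ, sq_of_isConj hb P.outer.order, hb1, hbz⟩).trans hb.symm)

/-- In the relevant pairs, `z` lies in `⟨a b⟩` exactly when the two fail to commute. -/
theorem mem_zpowers_iff_noncomm (P : Pair z Q t) {u v : G} (hu : u ∈ invs z Q) (hv : Outer z Q v) :
    z ∈ Subgroup.zpowers (u * v) ↔ ¬ Commute u v := by
  constructor
  · intro hm hc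
    have h2 : (u * v) ^ 2 = 1 := by
      rw [pow_two, hc.symm.mul_mul_mul_comm, hu.2.1, hv.sq, one_mul]
    obtain ⟨k, hk⟩ := Subgroup.mem_zpowers_iff.mp hm
    rcases Int.even_or_odd' k with ⟨j, e | e⟩ <;> subst e
    · rw [zpow_mul, show (u * v) ^ (2 : ℤ) = 1 from by exact_mod_cast h2, one_zpow] at hk
      exact P.hj.z_ne hk.symm
    · rw [zpow_add, zpow_mul, show (u * v) ^ (2 : ℤ) = 1 from by exact_mod_cast h2, one_zpow,
        one_mul, zpow_one] at hk
      refine hv.notMem ?_
      rw [show v = u⁻¹ * z by rw [← hk, inv_mul_cancel_left]]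
      exact mul_mem (inv_mem hu.1) P.hj.z_mem
  · intro hnc
    have hui : u⁻¹ = u := inv_eq_of_mul_eq_one_right hu.2.1
    have hd : disp v u = (u * v) ^ 2 := by rw [disp, hui, pow_two]; group
    have hdQ := hv.disp_mem P.hj hu.1
    rcases P.hj.sq_cases hdQ with hd1 | hd1
    · have hcu := hv.comm_disp P.hj hu.1 hd1
      have hdi : (disp v u)⁻¹ = disp v u := inv_eq_of_mul_eq_one_right hd1
      have hdv : Commute v (disp v u) := by
        have := hv.inverts_disp u
        rw [hdi] at this
        have e : v * disp v u = disp v u * v := by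
          calc v * disp v u = v * disp v u * (v * v) := by rw [hv.sq, mul_one]
            _ = (v * disp v u * v) * v := by group
            _ = disp v u * v := by rw [this]
        exact e
      rcases P.hj.inv_comm hu hdQ hd1 hcu with e | e | e | e
      · exfalso
        apply hnc
        rw [hd, pow_two] at e
        have h1 : (u * v)⁻¹ = u * v := inv_eq_of_mul_eq_one_right e
        rw [mul_inv_rev, hui, hv.inv_eq] at h1
        exact h1.symm
      · exact ⟨2, by simpa [hd] using e⟩
      · exact absurd (e ▸ hdv).symm hnc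
      · exfalso
        apply hnc
        have hzu : Commute v (z * u) := e ▸ hdv
        have := (hv.comm.symm.mul_right hzu)
        rw [← mul_assoc, P.hj.z_sq, one_mul] at this
        exact this.symm
    · rw [hd, ← pow_add] at hd1
      exact ⟨4, by simpa using hd1⟩

theorem count_z (P : Pair z Q t) :
    Nat.card {p : G × G // IsConj z p.1 ∧ IsConj t p.2 ∧ z ∈ Subgroup.zpowers (p.1 * p.2)} = 960 := by
  classical
  have hchar : ∀ a b : G, (IsConj z a ∧ IsConj t b ∧ z ∈ Subgroup.zpowers (a * b)) ↔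
      (a ∈ invs z Q ∧ Outer z Q b ∧ ¬ Commute a b) := by
    intro a b
    constructor
    · rintro ⟨ha, hb, hm⟩
      have haa := sq_of_isConj ha P.hj.z_order
      have hbb := sq_of_isConj hb P.outer.order
      have hai : a⁻¹ = a := inv_eq_of_mul_eq_one_right haa
      have hbi : b⁻¹ = b := inv_eq_of_mul_eq_one_right hbb
      have hzab : Commute z (a * b) := by
        obtain ⟨k, hk⟩ := Subgroup.mem_zpowers_iff.mp hm
        rw [← hk]; exact (Commute.refl _).zpow_left k
      have hza : Commute z a := by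
        obtain ⟨k, hk⟩ := Subgroup.mem_zpowers_iff.mp hm
        have h1 : a * (a * b) ^ k * a⁻¹ = ((a * b) ^ k)⁻¹ := by
          rw [← conj_zpow, ← inv_zpow, mul_inv_rev, hai, hbi]
          congr 1
          calc a * (a * b) * a = (a * a) * (b * a) := by group
            _ = b * a := by rw [haa, one_mul]
        rw [hk, P.hj.z_inv, mul_inv_eq_iff_eq_mul] at h1
        exact h1.symm
      have hzb : Commute z b := by
        have := hza.mul_right hzab
        rwa [← mul_assoc, haa, one_mul] at this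
      have hbo := P.outer_of_conj hb hzb
      rcases P.classify haa hza ha with rfl | hai'
      · exfalso
        have hc : Commute a b := hzb
        have h2 : (a * b) ^ 2 = 1 := by rw [pow_two, hc.symm.mul_mul_mul_comm, haa, hbb, one_mul]
        obtain ⟨k, hk⟩ := Subgroup.mem_zpowers_iff.mp hm
        rcases Int.even_or_odd' k with ⟨j, e | e⟩ <;> subst e
        · rw [zpow_mul, show (a * b) ^ (2 : ℤ) = 1 from by exact_mod_cast h2, one_zpow] at hk
          exact P.hj.z_ne hk.symm
        · rw [zpow_add, zpow_mul, show (a * b) ^ (2 : ℤ) = 1 from by exact_mod_cast h2, one_zpow,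
            one_mul, zpow_one] at hk
          exact hbo.notMem ((mul_eq_left.mp hk) ▸ one_mem Q)
      · exact ⟨hai', hbo, (P.mem_zpowers_iff_noncomm hai' hbo).mp hm⟩
    · rintro ⟨ha, hb, hnc⟩
      exact ⟨P.hj.isConj_invs ha, P.isConj_outer hb, (P.mem_zpowers_iff_noncomm ha hb).mpr hnc⟩
  have e : {p : G × G // IsConj z p.1 ∧ IsConj t p.2 ∧ z ∈ Subgroup.zpowers (p.1 * p.2)} ≃
      Σ v : outers z Q, {u : invs z Q // ¬ Commute (u : G) v} :=
    { toFun := fun p => ⟨⟨p.1.2, ((hchar _ _).mp p.2).2.1⟩,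
        ⟨⟨p.1.1, ((hchar _ _).mp p.2).1⟩, ((hchar _ _).mp p.2).2.2⟩⟩
      invFun := fun q => ⟨(q.2.1, q.1), (hchar _ _).mpr ⟨q.2.1.2, q.1.2, q.2.2⟩⟩
      left_inv := fun _ => rfl
      right_inv := fun _ => rfl }
  letI := Fintype.ofFinite G
  have h8 : ∀ v : outers z Q, Nat.card {u : invs z Q // ¬ Commute (u : G) v} = 8 := by
    rintro ⟨v, hv⟩
    obtain ⟨w, hw, hvw, hcases⟩ := (P.of_outer hv).exists_u
    have hzw : z * w ∈ invs z Q :=
      ⟨mul_mem P.hj.z_mem hw.1,
        by rw [(P.hj.z_comm hw.1).symm.mul_mul_mul_comm, P.hj.z_sq, hw.2.1, one_mul],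
        fun e => hw.2.2.2 ((eq_inv_of_mul_eq_one_right e).trans P.hj.z_inv),
        fun e => hw.2.2.1 (mul_eq_left.mp e)⟩
    have h2 : (Finset.univ.filter fun u : invs z Q => Commute (u : G) v) =
        {⟨w, hw⟩, ⟨z * w, hzw⟩} := by
      ext u
      simp only [Finset.mem_filter, Finset.mem_univ, true_and, Finset.mem_insert,
        Finset.mem_singleton, Subtype.ext_iff]
      constructor
      · intro hc
        rcases hcases _ u.2.1 hc.symm with e | e | e | e
        exacts [absurd e u.2.2.2.1, absurd e u.2.2.2.2, Or.inl e, Or.inr e]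
      · rintro (e | e) <;> rw [e]
        · exact hvw.symm
        · exact (hv.comm.symm.mul_right hvw).symm
    have h3 : Fintype.card {u : invs z Q // Commute (u : G) v} = 2 := by
      rw [Fintype.card_subtype, h2, Finset.card_pair]
      exact fun e => P.hj.z_ne (mul_eq_right.mp (congrArg Subtype.val e).symm)
    rw [Nat.card_eq_fintype_card, Fintype.card_subtype_compl, h3, ← Nat.card_eq_fintype_card,
      P.hj.card_invs]
  rw [Nat.card_congr e, Nat.card_sigma, Finset.sum_congr rfl (fun v _ => h8 v), Finset.sum_const,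
    Finset.card_univ, ← Nat.card_eq_fintype_card, P.outer.card_outers P.hj, smul_eq_mul]

/-- There are not `51840` elements. -/
theorem card_ne (P : Pair z Q t) : Nat.card G ≠ 51840 := by
  classical
  intro hG
  have h := P.hj
  haveI : Fact (Nat.Prime 2) := ⟨Nat.prime_two⟩
  letI := Fintype.ofFinite G
  have hX : Nat.card {x : G // IsConj z x} = 27 := by
    have h1 := S1875.card_class z
    rw [h.card_H, hG] at h1
    omega
  set Y : Set G := {x | IsConj z x ∧ ¬ Commute z x} with hY
  have hY16 : Nat.card Y = 16 := by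
    have h11 : (Finset.univ.filter fun x : G => IsConj z x ∧ Commute z x).card = 11 := by
      have e : (Finset.univ.filter fun x : G => IsConj z x ∧ Commute z x) =
          insert z (Finset.univ.filter fun x : G => x ∈ invs z Q) := by
        ext x
        simp only [Finset.mem_filter, Finset.mem_univ, true_and, Finset.mem_insert]
        constructor
        · rintro ⟨hc, hzx⟩
          exact P.classify (sq_of_isConj hc h.z_order) hzx hc
        · rintro (rfl | hx)
          · exact ⟨IsConj.refl _, Commute.refl _⟩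
          · exact ⟨h.isConj_invs hx, h.z_comm hx.1⟩
      rw [e, Finset.card_insert_of_notMem (fun hm => (Finset.mem_filter.mp hm).2.2.2.2 rfl), ← Fintype.card_subtype,
        ← Nat.card_eq_fintype_card]
      exact congrArg (· + 1) h.card_invs
    have h27 : (Finset.univ.filter fun x : G => IsConj z x).card = 27 := by
      rw [← Fintype.card_subtype, ← Nat.card_eq_fintype_card, hX]
    have := Finset.card_filter_add_card_filter_not
      (s := Finset.univ.filter fun x : G => IsConj z x) (fun x : G => Commute z x)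
    rw [Finset.filter_filter, Finset.filter_filter, h11, h27] at this
    change Nat.card {x : G // IsConj z x ∧ ¬ Commute z x} = 16
    rw [Nat.card_eq_fintype_card, Fintype.card_subtype]
    omega
  -- an element of order five fixes a point of `Y`
  obtain ⟨g, hg, hg5⟩ := h.exists_five
  have hmove : ∀ {c : G}, Commute z c → ∀ x ∈ Y, c * x * c⁻¹ ∈ Y := by
    intro c hc x hx
    refine ⟨hx.1.trans (isConj_iff.mpr ⟨c, rfl⟩), fun e => hx.2 ?_⟩
    have := (hc.inv_right.mul_right e).mul_right hc
    simpa [mul_assoc] using this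
  let σ : Equiv.Perm Y := (MulAut.conj g).toEquiv.subtypeEquiv fun x =>
    ⟨fun hx => hmove hg x hx, fun hx => by
      have := hmove hg.inv_right _ hx
      simpa [mul_assoc] using this⟩
  have hit : ∀ (k : ℕ) (x : Y), (((σ ^ k) x : Y) : G) = g ^ k * x * (g ^ k)⁻¹ := by
    intro k
    induction k with
    | zero => intro x; simp
    | succ k ih =>
      intro x
      rw [pow_succ', Equiv.Perm.mul_apply]
      show g * ((σ ^ k) x : Y) * g⁻¹ = _
      rw [ih, pow_succ']; group
  have hσ : σ ^ 5 = 1 := Equiv.ext fun x => Subtype.ext (by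
    rw [hit, ← hg5, pow_orderOf_eq_one]; simp)
  have hfix := card_fixed_modEq_five σ hσ
  rw [hY16] at hfix
  have hne : Nat.card {x : Y // σ x = x} ≠ 0 := fun e => by
    rw [e] at hfix; exact absurd hfix (by decide)
  obtain ⟨⟨⟨x, hxY⟩, hσx⟩⟩ := (Nat.card_ne_zero.mp hne).1
  have hgx : Commute g x := mul_inv_eq_iff_eq_mul.mp (congrArg Subtype.val hσx)
  -- the stabilizer of `x` in `Q`
  set E : Subgroup G := Q ⊓ Subgroup.centralizer ({x} : Set G) with hE
  have hEmem : ∀ q, q ∈ E ↔ q ∈ Q ∧ Commute q x := fun q => by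
    rw [hE, Subgroup.mem_inf, Subgroup.mem_centralizer_singleton_iff]; rfl
  have hzE : z ∉ E := fun hm => hxY.2 ((hEmem z).mp hm).2
  have hE1 : 2 ≤ Nat.card E := by
    by_contra hlt
    have hbot : ∀ q ∈ E, q = 1 := by
      intro q hq
      have hone : Nat.card E = 1 := by have := (Nat.card_pos (α := E)); omega
      rw [Subgroup.card_eq_one] at hone
      rwa [hone, Subgroup.mem_bot] at hq
    have hinj : Function.Injective (fun q : Q => (⟨(q : G) * x * (q : G)⁻¹,
        hmove (h.z_comm q.2) x hxY⟩ : Y)) := by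
      intro a b e
      have e' : (a : G) * x * (a : G)⁻¹ = (b : G) * x * (b : G)⁻¹ := congrArg Subtype.val e
      have := hbot ((b : G)⁻¹ * a) ((hEmem _).mpr ⟨mul_mem (inv_mem b.2) a.2, by
        show (b : G)⁻¹ * a * x = x * ((b : G)⁻¹ * a)
        calc (b : G)⁻¹ * a * x = (b : G)⁻¹ * ((a : G) * x * (a : G)⁻¹) * a := by group
          _ = (b : G)⁻¹ * ((b : G) * x * (b : G)⁻¹) * a := by rw [e']
          _ = x * ((b : G)⁻¹ * a) := by group⟩)
      exact Subtype.ext (inv_mul_eq_one.mp this).symm
    have := Nat.card_le_card_of_injective _ hinj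
    rw [h.card, hY16] at this; omega
  have hE4 : Nat.card E ≤ 4 := by
    have hab : ∀ a ∈ E, ∀ b ∈ E, Commute a b := by
      intro a ha b hb
      rcases h.comm_cases ((hEmem a).mp ha).1 ((hEmem b).mp hb).1 with e | e
      · exact mul_inv_eq_iff_eq_mul.mp e
      · exact absurd (by
          rw [show z = a * b * a⁻¹ * b⁻¹ by rw [e, mul_inv_cancel_right]]
          exact mul_mem (mul_mem (mul_mem ha hb) (inv_mem ha)) (inv_mem hb)) hzE
    set A := E ⊔ Subgroup.zpowers z with hA
    have hAQ : A ≤ Q := sup_le inf_le_left (Subgroup.zpowers_le.mpr h.z_mem)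
    have hAc : A ≤ Subgroup.centralizer (A : Set G) := by
      have h1 : A ≤ Subgroup.centralizer (E : Set G) :=
        sup_le (fun a ha => Subgroup.mem_centralizer_iff.mpr fun b hb => (hab b hb a ha).eq)
          (Subgroup.zpowers_le.mpr (Subgroup.mem_centralizer_iff.mpr fun b hb =>
            (h.z_comm ((hEmem b).mp hb).1).eq.symm))
      refine sup_le (Subgroup.le_centralizer_iff.mp h1) (Subgroup.zpowers_le.mpr ?_)
      exact Subgroup.mem_centralizer_iff.mpr fun b hb => (h.z_comm (hAQ hb)).eq.symm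
    have h8 := h.abelian_le hAQ (Subgroup.mem_sup_right (Subgroup.mem_zpowers z))
      (fun a ha b hb => Subgroup.mem_centralizer_iff.mp (hAc hb) a ha)
    have hEA : E ≤ A := le_sup_left
    obtain ⟨k, hk⟩ := Subgroup.card_dvd_of_le hEA
    rcases (show k = 0 ∨ k = 1 ∨ 2 ≤ k by omega) with rfl | rfl | hk2
    · have := (Nat.card_pos (α := A)); omega
    · exact absurd (show z ∈ E from
        (Subgroup.eq_of_le_of_card_ge hEA (by omega)).symm ▸
          Subgroup.mem_sup_right (Subgroup.mem_zpowers z)) hzE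
    · have := Nat.mul_le_mul_left (Nat.card E) hk2
      omega
  -- the element of order five fixes only the identity there
  have hnorm : ∀ {c : G}, Commute z c → Commute c x → ∀ q ∈ E, c * q * c⁻¹ ∈ E := by
    intro c hc hcx q hq
    obtain ⟨hqQ, hqx⟩ := (hEmem q).mp hq
    exact (hEmem _).mpr ⟨h.normal_in hc hqQ, (hcx.mul_left hqx).mul_left hcx.inv_left⟩
  let τ : Equiv.Perm E := (MulAut.conj g).toEquiv.subtypeEquiv fun q =>
    ⟨fun hq => hnorm hg hgx q hq, fun hq => by
      have := hnorm hg.inv_right hgx.inv_left _ hq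
      simpa [mul_assoc] using this⟩
  have hit2 : ∀ (k : ℕ) (q : E), (((τ ^ k) q : E) : G) = g ^ k * q * (g ^ k)⁻¹ := by
    intro k
    induction k with
    | zero => intro q; simp
    | succ k ih =>
      intro q
      rw [pow_succ', Equiv.Perm.mul_apply]
      show g * ((τ ^ k) q : E) * g⁻¹ = _
      rw [ih, pow_succ']; group
  have hτ : τ ^ 5 = 1 := Equiv.ext fun q => Subtype.ext (by
    rw [hit2, ← hg5, pow_orderOf_eq_one]; simp)
  have hfix2 := card_fixed_modEq_five τ hτ
  have hone : Nat.card {q : E // τ q = q} = 1 := by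
    refine Nat.card_eq_one_iff_unique.mpr ⟨⟨?_⟩, ⟨⟨1, ?_⟩⟩⟩
    · have hh : ∀ q : E, τ q = q → q = 1 := by
        intro q hq
        refine Subtype.ext ?_
        have hgq : Commute g (q : G) := mul_inv_eq_iff_eq_mul.mp (congrArg Subtype.val hq)
        rcases h.cases_z (h.five_fix hg hg5 ((hEmem _).mp q.2).1 hgq) with e | e
        · exact e
        · exact absurd (e ▸ q.2) hzE
      rintro ⟨a, ha⟩ ⟨b, hb⟩
      exact Subtype.ext ((hh a ha).trans (hh b hb).symm)
    · exact Subtype.ext (by show g * ((1 : E) : G) * g⁻¹ = _; simp)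
  rw [hone, Nat.ModEq] at hfix2
  omega

end Pair

namespace HJ

variable {z : G} {Q : Subgroup G}

theorem card_eq (h : HJ z Q) (hcl : ∃ x y : G, orderOf x = 2 ∧ orderOf y = 2 ∧ ¬ IsConj x y) :
    Nat.card G = 604800 := by
  obtain ⟨t, P, hall⟩ := h.exists_pair hcl
  have hD := P.centralData
  have hF := S0213.result z t h.z_order P.outer.order P.ne hall
  rw [P.count_z, h.card_H] at hF
  rcases hD.card_ne with e | e
  · have hc := hD.count 3 e
    rw [hc, e] at hF
    exact absurd hF P.card_ne
  · have hc := hD.count 15 e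
    rw [hc, e] at hF
    exact hF

end HJ

end Cfsg.Agent.J2Order38
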