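import Cfsg.Agent.J2Order38.Basic

/-!
Involutions of `C(z)` outside `Q`.
-/

set_option autoImplicit false

namespace Cfsg.Agent.J2Order38

open Subgroup

variable {G : Type*} [Group G]

/-- Involutions of `C(z)` outside `Q`. -/
structure Outer (z : G) (Q : Subgroup G) (v : G) : Prop where
  comm : Commute z v
  notMem : v ∉ Q
  sq : v * v = 1

/-- The displacement of `y` under `v`. -/
def disp (v y : G) : G := y⁻¹ * (v * y * v)

/-- Elements moved into the centre by `v`. -/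
def stabMod (z : G) (Q : Subgroup G) (v : G) : Set G :=
  {y | y ∈ Q ∧ disp v y ∈ Subgroup.zpowers z}

/-- The involutions of `C(z)` outside `Q`, as a set. -/
def outers (z : G) (Q : Subgroup G) : Set G := {v | Outer z Q v}

namespace Outer

variable {z v : G} {Q : Subgroup G}

theorem inv_eq (hv : Outer z Q v) : v⁻¹ = v := inv_eq_of_mul_eq_one_right hv.sq

theorem order (hv : Outer z Q v) : orderOf v = 2 :=
  orderOf_eq_prime (by rw [pow_two]; exact hv.sq) (fun e => hv.notMem (e ▸ one_mem Q))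

theorem conj_mem (hv : Outer z Q v) (h : HJ z Q) {y : G} (hy : y ∈ Q) : v * y * v ∈ Q := by
  have := h.normal_in hv.comm hy
  rwa [hv.inv_eq] at this

theorem disp_mem (hv : Outer z Q v) (h : HJ z Q) {y : G} (hy : y ∈ Q) : disp v y ∈ Q :=
  mul_mem (inv_mem hy) (hv.conj_mem h hy)

theorem inverts_disp (hv : Outer z Q v) (y : G) : v * disp v y * v = (disp v y)⁻¹ := by
  unfold disp
  rw [mul_inv_rev, mul_inv_rev, mul_inv_rev, inv_inv, hv.inv_eq]
  calc v * (y⁻¹ * (v * y * v)) * v = v * y⁻¹ * v * y * (v * v) := by group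
    _ = v * y⁻¹ * v * y := by rw [hv.sq, mul_one]
    _ = _ := by group

theorem v_z (hv : Outer z Q v) : v * z * v = z := by
  rw [← hv.comm.eq, mul_assoc, hv.sq, mul_one]

theorem conj_mul (hv : Outer z Q v) (a b : G) : v * (a * b) * v = (v * a * v) * (v * b * v) := by
  calc v * (a * b) * v = v * a * ((v * v) * b) * v := by rw [hv.sq]; group
    _ = _ := by group

/-- `y` commutes with its displacement when that is an involution or trivial. -/
theorem comm_disp [Finite G] (hv : Outer z Q v) (h : HJ z Q) {y : G} (hy : y ∈ Q)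
    (hd : disp v y * disp v y = 1) : Commute y (disp v y) := by
  set d := disp v y with hdd
  have hvy : v * y * v = y * d := by rw [hdd, disp]; group
  have hsq : y * d * (y * d) = y * y := by
    rw [← hvy, ← hv.conj_mul]
    rcases h.sq_cases hy with e | e <;> rw [e]
    · rw [mul_one, hv.sq]
    · exact hv.v_z
  have e1 : d * (y * d) = y := by rwa [mul_assoc, mul_right_inj] at hsq
  show y * d = d * y
  calc y * d = (d * d) * (y * d) := by rw [hd, one_mul]
    _ = d * (d * (y * d)) := by group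
    _ = d * y := by rw [e1]

theorem conj_z_mem (h : HJ z Q) {a : G} (ha : a ∈ Q) {w : G} (hw : w ∈ Subgroup.zpowers z) :
    Commute w a := by
  rcases h.cases_z hw with e | e <;> rw [e]
  exacts [Commute.one_left a, h.z_comm ha]

theorem disp_mul (hv : Outer z Q v) (a b : G) : disp v (a * b) = b⁻¹ * disp v a * b * disp v b := by
  unfold disp
  rw [hv.conj_mul]; group

/-- `disp` modulo the centre is multiplicative. -/
theorem disp_mul_mod (hv : Outer z Q v) (h : HJ z Q) {a b : G} (ha : a ∈ Q) (hb : b ∈ Q) :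
    ∃ w ∈ Subgroup.zpowers z, disp v (a * b) = w * (disp v a * disp v b) := by
  rw [hv.disp_mul]
  have := h.comm_cases (inv_mem hb) (hv.disp_mem h ha)
  rw [inv_inv] at this
  rcases this with e | e <;> rw [e]
  · exact ⟨1, one_mem _, (one_mul _).symm⟩
  · exact ⟨z, Subgroup.mem_zpowers z, mul_assoc _ _ _⟩

/-- `stabMod` as a subgroup. -/
def stabGroup (hv : Outer z Q v) (h : HJ z Q) : Subgroup G where
  carrier := stabMod z Q v
  one_mem' := ⟨one_mem Q, by rw [disp, inv_one, mul_one, one_mul, hv.sq]; exact one_mem _⟩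
  mul_mem' {a b} ha hb := by
    refine ⟨mul_mem ha.1 hb.1, ?_⟩
    obtain ⟨w, hw, e⟩ := hv.disp_mul_mod h ha.1 hb.1
    rw [e]; exact mul_mem hw (mul_mem ha.2 hb.2)
  inv_mem' {a} ha := by
    refine ⟨inv_mem ha.1, ?_⟩
    obtain ⟨w, hw, e⟩ := hv.disp_mul_mod h ha.1 (inv_mem ha.1)
    rw [mul_inv_cancel, disp, inv_one, mul_one, one_mul, hv.sq] at e
    have : disp v a⁻¹ = (disp v a)⁻¹ * w⁻¹ := by
      rw [eq_comm, inv_mul_eq_iff_eq_mul, inv_eq_iff_mul_eq_one, ← mul_assoc]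
      · rw [← mul_assoc] at e; exact e.symm
    rw [this]; exact mul_mem (inv_mem ha.2) (inv_mem hw)

theorem mem_stab (hv : Outer z Q v) (h : HJ z Q) {y : G} :
    y ∈ hv.stabGroup h ↔ y ∈ Q ∧ disp v y ∈ Subgroup.zpowers z := Iff.rfl

theorem disp_mem_stab [Finite G] (hv : Outer z Q v) (h : HJ z Q) {y : G} (hy : y ∈ Q) :
    disp v y ∈ hv.stabGroup h := by
  refine ⟨hv.disp_mem h hy, ?_⟩
  rw [show disp v (disp v y) = (disp v y * disp v y)⁻¹ by
    conv_lhs => rw [disp, hv.inverts_disp]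
    group]
  exact inv_mem (h.setup.sq_mem (hv.disp_mem h hy))

theorem z_mem_stab (hv : Outer z Q v) (h : HJ z Q) : z ∈ hv.stabGroup h := by
  refine ⟨h.z_mem, ?_⟩
  rw [disp, hv.v_z, inv_mul_cancel]; exact one_mem _

/-- The index of `stabGroup` in `Q` is bounded by half its order. -/
theorem exists_inj [Finite G] (hv : Outer z Q v) (h : HJ z Q) :
    ∃ F : (↥Q ⧸ (hv.stabGroup h).subgroupOf Q) × ↥(Subgroup.zpowers z) → ↥(hv.stabGroup h),
      Function.Injective F ∧ ∀ p, ((F p : _) : G) = disp v ((p.1.out : Q) : G) * (p.2 : G) := by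
  refine ⟨fun p => ⟨disp v ((p.1.out : Q) : G) * (p.2 : G),
    mul_mem (hv.disp_mem_stab h (p.1.out).2) ?_⟩, ?_, fun _ => rfl⟩
  · rcases h.cases_z p.2.2 with e | e <;> rw [e]
    exacts [one_mem _, hv.z_mem_stab h]
  · rintro ⟨a, w⟩ ⟨b, w'⟩ e
    have e' : disp v ((a.out : Q) : G) * (w : G) = disp v ((b.out : Q) : G) * (w' : G) :=
      congrArg Subtype.val e
    have hab : a = b := by
      rw [← Quotient.out_eq a, ← Quotient.out_eq b]
      refine QuotientGroup.eq.mpr ?_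
      rw [Subgroup.mem_subgroupOf]
      set p := ((a.out : Q) : G)
      set q := ((b.out : Q) : G)
      have hp : p ∈ Q := (a.out).2
      have hq : q ∈ Q := (b.out).2
      push_cast
      refine ⟨mul_mem (inv_mem hp) hq, ?_⟩
      obtain ⟨w1, hw1, e1⟩ := hv.disp_mul_mod h hp (mul_mem (inv_mem hp) hq)
      rw [mul_inv_cancel_left] at e1
      -- solve for the displacement of `p⁻¹ q`
      have e2 : disp v (p⁻¹ * q) = (disp v p)⁻¹ * w1⁻¹ * disp v q := by rw [e1]; group
      rw [e2, show disp v q = disp v p * ((w : G) * (w' : G)⁻¹) by rw [← mul_assoc, e']; group,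
        (conj_z_mem h (inv_mem (hv.disp_mem h hp)) (inv_mem hw1)).eq.symm]
      rw [show w1⁻¹ * (disp v p)⁻¹ * (disp v p * ((w : G) * (w' : G)⁻¹))
        = w1⁻¹ * ((w : G) * (w' : G)⁻¹) by group]
      exact mul_mem (inv_mem hw1) (mul_mem w.2 (inv_mem w'.2))
    subst hab
    exact Prod.ext rfl (Subtype.ext (mul_left_cancel e'))

theorem stab_le (hv : Outer z Q v) (h : HJ z Q) : hv.stabGroup h ≤ Q := fun _ hx => hx.1

theorem card_mul_index [Finite G] (hv : Outer z Q v) (h : HJ z Q) :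
    Nat.card ↥(hv.stabGroup h) * Nat.card (↥Q ⧸ (hv.stabGroup h).subgroupOf Q) = 32 := by
  rw [← Subgroup.index, ← Nat.card_congr (Subgroup.subgroupOfEquivOfLe (hv.stab_le h)).toEquiv,
    Subgroup.card_mul_index, h.card]

theorem conj_outer (hv : Outer z Q v) (h : HJ z Q) {c : G} (hc : Commute z c) :
    Outer z Q (c * v * c⁻¹) :=
  ⟨(hc.mul_right hv.comm).mul_right hc.inv_right, fun hm => hv.notMem (by
    have := h.normal_in hc.inv_right hm
    rwa [inv_inv, show c⁻¹ * (c * v * c⁻¹) * c = v by group] at this), by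
    rw [show c * v * c⁻¹ * (c * v * c⁻¹) = c * (v * v) * c⁻¹ by group, hv.sq, mul_one, mul_inv_cancel]⟩

theorem stab_le_eight [Finite G] (hv : Outer z Q v) (h : HJ z Q) :
    Nat.card ↥(hv.stabGroup h) ≤ 8 := by
  by_contra hbig
  have hdvd : Nat.card ↥(hv.stabGroup h) ∣ 2 ^ 5 := by
    rw [show (2 : ℕ) ^ 5 = 32 from rfl, ← h.card]; exact Subgroup.card_dvd_of_le (hv.stab_le h)
  obtain ⟨k, -, hk⟩ := (Nat.dvd_prime_pow Nat.prime_two).mp hdvd
  have hk4 : 4 ≤ k := by
    by_contra hlt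
    have := Nat.pow_le_pow_right (show 0 < 2 by norm_num) (show k ≤ 3 by omega)
    omega
  obtain ⟨π, hπs, hπ⟩ := h.quot
  set hH : v ∈ Subgroup.centralizer ({z} : Set G) :=
    Subgroup.mem_centralizer_singleton_iff.mpr hv.comm.eq.symm
  obtain ⟨c, hc⟩ := A5.exists_partner (a := π ⟨v, hH⟩)
    (by rw [← map_mul, show (⟨v, hH⟩ : Subgroup.centralizer ({z} : Set G)) * ⟨v, hH⟩ = 1 from Subtype.ext hv.sq, map_one])
    (fun e => hv.notMem ((hπ _).mp e))
  obtain ⟨⟨c', hc'⟩, rfl⟩ := hπs c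
  have hzc : Commute z c' := (Subgroup.mem_centralizer_singleton_iff.mp hc').symm
  have hv' := hv.conj_outer h hzc
  rw [← map_inv, ← map_mul, ← map_mul, ← map_mul] at hc
  set w : Subgroup.centralizer ({z} : Set G) :=
    ⟨v, hH⟩ * (⟨c', hc'⟩ * ⟨v, hH⟩ * ⟨c', hc'⟩⁻¹)
  -- a common fixed point modulo the centre
  set P := hv.stabGroup h
  set P' := hv'.stabGroup h
  have hP' : P.map (MulAut.conj c').toMonoidHom ≤ P' := by
    rintro _ ⟨y, ⟨hy, hd⟩, rfl⟩
    refine ⟨h.normal_in hzc hy, ?_⟩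
    show disp (c' * v * c'⁻¹) (c' * y * c'⁻¹) ∈ _
    rw [show disp (c' * v * c'⁻¹) (c' * y * c'⁻¹) = c' * disp v y * c'⁻¹ by unfold disp; group]
    rcases h.cases_z hd with e | e <;> rw [e]
    · simp
    · rw [← hzc.eq, mul_inv_cancel_right]; exact Subgroup.mem_zpowers z
  have hbig' : 16 ≤ Nat.card P' := by
    refine le_trans ?_ (Nat.le_of_dvd Nat.card_pos (Subgroup.card_dvd_of_le hP'))
    rw [Subgroup.card_map_of_injective (MulAut.conj c').injective, hk]
    exact le_trans (by norm_num) (Nat.pow_le_pow_right (by norm_num) hk4)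
  obtain ⟨y, hy, hy', hyz⟩ : ∃ y, y ∈ P ∧ y ∈ P' ∧ y ∉ Subgroup.zpowers z := by
    by_contra hno
    push Not at hno
    have hle : P ⊓ P' ≤ Subgroup.zpowers z := fun y hy => hno y hy.1 hy.2
    have h2 := Nat.le_of_dvd Nat.card_pos (Subgroup.card_dvd_of_le hle)
    rw [h.zpowers_card] at h2
    have hP16 : 16 ≤ Nat.card P := by
      rw [hk]; exact le_trans (by norm_num) (Nat.pow_le_pow_right (by norm_num) hk4)
    have hrel : ∀ A : Subgroup G, A ≤ Q → Nat.card A * A.relIndex Q = 32 := by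
      intro A hA
      rw [Subgroup.relIndex, ← Nat.card_congr (Subgroup.subgroupOfEquivOfLe hA).toEquiv,
        Subgroup.card_mul_index, h.card]
    have e1 := hrel P (hv.stab_le h)
    have e2 := hrel P' (hv'.stab_le h)
    have e3 := hrel (P ⊓ P') (inf_le_left.trans (hv.stab_le h))
    have e4 := Subgroup.relIndex_inf_le (H := P) (K := P') (L := Q)
    have r1 : P.relIndex Q ≤ 2 := by
      have := Nat.mul_le_mul_right (P.relIndex Q) hP16; omega
    have r2 : P'.relIndex Q ≤ 2 := by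
      have := Nat.mul_le_mul_right (P'.relIndex Q) hbig'; omega
    have r3 : (P ⊓ P').relIndex Q ≤ 4 := le_trans e4 (Nat.mul_le_mul r1 r2)
    have := Nat.mul_le_mul h2 r3
    omega
  -- the product of order five fixes `y` modulo the centre
  have hmove : ∀ (u : G), Outer z Q u → y ∈ stabMod z Q u → ∃ ζ ∈ Subgroup.zpowers z, u * y * u = y * ζ := by
    intro u hu hyu
    exact ⟨disp u y, hyu.2, by unfold disp; group⟩
  obtain ⟨ζ1, hζ1, e1⟩ := hmove v hv hy
  obtain ⟨ζ2, hζ2, e2⟩ := hmove _ hv' hy'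
  have hwy : ∃ ζ ∈ Subgroup.zpowers z, (w : G) * y * (w : G)⁻¹ = y * ζ := by
    refine ⟨ζ1 * ζ2, mul_mem hζ1 hζ2, ?_⟩
    show v * (c' * v * c'⁻¹) * y * (v * (c' * v * c'⁻¹))⁻¹ = _
    rw [mul_inv_rev, hv.inv_eq, hv'.inv_eq]
    calc v * (c' * v * c'⁻¹) * y * (c' * v * c'⁻¹ * v)
        = v * ((c' * v * c'⁻¹) * y * (c' * v * c'⁻¹)) * v := by group
      _ = v * (y * ζ2) * v := by rw [e2]
      _ = (v * y * v) * (v * ζ2 * v) := hv.conj_mul _ _
      _ = y * ζ1 * ζ2 := by
          rw [e1]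
          congr 1
          rcases h.cases_z hζ2 with e | e <;> rw [e]
          · rw [mul_one, hv.sq]
          · exact hv.v_z
      _ = y * (ζ1 * ζ2) := mul_assoc _ _ _
  -- a five-element power of `w`
  have hw5 : ((w : Subgroup.centralizer ({z} : Set G)) : G) ^ 5 ∈ Q := by
    rw [← SubmonoidClass.coe_pow, ← hπ, map_pow]
    exact orderOf_dvd_iff_pow_eq_one.mp hc.dvd
  obtain ⟨j, hj⟩ := h.two_group ⟨_, hw5⟩
  have hj' : ((w : G) ^ 5) ^ 2 ^ j = 1 := congrArg Subtype.val hj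
  set g := (w : G) ^ 2 ^ j with hg
  have hg5' : g ^ 5 = 1 := by rw [hg, ← pow_mul, mul_comm, pow_mul, hj']
  haveI : Fact (Nat.Prime 5) := ⟨by norm_num⟩
  have hg1 : g ≠ 1 := by
    intro e
    have he : w ^ 2 ^ j = 1 := Subtype.ext (by rw [SubmonoidClass.coe_pow]; exact e)
    have := congrArg π he
    rw [map_pow, map_one] at this
    have hd := orderOf_dvd_of_pow_eq_one this
    rw [hc] at hd
    have := (Nat.prime_five.dvd_of_dvd_pow hd)
    omega
  have hgo : orderOf g = 5 := orderOf_eq_prime hg5' hg1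
  have hzw : Commute z (w : G) := (Subgroup.mem_centralizer_singleton_iff.mp w.2).symm
  have hzg : Commute z g := hzw.pow_right _
  have hit : ∀ (u : G), Commute z u → (∃ ζ ∈ Subgroup.zpowers z, u * y * u⁻¹ = y * ζ) →
      ∀ n : ℕ, ∃ ζ ∈ Subgroup.zpowers z, u ^ n * y * (u ^ n)⁻¹ = y * ζ := by
    intro u hu ⟨ζ, hζ, e⟩ n
    induction n with
    | zero => exact ⟨1, one_mem _, by simp⟩
    | succ n ih =>
      obtain ⟨η, hη, e'⟩ := ih
      refine ⟨ζ * η, mul_mem hζ hη, ?_⟩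
      rw [pow_succ']
      calc u * u ^ n * y * (u * u ^ n)⁻¹ = u * (u ^ n * y * (u ^ n)⁻¹) * u⁻¹ := by group
        _ = u * y * (η * u⁻¹) := by rw [e']; group
        _ = u * y * u⁻¹ * η := by
            have hc1 : Commute η u⁻¹ := by
              obtain ⟨i, rfl⟩ := Subgroup.mem_zpowers_iff.mp hη
              exact hu.inv_right.zpow_left i
            rw [hc1.eq]; group
        _ = y * (ζ * η) := by rw [e]; group
  obtain ⟨ζ, hζ, eg⟩ := hit _ hzw hwy (2 ^ j)
  rw [← hg] at eg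
  rcases h.cases_z hζ with e | e <;> rw [e] at eg
  · rw [mul_one] at eg
    exact hyz (h.five_fix hzg hgo hy.1 (mul_inv_eq_iff_eq_mul.mp eg))
  · have h2 : g ^ 2 * y * (g ^ 2)⁻¹ = y := by
      calc g ^ 2 * y * (g ^ 2)⁻¹ = g * (g * y * g⁻¹) * g⁻¹ := by
            simp only [pow_two, mul_inv_rev, mul_assoc]
        _ = g * y * (z * g⁻¹) := by rw [eg]; simp only [mul_assoc]
        _ = g * y * g⁻¹ * z := by rw [hzg.inv_right.eq]; simp only [mul_assoc]
        _ = y := by rw [eg, mul_assoc, h.z_sq, mul_one]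
    have hc2 : Commute (g ^ 2) y := mul_inv_eq_iff_eq_mul.mp h2
    have := hc2.pow_left 3
    rw [← pow_mul, show 2 * 3 = 5 + 1 from rfl, pow_add, hg5', one_mul, pow_one] at this
    exact hyz (h.five_fix hzg hgo hy.1 this)

theorem card_stab [Finite G] (hv : Outer z Q v) (h : HJ z Q) :
    Nat.card ↥(hv.stabGroup h) = 8 ∧
      ∀ p ∈ hv.stabGroup h, ∃ y ∈ Q, ∃ ζ ∈ Subgroup.zpowers z, p = disp v y * ζ := by
  obtain ⟨F, hF, hFv⟩ := hv.exists_inj h
  have h1 := Nat.card_le_card_of_injective F hF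
  rw [Nat.card_prod, h.zpowers_card] at h1
  have h2 := hv.card_mul_index h
  have h3 := hv.stab_le_eight h
  set a := Nat.card ↥(hv.stabGroup h)
  set b := Nat.card (↥Q ⧸ (hv.stabGroup h).subgroupOf Q)
  have h8 : a = 8 := by
    by_contra hne
    have ha7 : a ≤ 7 := by omega
    have hb : b * 2 ≤ 7 := by omega
    have := Nat.mul_le_mul ha7 (show b ≤ 3 by omega)
    omega
  refine ⟨h8, fun p hp => ?_⟩
  have hb4 : b = 4 := by rw [h8] at h2; omega
  have hbij : Function.Bijective F := hF.bijective_of_nat_card_le (by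
    rw [Nat.card_prod, h.zpowers_card]; omega)
  obtain ⟨⟨c, ζ⟩, hc⟩ := hbij.2 ⟨p, hp⟩
  exact ⟨_, (c.out).2, ζ, ζ.2, by rw [← hFv (c, ζ), hc]⟩

theorem stab_comm [Finite G] (hv : Outer z Q v) (h : HJ z Q) :
    ∀ a ∈ hv.stabGroup h, ∀ b ∈ hv.stabGroup h, Commute a b := by
  intro a ha b hb
  obtain ⟨x, hx, ζ, hζ, rfl⟩ := (hv.card_stab h).2 b hb
  refine Commute.mul_right ?_ (conj_z_mem h ha.1 hζ).symm
  -- both `x` and `v x v` induce the same sign on `a`
  have hva : v * a * v = a * disp v a := by unfold disp; group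
  unfold disp
  rcases h.comm_cases hx ha.1 with e | e
  · have hc : Commute x a := mul_inv_eq_iff_eq_mul.mp e
    refine hc.symm.inv_right.mul_right ?_
    have hc' : Commute (v * x * v) (v * a * v) := by
      show _ * _ = _ * _
      rw [← hv.conj_mul, ← hv.conj_mul, hc.eq]
    rw [hva] at hc'
    have hd : Commute (v * x * v) (disp v a) := (conj_z_mem h (hv.conj_mem h hx) ha.2).symm
    have := hc'.mul_right hd.inv_right
    rw [mul_inv_cancel_right] at this
    exact this.symm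
  · have hvx : v * x * v * a * (v * x * v)⁻¹ = z * a := by
      have hda : Commute (v * x * v) (disp v a) := (conj_z_mem h (hv.conj_mem h hx) ha.2).symm
      have e1 : v * x * v * (v * a * v) * (v * x * v)⁻¹ = z * (v * a * v) := by
        rw [mul_inv_rev, mul_inv_rev, hv.inv_eq]
        calc v * x * v * (v * a * v) * (v * (x⁻¹ * v))
            = v * x * (v * v) * a * (v * v) * x⁻¹ * v := by group
          _ = v * (x * a * x⁻¹) * v := by rw [hv.sq]; group
          _ = _ := by rw [e, hv.conj_mul, hv.v_z]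
      rw [hva, show v * x * v * (a * disp v a) * (v * x * v)⁻¹ =
        v * x * v * a * (disp v a * (v * x * v)⁻¹) by group, ← hda.inv_left.eq, ← mul_assoc,
        ← mul_assoc z] at e1
      exact mul_right_cancel e1
    show a * (x⁻¹ * (v * x * v)) = x⁻¹ * (v * x * v) * a
    have e2 : x⁻¹ * (z * a) = a * x⁻¹ := by
      rw [← e]; group
    calc a * (x⁻¹ * (v * x * v)) = x⁻¹ * (z * a) * (v * x * v) := by rw [e2]; group
      _ = x⁻¹ * (v * x * v * a * (v * x * v)⁻¹) * (v * x * v) := by rw [hvx]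
      _ = x⁻¹ * (v * x * v) * a := by group

theorem stab_inverted [Finite G] (hv : Outer z Q v) (h : HJ z Q) {p : G}
    (hp : p ∈ hv.stabGroup h) : v * p * v = p⁻¹ := by
  obtain ⟨x, hx, ζ, hζ, rfl⟩ := (hv.card_stab h).2 p hp
  rw [hv.conj_mul, hv.inverts_disp, mul_inv_rev,
    ← (conj_z_mem h (inv_mem (hv.disp_mem h hx)) (inv_mem hζ)).eq.symm]
  congr 1
  rcases h.cases_z hζ with e | e <;> rw [e]
  · rw [mul_one, hv.sq, inv_one]
  · rw [hv.v_z, h.z_inv]

theorem stab_of_inverted [Finite G] (hv : Outer z Q v) (h : HJ z Q) {p : G} (hp : p ∈ Q)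
    (hinv : v * p * v = p⁻¹) : p ∈ hv.stabGroup h := by
  refine ⟨hp, ?_⟩
  rw [disp, hinv, ← mul_inv_rev]
  exact inv_mem (h.setup.sq_mem hp)

/-- The centralizer of `v` in `Q`. -/
theorem mem_cent_iff [Finite G] (hv : Outer z Q v) (h : HJ z Q) {y : G} :
    (y ∈ Q ∧ Commute v y) ↔ (y ∈ hv.stabGroup h ∧ y * y = 1) := by
  constructor
  · rintro ⟨hy, hc⟩
    have e : v * y * v = y := by rw [hc.eq, mul_assoc, hv.sq, mul_one]
    have hm : y ∈ hv.stabGroup h := ⟨hy, by rw [disp, e, inv_mul_cancel]; exact one_mem _⟩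
    refine ⟨hm, ?_⟩
    have := hv.stab_inverted h hm
    rw [e] at this
    nth_rewrite 2 [this]; exact mul_inv_cancel y
  · rintro ⟨hm, hsq⟩
    refine ⟨hm.1, ?_⟩
    have := hv.stab_inverted h hm
    rw [inv_eq_of_mul_eq_one_right hsq] at this
    show v * y = y * v
    calc v * y = v * y * (v * v) := by rw [hv.sq, mul_one]
      _ = (v * y * v) * v := by group
      _ = y * v := by rw [this]

theorem card_cent [Finite G] (hv : Outer z Q v) (h : HJ z Q) :
    Nat.card ↥(Q ⊓ Subgroup.centralizer ({v} : Set G)) = 4 := by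
  obtain ⟨p0, hp0, hp0z⟩ : ∃ p ∈ hv.stabGroup h, p * p = z := by
    by_contra hno
    push Not at hno
    refine h.no_elementary_eight (hv.stab_le h) (fun x hx => (h.sq_cases hx.1).resolve_right (hno x hx))
      (hv.z_mem_stab h) (hv.card_stab h).1
  have key : 2 * Nat.card {p : hv.stabGroup h // (p : G) * p = 1} = 8 := by
    rw [← (hv.card_stab h).1]
    refine two_to_one_card _ (Equiv.mulRight (⟨p0, hp0⟩ : hv.stabGroup h)) (fun a => ?_)
    show (a : G) * p0 * ((a : G) * p0) = 1 ↔ ¬ (a : G) * a = 1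
    rw [(hv.stab_comm h p0 hp0 a a.2).mul_mul_mul_comm, hp0z]
    rcases h.sq_cases a.2.1 with e | e <;> rw [e]
    · simp [h.z_ne]
    · simp [h.z_sq, h.z_ne]
  have : Nat.card {p : hv.stabGroup h // (p : G) * p = 1} =
      Nat.card ↥(Q ⊓ Subgroup.centralizer ({v} : Set G)) :=
    Nat.card_congr
      { toFun := fun q => ⟨(q : G), Subgroup.mem_inf.mpr ⟨((hv.mem_cent_iff h).mpr ⟨q.1.2, q.2⟩).1,
          Subgroup.mem_centralizer_singleton_iff.mpr ((hv.mem_cent_iff h).mpr ⟨q.1.2, q.2⟩).2.eq.symm⟩⟩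
        invFun := fun q => ⟨⟨q, ((hv.mem_cent_iff h).mp ⟨(Subgroup.mem_inf.mp q.2).1,
          (Subgroup.mem_centralizer_singleton_iff.mp (Subgroup.mem_inf.mp q.2).2).symm⟩).1⟩,
          ((hv.mem_cent_iff h).mp ⟨(Subgroup.mem_inf.mp q.2).1,
          (Subgroup.mem_centralizer_singleton_iff.mp (Subgroup.mem_inf.mp q.2).2).symm⟩).2⟩
        left_inv := fun _ => rfl
        right_inv := fun _ => rfl }
  omega

/-- The involutions of `v Q` are the `Q`-conjugates of `v`. -/
theorem coset_conj [Finite G] (hv : Outer z Q v) (h : HJ z Q) {q : G} (hq : q ∈ Q)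
    (hsq : v * q * (v * q) = 1) : ∃ y ∈ Q, y * v * y⁻¹ = v * q := by
  -- `q` is inverted
  have hinv : v * q * v = q⁻¹ := by
    calc v * q * v = v * q * (v * q) * q⁻¹ := by group
      _ = q⁻¹ := by rw [hsq, one_mul]
  have hq' := hv.stab_of_inverted h hq hinv
  let f : Q ⧸ (Subgroup.centralizer ({v} : Set G)).subgroupOf Q → hv.stabGroup h := fun c =>
    ⟨v * (((c.out : Q) : G) * v * ((c.out : Q) : G)⁻¹), hv.stab_of_inverted h (by
      have := mul_mem (hv.conj_mem h (c.out).2) (inv_mem (c.out).2)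
      rwa [show v * ((c.out : Q) : G) * v * ((c.out : Q) : G)⁻¹ =
        v * (((c.out : Q) : G) * v * ((c.out : Q) : G)⁻¹) by group] at this) (by
      rw [mul_inv_rev, mul_inv_rev, mul_inv_rev, inv_inv, hv.inv_eq]
      calc v * (v * (((c.out : Q) : G) * v * ((c.out : Q) : G)⁻¹)) * v
          = (v * v) * (((c.out : Q) : G) * v * ((c.out : Q) : G)⁻¹) * v := by group
        _ = _ := by rw [hv.sq]; group)⟩
  have hf : Function.Injective f := by
    intro a b e
    have e' : v * (((a.out : Q) : G) * v * ((a.out : Q) : G)⁻¹) =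
        v * (((b.out : Q) : G) * v * ((b.out : Q) : G)⁻¹) := congrArg Subtype.val e
    rw [← Quotient.out_eq a, ← Quotient.out_eq b]
    refine QuotientGroup.eq.mpr ?_
    rw [Subgroup.mem_subgroupOf, Subgroup.mem_centralizer_singleton_iff]
    push_cast
    set p := ((a.out : Q) : G)
    set r := ((b.out : Q) : G)
    calc p⁻¹ * r * v = p⁻¹ * (r * v * r⁻¹) * r := by group
      _ = p⁻¹ * (p * v * p⁻¹) * r := by rw [mul_left_cancel e']
      _ = v * (p⁻¹ * r) := by group
  have hcard : Nat.card (Q ⧸ (Subgroup.centralizer ({v} : Set G)).subgroupOf Q) = 8 := by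
    have h1 := ((Subgroup.centralizer ({v} : Set G)).subgroupOf Q).card_mul_index
    have h2 : Nat.card ↥((Subgroup.centralizer ({v} : Set G)).subgroupOf Q) = 4 := by
      rw [← Subgroup.inf_subgroupOf_left, Nat.card_congr (Subgroup.subgroupOfEquivOfLe inf_le_left).toEquiv]
      exact hv.card_cent h
    rw [h2, h.card] at h1
    rw [← Subgroup.index_eq_card]; omega
  have hbij : Function.Bijective f := hf.bijective_of_nat_card_le (by rw [hcard, (hv.card_stab h).1])
  obtain ⟨c, hc⟩ := hbij.2 ⟨q, hq'⟩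
  refine ⟨_, (c.out).2, ?_⟩
  have e := congrArg (fun p : hv.stabGroup h => v * (p : G)) hc
  simp only [f, ← mul_assoc, hv.sq, one_mul] at e
  exact e

theorem conj_of_outer [Finite G] (hv : Outer z Q v) (h : HJ z Q) {v' : G} (hv' : Outer z Q v') :
    ∃ c, Commute z c ∧ c * v * c⁻¹ = v' := by
  obtain ⟨π, hπs, hπ⟩ := h.quot
  have hm : ∀ {u : G}, Outer z Q u → u ∈ Subgroup.centralizer ({z} : Set G) := fun hu =>
    Subgroup.mem_centralizer_singleton_iff.mpr hu.comm.eq.symm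
  have hi : ∀ {u : G} (hu : Outer z Q u), π ⟨u, hm hu⟩ * π ⟨u, hm hu⟩ = 1 ∧ π ⟨u, hm hu⟩ ≠ 1 := fun {u} hu =>
    ⟨by rw [← map_mul, show (⟨u, hm hu⟩ : Subgroup.centralizer ({z} : Set G)) * ⟨u, hm hu⟩ = 1 from Subtype.ext hu.sq, map_one],
      fun e => hu.notMem ((hπ _).mp e)⟩
  obtain ⟨a, ha⟩ := A5.exists_conj _ (hi hv).1 (hi hv).2
  obtain ⟨b, hb⟩ := A5.exists_conj _ (hi hv').1 (hi hv').2
  obtain ⟨⟨c, hc⟩, hcc⟩ := hπs (b * a⁻¹)
  have hzc : Commute z c := (Subgroup.mem_centralizer_singleton_iff.mp hc).symm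
  have hw := hv.conj_outer h hzc
  have hq : (c * v * c⁻¹) * v' ∈ Q := by
    have := (hπ (⟨c * v * c⁻¹, hm hw⟩ * ⟨v', hm hv'⟩)).mp (by
      rw [map_mul, show (⟨c * v * c⁻¹, hm hw⟩ : Subgroup.centralizer ({z} : Set G)) =
        ⟨c, hc⟩ * ⟨v, hm hv⟩ * ⟨c, hc⟩⁻¹ from Subtype.ext rfl, map_mul, map_mul, map_inv, hcc,
        ← ha, ← hb]
      rw [show b * a⁻¹ * (a * A5.a0 * a⁻¹) * (b * a⁻¹)⁻¹ * (b * A5.a0 * b⁻¹)
        = b * (A5.a0 * A5.a0) * b⁻¹ by group, A5.a0_sq, mul_one, mul_inv_cancel])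
    exact this
  obtain ⟨y, hy, hyc⟩ := hw.coset_conj h hq (by
    rw [← mul_assoc (c * v * c⁻¹) (c * v * c⁻¹) v', hw.sq, one_mul, hv'.sq])
  refine ⟨y * c, (h.z_comm hy).mul_right hzc, ?_⟩
  calc y * c * v * (y * c)⁻¹ = y * (c * v * c⁻¹) * y⁻¹ := by group
    _ = (c * v * c⁻¹) * ((c * v * c⁻¹) * v') := hyc
    _ = v' := by rw [← mul_assoc, hw.sq, one_mul]

theorem image_cent [Finite G] (hv : Outer z Q v) (h : HJ z Q) :
    Nat.card ↥(Subgroup.centralizer ({v} : Set G) ⊓ Subgroup.centralizer ({z} : Set G)) = 16 := by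
  have hquot := h.quot
  set H := Subgroup.centralizer ({z} : Set G) with hH
  obtain ⟨π, hπs, hπ⟩ := hquot
  have hvH : v ∈ H := Subgroup.mem_centralizer_singleton_iff.mpr hv.comm.eq.symm
  set a := π ⟨v, hvH⟩
  have ha : a * a = 1 := by rw [← map_mul, show (⟨v, hvH⟩ : H) * ⟨v, hvH⟩ = 1 from Subtype.ext hv.sq, map_one]
  have ha1 : a ≠ 1 := fun e => hv.notMem ((hπ ⟨v, hvH⟩).mp e)
  set A := (Subgroup.centralizer ({v} : Set G)).subgroupOf H with hA
  set φ := π.comp A.subtype with hφ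
  have hr : φ.range = Subgroup.centralizer ({a} : Set (alternatingGroup (Fin 5))) := by
    ext b
    constructor
    · rintro ⟨⟨w, hw⟩, rfl⟩
      rw [hA, Subgroup.mem_subgroupOf, Subgroup.mem_centralizer_singleton_iff] at hw
      rw [Subgroup.mem_centralizer_singleton_iff]
      show π w * a = a * π w
      rw [← map_mul, ← map_mul]
      congr 1; exact Subtype.ext hw
    · intro hb
      obtain ⟨⟨c, hc⟩, rfl⟩ := hπs b
      have hzc : Commute z c := (Subgroup.mem_centralizer_singleton_iff.mp hc).symm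
      have hw := hv.conj_outer h hzc
      have hq : v * (c * v * c⁻¹) ∈ Q := by
        have hm : c * v * c⁻¹ ∈ H := Subgroup.mem_centralizer_singleton_iff.mpr hw.comm.eq.symm
        refine (hπ (⟨v, hvH⟩ * ⟨_, hm⟩)).mp ?_
        rw [map_mul, show (⟨c * v * c⁻¹, hm⟩ : H) = ⟨c, hc⟩ * ⟨v, hvH⟩ * ⟨c, hc⟩⁻¹ from Subtype.ext rfl,
          map_mul, map_mul, map_inv, Subgroup.mem_centralizer_singleton_iff.mp hb, mul_inv_cancel_right, ha]
      obtain ⟨y, hy, hyv⟩ := hv.coset_conj h hq (by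
        rw [← mul_assoc v v, hv.sq, one_mul, hw.sq])
      rw [← mul_assoc v v, hv.sq, one_mul] at hyv
      have hyH : y ∈ H := h.le_cent hy
      refine ⟨⟨⟨y, hyH⟩⁻¹ * ⟨c, hc⟩, ?_⟩, ?_⟩
      · rw [hA, Subgroup.mem_subgroupOf, Subgroup.mem_centralizer_singleton_iff]
        show y⁻¹ * c * v = v * (y⁻¹ * c)
        calc y⁻¹ * c * v = y⁻¹ * (c * v * c⁻¹) * c := by group
          _ = y⁻¹ * (y * v * y⁻¹) * c := by rw [hyv]
          _ = v * (y⁻¹ * c) := by group
      · show π (⟨y, hyH⟩⁻¹ * ⟨c, hc⟩) = π ⟨c, hc⟩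
        rw [map_mul, map_inv, (hπ ⟨y, hyH⟩).mpr hy, inv_one, one_mul]
  have hk : φ.ker.map (H.subtype.comp A.subtype) = Q ⊓ Subgroup.centralizer ({v} : Set G) := by
    ext w
    constructor
    · rintro ⟨⟨x, hx⟩, hxk, rfl⟩
      exact Subgroup.mem_inf.mpr ⟨(hπ x).mp hxk, Subgroup.mem_subgroupOf.mp hx⟩
    · intro hw
      obtain ⟨hwQ, hwv⟩ := Subgroup.mem_inf.mp hw
      exact ⟨⟨⟨w, h.le_cent hwQ⟩, Subgroup.mem_subgroupOf.mpr hwv⟩, (hπ _).mpr hwQ, rfl⟩
  have h1 := φ.ker.card_mul_index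
  rw [Subgroup.index_ker, hr, A5.cent_card ha ha1] at h1
  have h2 : Nat.card φ.ker = 4 := by
    rw [← hv.card_cent h, ← hk, Subgroup.card_map_of_injective (f := H.subtype.comp A.subtype) (fun x y e => Subtype.ext (Subtype.ext e))]
  rw [h2] at h1
  rw [show Nat.card ↥(Subgroup.centralizer ({v} : Set G) ⊓ H) = Nat.card A by
    rw [hA, ← Subgroup.inf_subgroupOf_right]
    exact (Nat.card_congr (Subgroup.subgroupOfEquivOfLe inf_le_right).toEquiv).symm]
  omega

theorem card_outers [Finite G] (hv : Outer z Q v) (h : HJ z Q) : Nat.card (outers z Q) = 120 := by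
  set H := Subgroup.centralizer ({z} : Set G) with hH
  have hvH : v ∈ H := Subgroup.mem_centralizer_singleton_iff.mpr hv.comm.eq.symm
  have h1 := S1875.card_class (⟨v, hvH⟩ : H)
  have h2 : Nat.card {x : H // IsConj (⟨v, hvH⟩ : H) x} = Nat.card (outers z Q) := by
    refine Nat.card_congr
      { toFun := fun x => ⟨(x.1 : G), ?_⟩
        invFun := fun x => ⟨⟨x.1, Subgroup.mem_centralizer_singleton_iff.mpr x.2.comm.eq.symm⟩, ?_⟩
        left_inv := fun _ => rfl
        right_inv := fun _ => rfl }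
    · obtain ⟨c, hc⟩ := isConj_iff.mp x.2
      rw [← hc]
      exact hv.conj_outer h (Subgroup.mem_centralizer_singleton_iff.mp c.2).symm
    · obtain ⟨c, hc, e⟩ := hv.conj_of_outer h x.2
      exact isConj_iff.mpr ⟨⟨c, Subgroup.mem_centralizer_singleton_iff.mpr hc.eq.symm⟩, Subtype.ext e⟩
  have h3 : Nat.card ↥(Subgroup.centralizer ({(⟨v, hvH⟩ : H)} : Set H)) = 16 := by
    rw [← hv.image_cent h]
    refine Nat.card_congr
      { toFun := fun x => ⟨((x : H) : G), Subgroup.mem_inf.mpr ⟨?_, (x : H).2⟩⟩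
        invFun := fun x => ⟨⟨x, (Subgroup.mem_inf.mp x.2).2⟩, ?_⟩
        left_inv := fun _ => rfl
        right_inv := fun _ => rfl }
    · exact Subgroup.mem_centralizer_singleton_iff.mpr
        (congrArg Subtype.val (Subgroup.mem_centralizer_singleton_iff.mp x.2))
    · exact Subgroup.mem_centralizer_singleton_iff.mpr
        (Subtype.ext (Subgroup.mem_centralizer_singleton_iff.mp (Subgroup.mem_inf.mp x.2).1))
  rw [h2, h3, h.card_H] at h1
  omega

end Outer

end Cfsg.Agent.J2Order38
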