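import Cfsg.Agent.J2Order38.Order
import Cfsg.Agent.J2Order38.FourA5
import Cfsg.Agent.Lib.Fitting

/-!
The centralizer of the involution `t` is `V × M` with `M` of type alternating of degree five.
-/

set_option autoImplicit false

namespace Cfsg.Agent.J2Order38

open Subgroup

variable {G : Type*} [Group G] [Finite G]

/-- A group of Hall-Janko type with representatives `z`, `t` of the two classes. -/
structure HJG (z : G) (Q : Subgroup G) (t : G) : Prop where
  pair : Pair z Q t
  all : ∀ x : G, orderOf x = 2 → IsConj z x ∨ IsConj t x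
  card : Nat.card G = 604800

theorem HJ.exists_hjg {z : G} {Q : Subgroup G} (h : HJ z Q)
    (hcl : ∃ x y : G, orderOf x = 2 ∧ orderOf y = 2 ∧ ¬ IsConj x y) : ∃ t, HJG z Q t := by
  obtain ⟨t, P, hall⟩ := h.exists_pair hcl
  exact ⟨t, P, hall, h.card_eq hcl⟩

/-- The structure `V × M` of `C(t)`. -/
structure TSplit (z t : G) (V M : Subgroup G) : Prop where
  card_cent : Nat.card ↥(Subgroup.centralizer ({t} : Set G)) = 240
  sup : V ⊔ M = Subgroup.centralizer ({t} : Set G)
  inf : V ⊓ M = ⊥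
  card_V : Nat.card V = 4
  sq_V : ∀ v ∈ V, v * v = 1
  mem_V : t ∈ V
  central : ∀ v ∈ V, ∀ y, Commute t y → Commute v y
  center : ∀ x, Commute t x → (∀ y, Commute t y → Commute x y) → x ∈ V
  alt : Nonempty (M ≃* alternatingGroup (Fin 5))
  class_mem : ∀ x, IsConj z x → Commute t x → x ∈ M
  inv_class : ∀ x ∈ M, orderOf x = 2 → IsConj z x
  V_class : ∀ v ∈ V, v ≠ 1 → IsConj t v
  core : (Cfsg.pCore 2 ↥(Subgroup.centralizer ({t} : Set G))).map
    (Subgroup.centralizer ({t} : Set G)).subtype = V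
  four : ∃ W : Subgroup M, FourHyp W
  M_normal : ∀ y, Commute t y → ∀ x ∈ M, y * x * y⁻¹ ∈ M

theorem prod_nonempty_equiv {K : Type*} [Group K] {A B : Subgroup K}
    (hc : ∀ a ∈ A, ∀ b ∈ B, Commute a b) (hd : A ⊓ B = ⊥) :
    Nonempty (↥A × ↥B ≃* ↥(A ⊔ B)) := by
  let f : ↥A × ↥B →* K := MonoidHom.noncommCoprod A.subtype B.subtype fun a b => hc a a.2 b b.2
  have hinj : Function.Injective f := by
    refine (MonoidHom.noncommCoprod_injective _ _ _).mpr
      ⟨A.subtype_injective, B.subtype_injective, ?_⟩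
    rw [Subgroup.range_subtype, Subgroup.range_subtype]
    exact disjoint_iff.mpr hd
  refine ⟨(MonoidHom.ofInjective hinj).trans (MulEquiv.subgroupCongr ?_)⟩
  show f.range = A ⊔ B
  refine le_antisymm ?_ (sup_le (fun a ha => ⟨(⟨a, ha⟩, 1), ?_⟩) fun b hb => ⟨(1, ⟨b, hb⟩), ?_⟩)
  · rintro _ ⟨⟨a, b⟩, rfl⟩
    exact mul_mem (Subgroup.mem_sup_left a.2) (Subgroup.mem_sup_right b.2)
  · show a * 1 = a; exact mul_one a
  · show 1 * b = b; exact one_mul b

theorem TSplit.nonempty_prod {z t : G} {V M : Subgroup G} (T : TSplit z t V M) :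
    Nonempty (↥(Subgroup.centralizer ({t} : Set G)) ≃*
      (Multiplicative (ZMod 2) × Multiplicative (ZMod 2)) × alternatingGroup (Fin 5)) := by
  classical
  obtain ⟨φ⟩ := T.alt
  have hMle : M ≤ Subgroup.centralizer ({t} : Set G) := T.sup ▸ le_sup_right
  obtain ⟨e⟩ := prod_nonempty_equiv (fun a ha b hb => T.central a ha b
    (Subgroup.mem_centralizer_singleton_iff.mp (hMle hb)).symm) T.inf
  haveI : IsKleinFour ↥V := by
    refine ⟨T.card_V, ?_⟩
    refine (Nat.dvd_prime Nat.prime_two).mp (Monoid.exponent_dvd_of_forall_pow_eq_one fun v =>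
      Subtype.ext (by rw [SubgroupClass.coe_pow, pow_two]; exact T.sq_V v v.2)) |>.resolve_left ?_
    intro h1
    haveI := Monoid.exp_eq_one_iff.mp h1
    have := T.card_V
    rw [Nat.card_unique] at this
    omega
  haveI : IsKleinFour (Multiplicative (ZMod 2) × Multiplicative (ZMod 2)) := by
    refine ⟨by simp, ?_⟩
    rw [Monoid.exponent_prod, Monoid.exponent_multiplicative, ZMod.exponent]
    rfl
  obtain ⟨ψ⟩ := IsKleinFour.nonempty_mulEquiv (G₁ := ↥V) (G₂ := Multiplicative (ZMod 2) × Multiplicative (ZMod 2))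
  exact ⟨((MulEquiv.subgroupCongr T.sup).symm.trans e.symm).trans (ψ.prodCongr φ)⟩

namespace HJG

variable {z t : G} {Q : Subgroup G}

theorem card_cent_t (D : HJG z Q t) : Nat.card ↥(Subgroup.centralizer ({t} : Set G)) = 240 := by
  have P := D.pair
  have hD := P.centralData
  have hF := S0213.result z t P.hj.z_order P.outer.order P.ne D.all
  rw [P.count_z, P.hj.card_H, D.card] at hF
  rcases hD.card_ne with e | e
  · rw [hD.count 3 e, e] at hF; omega
  · exact e

theorem exists_split (D : HJG z Q t) : ∃ V M : Subgroup G, TSplit z t V M := by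
  classical
  haveI : Fact (Nat.Prime 2) := ⟨Nat.prime_two⟩
  set C := Subgroup.centralizer ({t} : Set G) with hC
  obtain ⟨M, A, W, F⟩ : ∃ M A W : Subgroup C, CentralFrame z t M A W := D.pair.centralData.frame
  have h240 : Nat.card C = 240 := D.card_cent_t
  haveI := F.normal
  have h60 : Nat.card M = 60 := by
    have h4 : Nat.card C = 4 * Nat.card M := F.card
    omega
  have hWA : W ≤ A := F.inter ▸ inf_le_left
  have hF4 := F.four
  obtain ⟨φ⟩ := hF4.nonempty_equiv h60
  let tC : C := ⟨t, Subgroup.mem_centralizer_singleton_iff.mpr rfl⟩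
  have htc : ∀ x : C, Commute tC x := fun x =>
    Subtype.ext (Subgroup.mem_centralizer_singleton_iff.mp x.2).symm
  -- `M` has trivial centre
  have hcen : ∀ x ∈ M, (∀ y ∈ M, Commute x y) → x = 1 := by
    intro x hx hc
    by_contra hx1
    obtain ⟨w, hw, hw1⟩ := hF4.exists_ne_one
    have hxW : (⟨x, hx⟩ : M) ∈ W.subgroupOf M := by
      rw [← hF4.cent w hw hw1, Subgroup.mem_centralizer_singleton_iff]
      exact Subtype.ext (hc w w.2).eq
    have hc1 := hF4.cent _ hxW (fun e => hx1 (congrArg Subtype.val e))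
    have htop : Subgroup.centralizer ({(⟨x, hx⟩ : M)} : Set M) = ⊤ :=
      Subgroup.eq_top_iff' _ |>.mpr fun y =>
        Subgroup.mem_centralizer_singleton_iff.mpr (Subtype.ext (hc y y.2).eq.symm)
    rw [htop] at hc1
    have h4 := hF4.card
    rw [← hc1, Subgroup.card_top, h60] at h4
    omega
  set K : Subgroup C := Subgroup.centralizer (M : Set C) with hK
  haveI : K.Normal := by rw [hK]; infer_instance
  have hKM : K ⊓ M = ⊥ := (Subgroup.eq_bot_iff_forall _).mpr fun x hx =>
    hcen x (Subgroup.mem_inf.mp hx).2 fun y hy =>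
      (Subgroup.mem_centralizer_iff.mp (Subgroup.mem_inf.mp hx).1 y hy).symm
  -- `A = W (K ∩ A)`
  have hdec : ∀ a ∈ A, ∃ v ∈ W, v⁻¹ * a ∈ K := by
    intro a ha
    obtain ⟨v, hv, hva⟩ := hF4.inner_of_fix h60 (MulAut.conjNormal a) fun w hw => Subtype.ext (by
      rw [MulAut.conjNormal_apply, (F.abelian a ha (w : C) (hWA hw)).eq, mul_inv_cancel_right])
    refine ⟨v, hv, Subgroup.mem_centralizer_iff.mpr fun x hx => ?_⟩
    have e : a * x * a⁻¹ = (v : C) * x * (v : C)⁻¹ := by
      have := congrArg Subtype.val (hva ⟨x, hx⟩)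
      rwa [MulAut.conjNormal_apply] at this
    calc x * ((v : C)⁻¹ * a) = (v : C)⁻¹ * ((v : C) * x * (v : C)⁻¹) * a := by group
      _ = (v : C)⁻¹ * (a * x * a⁻¹) * a := by rw [e]
      _ = (v : C)⁻¹ * a * x := by group
  -- `A` is Sylow and `C = A M`
  have hAM : A ⊔ M = ⊤ := by
    apply Subgroup.eq_top_of_card_eq
    have h1 : M.relIndex (A ⊔ M) = M.relIndex A := Subgroup.relIndex_sup_right _ _
    rw [← Subgroup.inf_relIndex_left A M, F.inter] at h1
    have h2 := (W.subgroupOf A).card_mul_index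
    have hW4 : Nat.card W = 4 := by
      rw [← Nat.card_congr (Subgroup.subgroupOfEquivOfLe F.le).toEquiv]; exact hF4.card
    rw [Nat.card_congr (Subgroup.subgroupOfEquivOfLe hWA).toEquiv, hW4, F.card_sylow,
      ← Subgroup.relIndex] at h2
    have h3 := (M.subgroupOf (A ⊔ M)).card_mul_index
    rw [Nat.card_congr (Subgroup.subgroupOfEquivOfLe le_sup_right).toEquiv, h60, ← Subgroup.relIndex,
      h1] at h3
    rw [h240, ← h3]
    have : W.relIndex A = 4 := by omega
    rw [this]
  have hKsup : K ⊔ M = ⊤ := by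
    refine top_le_iff.mp (hAM ▸ sup_le (fun a ha => ?_) le_sup_right)
    obtain ⟨v, hv, hk⟩ := hdec a ha
    rw [show a = v * (v⁻¹ * a) by group]
    exact mul_mem (Subgroup.mem_sup_right (F.le hv)) (Subgroup.mem_sup_left hk)
  have hK4 : Nat.card K = 4 := by
    have h1 : M.relIndex (K ⊔ M) = M.relIndex K := Subgroup.relIndex_sup_right _ _
    rw [hKsup, Subgroup.relIndex_top_right, ← Subgroup.inf_relIndex_left, hKM,
      Subgroup.relIndex_bot_left] at h1
    have h2 := M.card_mul_index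
    rw [h60, h240, h1] at h2
    omega
  -- `K` lies in `A`
  have hpA : IsPGroup 2 A := IsPGroup.of_card (n := 4) (by rw [F.card_sylow]; norm_num)
  have hKA : K ≤ A := by
    obtain ⟨S, hS⟩ := hpA.exists_le_sylow
    have hSA : A = S := Subgroup.eq_of_le_of_card_ge hS (by
      obtain ⟨k, hk⟩ := IsPGroup.iff_card.mp S.2
      have hd := Subgroup.card_subgroup_dvd_card (S : Subgroup C)
      rw [hk, h240] at hd
      have : 2 ^ k ∣ 16 :=
        Nat.Coprime.dvd_of_dvd_mul_right (Nat.Coprime.pow_left k (by norm_num : Nat.Coprime 2 15))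
          (by rw [show 16 * 15 = 240 by norm_num]; exact hd)
      rw [hk, F.card_sylow]
      exact Nat.le_of_dvd (by norm_num) this)
    rw [hSA]
    exact IsPGroup.le_sylow_of_normal (IsPGroup.of_card (n := 2) (by rw [hK4]; norm_num)) S
  have hKc : ∀ k ∈ K, ∀ x : C, Commute k x := by
    intro k hk x
    have hle : (⊤ : Subgroup C) ≤ Subgroup.centralizer ({k} : Set C) :=
      hAM ▸ sup_le (fun a ha => Subgroup.mem_centralizer_singleton_iff.mpr
        (F.abelian a ha k (hKA hk)).eq) (fun m hm => Subgroup.mem_centralizer_singleton_iff.mpr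
          (Subgroup.mem_centralizer_iff.mp hk m hm))
    exact (Subgroup.mem_centralizer_singleton_iff.mp (hle (Subgroup.mem_top x))).symm
  have hKsq : ∀ k ∈ K, k * k = 1 := fun k hk => by
    have h1 : k * k ∈ K ⊓ M := Subgroup.mem_inf.mpr ⟨mul_mem hk hk, F.le (F.sq k (hKA hk))⟩
    rwa [hKM, Subgroup.mem_bot] at h1
  have htK : tC ∈ K := Subgroup.mem_centralizer_iff.mpr fun y _ => (htc y).eq.symm
  have hMV : ∀ x ∈ M, orderOf x = 2 → IsConj z (x : G) := by
    intro x hx hx2
    have hzM : (⟨z, Subgroup.mem_centralizer_singleton_iff.mpr D.pair.outer.comm.eq⟩ : C) ∈ M :=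
      F.class_mem _ (IsConj.refl z)
    have hz2 : orderOf (⟨_, hzM⟩ : M) = 2 := by
      rw [Subgroup.orderOf_mk, Subgroup.orderOf_mk]; exact D.pair.hj.z_order
    have hx2' : orderOf (⟨x, hx⟩ : M) = 2 := by rw [Subgroup.orderOf_mk]; exact hx2
    obtain ⟨w, hw, hw1⟩ := hF4.exists_ne_one
    obtain ⟨g, hg⟩ := isConj_iff.mp
      ((hF4.one_class _ hz2 w hw hw1).symm.trans (hF4.one_class _ hx2' w hw hw1))
    exact isConj_iff.mpr ⟨((g : C) : G), congrArg (fun w : M => ((w : C) : G)) hg⟩
  refine ⟨K.map C.subtype, M.map C.subtype, ?_⟩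
  constructor
  · exact h240
  · rw [← Subgroup.map_sup, hKsup, ← MonoidHom.range_eq_map, Subgroup.range_subtype]
  · rw [← Subgroup.map_inf _ _ _ C.subtype_injective, hKM, Subgroup.map_bot]
  · rw [Subgroup.card_map_of_injective C.subtype_injective, hK4]
  · rintro _ ⟨k, hk, rfl⟩
    exact congrArg Subtype.val (hKsq k hk)
  · exact ⟨tC, htK, rfl⟩
  · rintro _ ⟨k, hk, rfl⟩ y hy
    exact congrArg Subtype.val (hKc k hk ⟨y, Subgroup.mem_centralizer_singleton_iff.mpr hy.eq.symm⟩).eq
  · intro x hx hc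
    refine ⟨⟨x, Subgroup.mem_centralizer_singleton_iff.mpr hx.eq.symm⟩, ?_, rfl⟩
    exact Subgroup.mem_centralizer_iff.mpr fun y _ =>
      Subtype.ext (hc y (Subgroup.mem_centralizer_singleton_iff.mp y.2).symm).eq.symm
  · exact ⟨(M.equivMapOfInjective _ C.subtype_injective).symm.trans φ⟩
  · intro x hx htx
    exact ⟨⟨x, Subgroup.mem_centralizer_singleton_iff.mpr htx.eq.symm⟩, F.class_mem _ hx, rfl⟩
  · rintro _ ⟨x, hx, rfl⟩ hx2
    exact hMV x hx (by rwa [Subgroup.coe_subtype, Subgroup.orderOf_coe] at hx2)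
  · rintro _ ⟨k, hk, rfl⟩ hk1
    have h2 : orderOf (k : G) = 2 := orderOf_eq_prime
      (by rw [pow_two]; exact congrArg Subtype.val (hKsq k hk)) hk1
    refine (D.all _ h2).resolve_left fun hz => hk1 ?_
    have : k ∈ K ⊓ M := Subgroup.mem_inf.mpr ⟨hk, F.class_mem _ hz⟩
    rw [hKM, Subgroup.mem_bot] at this
    rw [this]; rfl
  · congr 1
    refine le_antisymm ?_ (Thompson.le_pCore (by infer_instance)
      (IsPGroup.of_card (n := 2) (by rw [hK4]; norm_num)))
    intro x hx
    refine Subgroup.mem_centralizer_iff.mpr fun y hy => ?_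
    haveI : (Cfsg.pCore 2 ↥C).Normal := inferInstance
    have hb : Cfsg.pCore 2 ↥C ⊓ M = ⊥ := by
      rcases hF4.normal_eq_bot_or_top h60 ((Cfsg.pCore 2 ↥C).subgroupOf M) with e | e
      · rw [Subgroup.subgroupOf_eq_bot] at e; exact disjoint_iff.mp e
      · exfalso
        have hle : M ≤ Cfsg.pCore 2 ↥C := Subgroup.subgroupOf_eq_top.mp e
        obtain ⟨k, hk⟩ := IsPGroup.iff_card.mp ((Fitting.pCore_isPGroup 2).to_le hle)
        rw [h60] at hk
        have : 3 ∣ 2 ^ k := hk ▸ by norm_num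
        exact absurd (Nat.prime_three.dvd_of_dvd_pow this) (by norm_num)
    have hcomm : Commute x y := by
      have := Subgroup.commute_of_normal_of_disjoint (Cfsg.pCore 2 ↥C) M inferInstance inferInstance
        (disjoint_iff.mpr hb) x y hx hy
      exact this
    exact hcomm.eq.symm
  · exact ⟨(W.subgroupOf M).map (M.equivMapOfInjective _ C.subtype_injective).toMonoidHom, by
      exact FourHyp.map (M.equivMapOfInjective _ C.subtype_injective) hF4⟩
  · rintro y hy _ ⟨x, hx, rfl⟩
    exact ⟨⟨y, Subgroup.mem_centralizer_singleton_iff.mpr hy.eq.symm⟩ * x *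
      ⟨y, Subgroup.mem_centralizer_singleton_iff.mpr hy.eq.symm⟩⁻¹, F.normal.conj_mem x hx _, rfl⟩

end HJG

end Cfsg.Agent.J2Order38
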