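import Cfsg.Agent.J2Order38.Order
import Cfsg.Agent.Lib.LargeExtraspecial.Sections
import Cfsg.Agent.Lib.LargeExtraspecial.Pullback
import Cfsg.Agent.S0824
import Cfsg.Agent.J2Order38.TCentralizer

/-!
The hypothesis of Hall-Janko type in the form used by the statements.
-/

set_option autoImplicit false
open Cfsg

namespace Cfsg.Agent.J2Order38

variable {G : Type*} [Group G] [Finite G]

theorem hj_of_type (z : G) (hz : orderOf z = 2) (Q : Subgroup (Subgroup.centralizer ({z} : Set G))) [Q.Normal]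
    (hF : Cfsg.generalizedFittingSubgroup (Subgroup.centralizer ({z} : Set G)) = Q)
    (hQ : Cfsg.IsExtraspecial 2 Q) (hcard : Nat.card Q = 2 ^ 5)
    (e : (Subgroup.centralizer ({z} : Set G)) ⧸ Q ≃* Cfsg.Omega (ZMod 2) (Cfsg.quadFormMinus 1 (ZMod 2) 1 1))
    (hnwc : ∃ g : G, (∃ hq : g * z * g⁻¹ ∈ Subgroup.centralizer ({z} : Set G),
      (⟨g * z * g⁻¹, hq⟩ : Subgroup.centralizer ({z} : Set G)) ∈ Q) ∧ g * z * g⁻¹ ≠ z) :
    HJ z (Q.map (Subgroup.centralizer ({z} : Set G)).subtype) := by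
  classical
  obtain ⟨φ⟩ := S0824.result (F := ZMod 2) (ZMod.card 2)
  let e2 : ↥(Cfsg.Omega (ZMod 2) (Cfsg.quadFormMinus 1 (ZMod 2) 1 1)) ≃* alternatingGroup (Fin 5) :=
    (φ.subgroupMap _).trans (MulEquiv.subgroupCongr (by
      rw [show (↑φ : ↥(Cfsg.isometryGroup (ZMod 2) (Cfsg.quadFormMinus 1 (ZMod 2) 1 1)) →* Equiv.Perm (Fin 5))
          = φ.toMonoidHom from rfl, Cfsg.Omega, commutator_def, Subgroup.map_commutator,
        Subgroup.map_top_of_surjective _ φ.surjective, ← commutator_def,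
        alternatingGroup.commutator_perm_eq (by simp)]))
  have hle : Q.map (Subgroup.centralizer ({z} : Set G)).subtype ≤ Subgroup.centralizer ({z} : Set G) :=
    Subgroup.map_subtype_le Q
  have hE : Cfsg.IsExtraspecial 2 ↥(Q.map (Subgroup.centralizer ({z} : Set G)).subtype) :=
    LargeExtraspecial.isExtraspecial_equiv
      (Q.equivMapOfInjective _ (Subgroup.centralizer ({z} : Set G)).subtype_injective) hQ
  have hS := LargeExtraspecial.setup_of_centralizer hz hle (by rw [hF]) hE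
  have hmem : ∀ h : Subgroup.centralizer ({z} : Set G),
      (h : G) ∈ Q.map (Subgroup.centralizer ({z} : Set G)).subtype ↔ h ∈ Q := fun h =>
    Subgroup.mem_map_iff_mem (Subgroup.centralizer ({z} : Set G)).subtype_injective
  obtain ⟨g, ⟨hq, hqQ⟩, hne⟩ := hnwc
  refine ⟨hS, ?_, ?_, ?_⟩
  · rw [Subgroup.card_map_of_injective (Subgroup.centralizer ({z} : Set G)).subtype_injective, hcard]
    rfl
  · refine ⟨((e.trans e2).toMonoidHom).comp (QuotientGroup.mk' Q),
      (e.trans e2).surjective.comp (QuotientGroup.mk'_surjective Q), fun h => ?_⟩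
    rw [hmem, MonoidHom.comp_apply, MulEquiv.coe_toMonoidHom, MulEquiv.map_eq_one_iff,
      QuotientGroup.mk'_apply, QuotientGroup.eq_one_iff]
  · exact ⟨g * z * g⁻¹, (hmem ⟨_, hq⟩).mpr hqQ, hne, isConj_iff.mpr ⟨g, rfl⟩⟩

/-- Every involution that is not conjugate to `z` serves as `t`. -/
theorem HJ.exists_hjg_for {z : G} {Q : Subgroup G} (h : HJ z Q) {t : G} (ht : orderOf t = 2)
    (htz : ¬ IsConj z t) : ∃ z' Q', HJG z' Q' t ∧ IsConj z z' := by
  have hcl : ∃ x y : G, orderOf x = 2 ∧ orderOf y = 2 ∧ ¬ IsConj x y := ⟨z, t, h.z_order, ht, htz⟩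
  obtain ⟨g, hg⟩ := h.conj_into ht
  have hzz : IsConj z (g⁻¹ * z * g) := isConj_iff.mpr ⟨g⁻¹, by group⟩
  refine ⟨_, _, ⟨⟨h.conj g⁻¹, ⟨?_, ?_, ?_⟩, ?_⟩, ?_, h.card_eq hcl⟩, by rw [inv_inv]; exact hzz⟩
  · have := hg.map (MulAut.conj g⁻¹).toMonoidHom
    simpa [mul_assoc] using this
  · intro hm
    refine htz ?_
    have hq : g * t * g⁻¹ ∈ Q := by
      obtain ⟨q, hq, he⟩ := Subgroup.mem_map.mp hm
      have e : g * t * g⁻¹ = q := by rw [← he]; simp [mul_assoc]
      rw [e]; exact hq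
    have hc : IsConj (g * t * g⁻¹) t := isConj_iff.mpr ⟨g⁻¹, by group⟩
    have hsq : g * t * g⁻¹ * (g * t * g⁻¹) = 1 := by
      rw [show g * t * g⁻¹ * (g * t * g⁻¹) = g * (t * t) * g⁻¹ by group, ← pow_two, ← ht,
        pow_orderOf_eq_one, mul_one, mul_inv_cancel]
    by_cases hgz : g * t * g⁻¹ = z
    · rwa [hgz] at hc
    · refine (h.isConj_invs ⟨hq, hsq, fun e => ?_, hgz⟩).trans hc
      rw [conj_eq_one_iff] at e; rw [e, orderOf_one] at ht; omega
  · rw [← pow_two, ← ht, pow_orderOf_eq_one]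
  · rw [inv_inv]; exact fun e => htz (hzz.trans e)
  · intro x hx
    obtain ⟨t0, P0, hall⟩ := h.exists_pair hcl
    have ht0 : IsConj t0 t := (hall t ht).resolve_left htz
    rw [inv_inv]
    rcases hall x hx with e | e
    · exact Or.inl (hzz.symm.trans e)
    · exact Or.inr (ht0.symm.trans e)

end Cfsg.Agent.J2Order38
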