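import Cfsg.Agent.J2Order38.TCentralizer

/-!
The normalizer of `V` is a product of groups of type alternating of degrees four and five.
-/

set_option autoImplicit false

namespace Cfsg.Agent.J2Order38

open Subgroup

variable {G : Type*} [Group G] [Finite G]

/-- A group of order twelve with a self-centralizing normal four group. -/
theorem nonempty_alt_four {L : Type*} [Group L] [Finite L] (hcard : Nat.card L = 12) (V : Subgroup L)
    [hV : V.Normal] (hV4 : Nat.card V = 4) (hc : Subgroup.centralizer (V : Set L) ≤ V) :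
    Nonempty (L ≃* alternatingGroup (Fin 4)) := by
  classical
  haveI : Fact (Nat.Prime 3) := ⟨Nat.prime_three⟩
  obtain ⟨r, hr⟩ := exists_prime_orderOf_dvd_card' (G := L) 3 (by rw [hcard]; norm_num)
  set P := Subgroup.zpowers r with hP
  have hP3 : Nat.card P = 3 := by rw [hP, Nat.card_zpowers, hr]
  have hcore : P.normalCore = ⊥ := by
    by_contra hne
    have hle : P.normalCore ≤ P := Subgroup.normalCore_le P
    have heq : P.normalCore = P := by
      refine Subgroup.eq_of_le_of_card_ge hle ?_
      have hd := Subgroup.card_dvd_of_le hle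
      rw [hP3] at hd ⊢
      rcases (Nat.dvd_prime Nat.prime_three).mp hd with e | e
      · exact absurd (Subgroup.card_eq_one.mp e) hne
      · omega
    haveI hPn : P.Normal := heq ▸ Subgroup.normalCore_normal P
    have hdis : Disjoint P V := by
      rw [disjoint_iff]
      exact Subgroup.inf_eq_bot_of_coprime (by rw [hP3, hV4]; norm_num)
    have hrV : r ∈ V := hc (Subgroup.mem_centralizer_iff.mpr fun v hv =>
      (Subgroup.commute_of_normal_of_disjoint P V inferInstance inferInstance hdis r v
        (Subgroup.mem_zpowers r) hv).eq.symm)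
    have := orderOf_dvd_natCard (⟨r, hrV⟩ : V)
    rw [Subgroup.orderOf_mk, hr, hV4] at this
    norm_num at this
  have h4 : Nat.card (L ⧸ P) = 4 := by
    have := P.card_eq_card_quotient_mul_card_subgroup
    rw [hcard, hP3] at this
    omega
  haveI := Fintype.ofFinite (L ⧸ P)
  let e := Fintype.equivFinOfCardEq (by rw [← Nat.card_eq_fintype_card]; exact h4 : Fintype.card (L ⧸ P) = 4)
  let f : L →* Equiv.Perm (Fin 4) :=
    e.permCongrHom.toMonoidHom.comp (MulAction.toPermHom L (L ⧸ P))
  have hinj : Function.Injective f := by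
    refine e.permCongrHom.injective.comp ?_
    rw [← MonoidHom.ker_eq_bot_iff, ← Subgroup.normalCore_eq_ker]
    exact hcore
  have hidx : f.range.index = 2 := by
    have h1 := f.range.card_mul_index
    rw [← Nat.card_congr (MonoidHom.ofInjective hinj).toEquiv, hcard, Nat.card_perm, Nat.card_fin,
      show Nat.factorial 4 = 24 from rfl] at h1
    omega
  exact ⟨(MonoidHom.ofInjective hinj).trans
    (MulEquiv.subgroupCongr (Equiv.Perm.eq_alternatingGroup_of_index_eq_two hidx))⟩

/-- The structure of the normalizer of `V`. -/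
structure NSplit (z t : G) (V M L : Subgroup G) : Prop where
  tsplit : TSplit z t V M
  card_N : Nat.card ↥(Subgroup.normalizer (V : Set G)) = 720
  card_L : Nat.card L = 12
  V_le : V ≤ L
  comm : ∀ l ∈ L, ∀ x ∈ M, Commute l x
  sup : L ⊔ M = Subgroup.normalizer (V : Set G)
  inf : L ⊓ M = ⊥
  alt : Nonempty (L ≃* alternatingGroup (Fin 4))

theorem NSplit.nonempty_prod {z t : G} {V M L : Subgroup G} (N : NSplit z t V M L) :
    Nonempty (↥(Subgroup.normalizer (V : Set G)) ≃* alternatingGroup (Fin 4) × alternatingGroup (Fin 5)) := by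
  obtain ⟨φ⟩ := N.tsplit.alt
  obtain ⟨ψ⟩ := N.alt
  obtain ⟨e⟩ := prod_nonempty_equiv N.comm N.inf
  exact ⟨((MulEquiv.subgroupCongr N.sup).symm.trans e.symm).trans (ψ.prodCongr φ)⟩

namespace TSplit

variable {z t : G} {V M : Subgroup G}

theorem cent_eq (T : TSplit z t V M) {v : G} (hv : v ∈ V) (hv1 : v ≠ 1) :
    Subgroup.centralizer ({v} : Set G) = Subgroup.centralizer ({t} : Set G) := by
  symm
  refine Subgroup.eq_of_le_of_card_ge (fun y hy => ?_) ?_
  · exact Subgroup.mem_centralizer_singleton_iff.mpr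
      (T.central v hv y (Subgroup.mem_centralizer_singleton_iff.mp hy).symm).eq.symm
  · have h1 := S1875.card_class v
    have h2 := S1875.card_class t
    have e : Nat.card {x : G // IsConj v x} = Nat.card {x : G // IsConj t x} :=
      Nat.card_congr (Equiv.subtypeEquivRight fun x =>
        ⟨fun h => (T.V_class v hv hv1).trans h, fun h => (T.V_class v hv hv1).symm.trans h⟩)
    rw [e, ← h2] at h1
    have hpos : 0 < Nat.card {x : G // IsConj t x} := by
      haveI : Nonempty {x : G // IsConj t x} := ⟨⟨t, IsConj.refl t⟩⟩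
      exact Nat.card_pos
    exact (Nat.eq_of_mul_eq_mul_left hpos h1).le

theorem M_le (T : TSplit z t V M) : M ≤ Subgroup.centralizer ({t} : Set G) := T.sup ▸ le_sup_right

theorem V_le (T : TSplit z t V M) : V ≤ Subgroup.centralizer ({t} : Set G) := T.sup ▸ le_sup_left

theorem comm (T : TSplit z t V M) {v x : G} (hv : v ∈ V) (hx : x ∈ M) : Commute v x :=
  T.central v hv x (Subgroup.mem_centralizer_singleton_iff.mp (T.M_le hx)).symm

/-- Sending `t` into `V` normalizes `V`. -/
theorem mem_normalizer (T : TSplit z t V M) {g : G} (hg : g * t * g⁻¹ ∈ V) :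
    g ∈ Subgroup.normalizer (V : Set G) := by
  by_cases h1 : g * t * g⁻¹ = 1
  · rw [conj_eq_one_iff] at h1
    have := T.card_cent
    rw [h1] at this
    have htop : Subgroup.centralizer ({(1 : G)} : Set G) = ⊤ :=
      Subgroup.eq_top_iff' _ |>.mpr fun y => Subgroup.mem_centralizer_singleton_iff.mpr (by simp)
    have hVtop := T.sup
    rw [h1, htop] at hVtop
    refine Subgroup.mem_normalizer_iff.mpr fun v => ?_
    have hcomm : ∀ w ∈ V, g * w * g⁻¹ = w := fun w hw => by
      rw [← (T.central w hw g (h1 ▸ Commute.one_left g)).eq, mul_inv_cancel_right]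
    refine ⟨fun hv => (hcomm v hv).symm ▸ hv, fun hv => ?_⟩
    have e := hcomm _ hv
    have : g * v * g⁻¹ = v := by
      have := congrArg (fun w => g⁻¹ * w * g) e
      simpa [mul_assoc] using this
    rwa [this] at hv
  have hC := T.cent_eq hg h1
  have hconj : ∀ y, Commute (g * t * g⁻¹) y ↔ Commute t y := fun y => by
    have h2 := SetLike.ext_iff.mp hC y
    simp only [Subgroup.mem_centralizer_singleton_iff] at h2
    exact ⟨fun h => (h2.mp h.eq.symm).symm, fun h => (h2.mpr h.eq.symm).symm⟩
  have hback : ∀ y, Commute t y ↔ Commute t (g * y * g⁻¹) := fun y => by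
    rw [← hconj (g * y * g⁻¹)]
    constructor
    · intro h
      have := h.map (MulAut.conj g).toMonoidHom
      simpa using this
    · intro h
      have := h.map (MulAut.conj g⁻¹).toMonoidHom
      simpa [mul_assoc] using this
  have hiff : ∀ v, v ∈ V ↔ (Commute t v ∧ ∀ y, Commute t y → Commute v y) := fun v =>
    ⟨fun hv => ⟨(Subgroup.mem_centralizer_singleton_iff.mp (T.V_le hv)).symm, T.central v hv⟩,
      fun h => T.center v h.1 h.2⟩
  refine Subgroup.mem_normalizer_iff.mpr fun v => ?_
  rw [hiff, hiff, ← hback]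
  refine and_congr Iff.rfl ⟨fun h y hy => ?_, fun h y hy => ?_⟩
  · have hy' : Commute t (g⁻¹ * y * g) := (hback _).mpr (by simpa [mul_assoc] using hy)
    have := (h _ hy').map (MulAut.conj g).toMonoidHom
    simpa [mul_assoc] using this
  · have := (h _ ((hback y).mp hy)).map (MulAut.conj g⁻¹).toMonoidHom
    simpa [mul_assoc] using this

theorem exists_nsplit (T : TSplit z t V M) (ht : orderOf t = 2) : ∃ L, NSplit z t V M L := by
  classical
  haveI : Fact (Nat.Prime 3) := ⟨Nat.prime_three⟩
  set N := Subgroup.normalizer (V : Set G) with hN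
  have hCN : Subgroup.centralizer ({t} : Set G) ≤ N := by
    intro y hy
    refine T.mem_normalizer ?_
    rw [Subgroup.mem_centralizer_singleton_iff.mp hy, mul_inv_cancel_right]
    exact T.mem_V
  -- `N` is transitive on the involutions of `V`
  let tN : N := ⟨t, hCN (Subgroup.mem_centralizer_singleton_iff.mpr rfl)⟩
  have hN720 : Nat.card N = 720 := by
    have h1 := S1875.card_class tN
    have e : Nat.card {x : N // IsConj tN x} = 3 := by
      have e2 : {x : N // IsConj tN x} ≃ {v : V // v ≠ 1} :=
        { toFun := fun x => ⟨⟨((x.1 : N) : G), by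
            obtain ⟨c, hc⟩ := isConj_iff.mp x.2
            rw [← hc]
            exact (Subgroup.mem_normalizer_iff.mp c.2 t).mp T.mem_V⟩, fun e => by
            have e' : ((x.1 : N) : G) = 1 := congrArg Subtype.val e
            obtain ⟨c, hc⟩ := isConj_iff.mp x.2
            rw [← hc] at e'
            simp only [Subgroup.coe_mul, Subgroup.coe_inv, conj_eq_one_iff] at e'
            have : t = 1 := e'
            rw [this, orderOf_one] at ht; omega⟩
          invFun := fun v => ⟨⟨v.1, Subgroup.le_normalizer v.1.2⟩, by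
            obtain ⟨g, hg⟩ := isConj_iff.mp (T.V_class _ v.1.2 (fun e => v.2 (Subtype.ext e)))
            have hgN : g ∈ N := T.mem_normalizer (hg ▸ v.1.2)
            exact isConj_iff.mpr ⟨⟨g, hgN⟩, Subtype.ext hg⟩⟩
          left_inv := fun x => rfl
          right_inv := fun v => rfl }
      letI := Fintype.ofFinite V
      rw [Nat.card_congr e2, Nat.card_eq_fintype_card, Fintype.card_subtype_compl,
        Fintype.card_subtype_eq, ← Nat.card_eq_fintype_card, T.card_V]
    have e3 : Nat.card ↥(Subgroup.centralizer ({tN} : Set N)) = 240 := by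
      rw [← T.card_cent]
      exact Nat.card_congr
        { toFun := fun x => ⟨((x.1 : N) : G), Subgroup.mem_centralizer_singleton_iff.mpr
            (congrArg Subtype.val (Subgroup.mem_centralizer_singleton_iff.mp x.2))⟩
          invFun := fun x => ⟨⟨x.1, hCN x.2⟩, Subgroup.mem_centralizer_singleton_iff.mpr
            (Subtype.ext (Subgroup.mem_centralizer_singleton_iff.mp x.2))⟩
          left_inv := fun _ => rfl
          right_inv := fun _ => rfl }
    rw [e, e3] at h1
    omega
  -- `N` normalizes `M`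
  obtain ⟨φ⟩ := T.alt
  obtain ⟨W, hW⟩ := T.four
  have hM60 : Nat.card M = 60 := by rw [Nat.card_congr φ.toEquiv, A5.card_eq]
  have hMnorm : ∀ g ∈ N, ∀ x ∈ M, g * x * g⁻¹ ∈ M := by
    intro g hg
    have hgt : g * t * g⁻¹ ∈ V := (Subgroup.mem_normalizer_iff.mp hg t).mp T.mem_V
    let S : Subgroup M := M.subgroupOf M ⊓ (M.comap (MulAut.conj g).toMonoidHom).subgroupOf M
    have hinv : ∀ x : M, orderOf x = 2 → g * (x : G) * g⁻¹ ∈ M := by
      intro x hx
      have hz : IsConj z (x : G) := T.inv_class x x.2 (by rw [Subgroup.orderOf_coe]; exact hx)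
      refine T.class_mem _ (hz.trans (isConj_iff.mpr ⟨g, rfl⟩)) ?_
      have hne : g * t * g⁻¹ ≠ 1 := fun e => by
        rw [conj_eq_one_iff] at e; rw [e, orderOf_one] at ht; omega
      have hc : Commute (g * t * g⁻¹) (g * (x : G) * g⁻¹) := by
        have := (Subgroup.mem_centralizer_singleton_iff.mp (T.M_le x.2)).symm
        exact Commute.map (show Commute t (x : G) from this) (MulAut.conj g).toMonoidHom
      have h2 := SetLike.ext_iff.mp (T.cent_eq hgt hne) (g * (x : G) * g⁻¹)
      simp only [Subgroup.mem_centralizer_singleton_iff] at h2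
      exact (h2.mp hc.eq.symm).symm
    let R : Subgroup M := Subgroup.closure {x : M | orderOf x = 2}
    haveI : R.Normal := ⟨fun x hx c => by
      have hle : R ≤ R.comap (MulAut.conj c).toMonoidHom := (Subgroup.closure_le _).mpr fun s hs =>
        Subgroup.subset_closure (by
          show orderOf (MulAut.conj c s) = 2
          rw [MulEquiv.orderOf_eq]; exact hs)
      exact hle hx⟩
    have hRtop : R = ⊤ := by
      rcases hW.normal_eq_bot_or_top hM60 R with e | e
      · exfalso
        obtain ⟨w, hw, hw1⟩ := hW.exists_ne_one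
        exact hw1 (Subgroup.mem_bot.mp (e ▸ Subgroup.subset_closure (hW.order_two hw hw1)))
      · exact e
    intro x hx
    have hle : R ≤ (M.comap (MulAut.conj g).toMonoidHom).subgroupOf M :=
      (Subgroup.closure_le _).mpr fun s hs => hinv s hs
    exact hle (hRtop ▸ Subgroup.mem_top (⟨x, hx⟩ : M))
  set M' : Subgroup N := M.subgroupOf N with hM'
  have hMN : M ≤ N := T.M_le.trans hCN
  haveI hM'n : M'.Normal := ⟨fun x hx g => hMnorm g g.2 x hx⟩
  -- the centralizer of `M` in `N`
  set L : Subgroup G := N ⊓ Subgroup.centralizer (M : Set G) with hL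
  haveI hLn : (L.subgroupOf N).Normal := ⟨fun x hx g => by
    refine Subgroup.mem_inf.mpr ⟨(g * x * g⁻¹).2, Subgroup.mem_centralizer_iff.mpr fun m hm => ?_⟩
    have hxc : ((g⁻¹ : N) : G) * m * ((g⁻¹ : N) : G)⁻¹ * (x : G) =
        (x : G) * (((g⁻¹ : N) : G) * m * ((g⁻¹ : N) : G)⁻¹) :=
      Subgroup.mem_centralizer_iff.mp (Subgroup.mem_inf.mp hx).2 _
        (hMnorm (g⁻¹ : N) (g⁻¹ : N).2 m hm)
    show m * ((g : G) * x * (g : G)⁻¹) = (g : G) * x * (g : G)⁻¹ * m
    calc m * ((g : G) * x * (g : G)⁻¹)
        = (g : G) * (((g⁻¹ : N) : G) * m * ((g⁻¹ : N) : G)⁻¹ * x) * (g : G)⁻¹ := by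
          simp [mul_assoc]
      _ = (g : G) * (x * (((g⁻¹ : N) : G) * m * ((g⁻¹ : N) : G)⁻¹)) * (g : G)⁻¹ := by rw [hxc]
      _ = _ := by simp [mul_assoc]⟩
  have hVL : V ≤ L := fun v hv => Subgroup.mem_inf.mpr
    ⟨Subgroup.le_normalizer hv, Subgroup.mem_centralizer_iff.mpr fun x hx => (T.comm hv hx).eq.symm⟩
  have hLM : L ⊓ M = ⊥ := (Subgroup.eq_bot_iff_forall _).mpr fun x hx => by
    obtain ⟨hxL, hxM⟩ := Subgroup.mem_inf.mp hx
    have hxV : x ∈ V := by
      refine T.center x (Subgroup.mem_centralizer_singleton_iff.mp (T.M_le hxM)).symm fun y hy => ?_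
      have hy' : y ∈ V ⊔ M := T.sup.symm ▸ Subgroup.mem_centralizer_singleton_iff.mpr hy.eq.symm
      have hle : V ⊔ M ≤ Subgroup.centralizer ({x} : Set G) :=
        sup_le (fun v hv => Subgroup.mem_centralizer_singleton_iff.mpr (T.comm hv hxM).eq)
          (fun m hm => Subgroup.mem_centralizer_singleton_iff.mpr
            (Subgroup.mem_centralizer_iff.mp (Subgroup.mem_inf.mp hxL).2 m hm))
      exact (Subgroup.mem_centralizer_singleton_iff.mp (hle hy')).symm
    have := Subgroup.mem_inf.mpr ⟨hxV, hxM⟩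
    rwa [T.inf, Subgroup.mem_bot] at this
  -- `N = L M`
  have hsupN : (L ⊔ M).subgroupOf N = ⊤ := by
    set D := (L ⊔ M).subgroupOf N with hD
    haveI : (L ⊔ M).subgroupOf N |>.Normal := by
      rw [Subgroup.subgroupOf_sup (inf_le_left) hMN]; infer_instance
    have hCD : ∀ y : N, Commute t (y : G) → y ∈ D := fun y hy =>
      (sup_le_sup_right hVL M) (T.sup.symm ▸ Subgroup.mem_centralizer_singleton_iff.mpr hy.eq.symm)
    have hdvd : D.index ∣ 3 := by
      have h1 := D.card_mul_index
      rw [hN720] at h1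
      have h2 : 240 ∣ Nat.card D := by
        rw [← T.card_cent]
        have hle : (Subgroup.centralizer ({t} : Set G)).subgroupOf N ≤ D := fun y hy =>
          hCD y (Subgroup.mem_centralizer_singleton_iff.mp hy).symm
        have := Subgroup.card_dvd_of_le hle
        rwa [Nat.card_congr (Subgroup.subgroupOfEquivOfLe hCN).toEquiv] at this
      obtain ⟨k, hk⟩ := h2
      refine ⟨k, ?_⟩
      rw [hk, mul_assoc] at h1
      have : k * D.index = 3 := by omega
      rw [← this, mul_comm]
    -- some element outside `C(t)` fixes `W` modulo `M`, and its square acts by an inner map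
    have hsq : ∀ g : N, g * g ∈ D := by
      intro g
      let γ : MulAut M :=
        { toFun := fun x => ⟨(g : G) * x * (g : G)⁻¹, hMnorm g g.2 x x.2⟩
          invFun := fun x => ⟨(g : G)⁻¹ * x * (g : G),
            by simpa using hMnorm ((g : G)⁻¹) (inv_mem g.2) x x.2⟩
          left_inv := fun x => Subtype.ext (by simp [mul_assoc])
          right_inv := fun x => Subtype.ext (by simp [mul_assoc])
          map_mul' := fun x y => Subtype.ext (by simp [mul_assoc]) }
      obtain ⟨w, hw, hw1⟩ := hW.exists_ne_one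
      obtain ⟨c, hc⟩ := isConj_iff.mp
        (hW.one_class (γ w) (by rw [MulEquiv.orderOf_eq]; exact hW.order_two hw hw1) w hw hw1)
      let δ : MulAut M := γ.trans (MulAut.conj c).symm
      have hδw : δ w = w := by
        show c⁻¹ * γ w * c = w
        rw [← hc]; group
      have hδW : ∀ x ∈ W, δ x ∈ W := fun x hx => by
        rw [← hW.cent w hw hw1, Subgroup.mem_centralizer_singleton_iff] at hx ⊢
        rw [← hδw, ← map_mul, ← map_mul, hx]
      have hδ2 : ∀ x ∈ W, δ (δ x) = x := by
        intro x hx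
        by_cases h1 : x = 1
        · subst h1; simp
        by_cases h2 : x = w
        · rw [h2, hδw, hδw]
        by_cases h3 : δ x = x
        · rw [h3, h3]
        have hne1 : δ x ≠ 1 := fun e => h1 (δ.map_eq_one_iff.mp e)
        have hne2 : δ x ≠ w := fun e => h2 (δ.injective (e.trans hδw.symm))
        haveI : IsKleinFour ↥W := by
          refine ⟨hW.card, ?_⟩
          refine (Nat.dvd_prime Nat.prime_two).mp (Monoid.exponent_dvd_of_forall_pow_eq_one fun v =>
            Subtype.ext (by rw [SubgroupClass.coe_pow, pow_two]; exact hW.sq v v.2)) |>.resolve_left ?_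
          intro h1'
          haveI := Monoid.exp_eq_one_iff.mp h1'
          have := hW.card
          rw [Nat.card_unique] at this
          omega
        have e1 : (⟨δ x, hδW x hx⟩ : W) = ⟨w, hw⟩ * ⟨x, hx⟩ := IsKleinFour.eq_mul_of_ne_all
          (fun e => hw1 (congrArg Subtype.val e)) (fun e => h1 (congrArg Subtype.val e))
          (fun e => h2 (congrArg Subtype.val e).symm) (fun e => hne1 (congrArg Subtype.val e))
          (fun e => hne2 (congrArg Subtype.val e)) (fun e => h3 (congrArg Subtype.val e))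
        have e2 : δ x = w * x := congrArg Subtype.val e1
        rw [e2, map_mul, hδw, e2, ← mul_assoc, hW.sq w hw, one_mul]
      obtain ⟨v, -, hv⟩ := hW.inner_of_fix hM60 (δ.trans δ) hδ2
      let cN : N := ⟨c, hMN c.2⟩
      let vN : N := ⟨v, hMN v.2⟩
      have hδval : ∀ x : M, ((δ x : M) : G) = (cN⁻¹ * g : N) * (x : G) * ((cN⁻¹ * g : N) : G)⁻¹ := by
        intro x
        show ((c⁻¹ * γ x * c : M) : G) = _
        simp [γ, cN, mul_assoc]
      have hmem : vN⁻¹ * ((cN⁻¹ * g) * (cN⁻¹ * g)) ∈ D := by
        refine Subgroup.mem_sup_left (Subgroup.mem_inf.mpr ⟨(vN⁻¹ * ((cN⁻¹ * g) * (cN⁻¹ * g))).2, ?_⟩)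
        refine Subgroup.mem_centralizer_iff.mpr fun x hx => ?_
        have e : ((δ (δ ⟨x, hx⟩) : M) : G) = (v : G) * x * (v : G)⁻¹ := congrArg Subtype.val (hv ⟨x, hx⟩)
        rw [hδval, hδval] at e
        set a : G := ((cN⁻¹ * g : N) : G) with ha
        show x * ((v : G)⁻¹ * (a * a)) = (v : G)⁻¹ * (a * a) * x
        have e' : a * a * x * (a * a)⁻¹ = (v : G) * x * (v : G)⁻¹ := by rw [← e]; group
        calc x * ((v : G)⁻¹ * (a * a)) = (v : G)⁻¹ * ((v : G) * x * (v : G)⁻¹) * (a * a) := by group
          _ = (v : G)⁻¹ * (a * a * x * (a * a)⁻¹) * (a * a) := by rw [e']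
          _ = _ := by group
      have hMD : ∀ m : N, (m : G) ∈ M → m ∈ D := fun m hm => Subgroup.mem_sup_right hm
      have hvD : vN ∈ D := hMD _ v.2
      have hcD : cN ∈ D := hMD _ c.2
      have h3 : (cN⁻¹ * g) * (cN⁻¹ * g) ∈ D := by
        have := mul_mem hvD hmem
        rwa [mul_inv_cancel_left] at this
      have hconjD : g⁻¹ * cN * g ∈ D := by
        have := (inferInstance : D.Normal).conj_mem _ hcD g⁻¹
        rwa [inv_inv] at this
      have e : g * g = cN * ((cN⁻¹ * g) * (cN⁻¹ * g)) * (g⁻¹ * cN * g) := by group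
      rw [e]
      exact mul_mem (mul_mem hcD h3) hconjD
    rcases (Nat.dvd_prime Nat.prime_three).mp hdvd with e | e
    · exact Subgroup.index_eq_one.mp e
    · refine Subgroup.eq_top_iff' _ |>.mpr fun g => ?_
      have h3 : g ^ 3 ∈ D := e ▸ Subgroup.pow_index_mem D g
      have e' : g = g ^ 3 * (g * g)⁻¹ := by group
      rw [e']
      exact mul_mem h3 (inv_mem (hsq g))
  have hsup : L ⊔ M = N := le_antisymm (sup_le inf_le_left hMN) (Subgroup.subgroupOf_eq_top.mp hsupN)
  have hL12 : Nat.card L = 12 := by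
    obtain ⟨e⟩ := prod_nonempty_equiv (fun l hl x hx =>
      (Subgroup.mem_centralizer_iff.mp (Subgroup.mem_inf.mp hl).2 x hx).symm) hLM
    have h12 : Nat.card (↥L × ↥M) = Nat.card N := by rw [Nat.card_congr e.toEquiv, hsup]
    rw [Nat.card_prod, hM60, hN720] at h12
    omega
  refine ⟨L, T, hN720, hL12, hVL,
    fun l hl x hx => (Subgroup.mem_centralizer_iff.mp (Subgroup.mem_inf.mp hl).2 x hx).symm, hsup, hLM, ?_⟩
  haveI : (V.subgroupOf L).Normal := ⟨fun x hx g =>
    (Subgroup.mem_normalizer_iff.mp (Subgroup.mem_inf.mp g.2).1 _).mp hx⟩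
  refine nonempty_alt_four hL12 (V.subgroupOf L)
    (by rw [Nat.card_congr (Subgroup.subgroupOfEquivOfLe hVL).toEquiv, T.card_V]) fun x hx => ?_
  have hxt : Commute t (x : G) := congrArg Subtype.val
    (Subgroup.mem_centralizer_iff.mp hx ⟨t, hVL T.mem_V⟩ T.mem_V)
  refine T.center x hxt fun y hy => ?_
  have hy' : y ∈ V ⊔ M := T.sup.symm ▸ Subgroup.mem_centralizer_singleton_iff.mpr hy.eq.symm
  have hle : V ⊔ M ≤ Subgroup.centralizer ({(x : G)} : Set G) :=
    sup_le (fun v hv => Subgroup.mem_centralizer_singleton_iff.mpr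
      (congrArg Subtype.val (Subgroup.mem_centralizer_iff.mp hx ⟨v, hVL hv⟩ hv)))
      (fun m hm => Subgroup.mem_centralizer_singleton_iff.mpr
        (Subgroup.mem_centralizer_iff.mp (Subgroup.mem_inf.mp x.2).2 m hm))
  exact (Subgroup.mem_centralizer_singleton_iff.mp (hle hy')).symm

end TSplit

end Cfsg.Agent.J2Order38
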