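import Cfsg.Agent.J2Order38.Outer
import Cfsg.Agent.J2Order38.A5Three

/-!
Three-elements of `C(z)`.
-/

set_option autoImplicit false

namespace Cfsg.Agent.J2Order38

open Subgroup

variable {G : Type*} [Group G] [Finite G]

theorem fact_three : Fact (Nat.Prime 3) := ⟨Nat.prime_three⟩

theorem card_fixed_modEq_three {α : Type*} [Finite α] (σ : Equiv.Perm α) (h : σ ^ 3 = 1) :
    Nat.card α ≡ Nat.card {x : α // σ x = x} [MOD 3] := by
  haveI := fact_three
  have hp : IsPGroup 3 (Subgroup.zpowers σ) := by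
    intro g
    refine ⟨1, Subtype.ext ?_⟩
    obtain ⟨k, hk⟩ := Subgroup.mem_zpowers_iff.mp g.2
    rw [SubgroupClass.coe_pow, ← hk, pow_one, ← zpow_natCast, ← zpow_mul, mul_comm, zpow_mul,
      zpow_natCast, h, one_zpow]
    rfl
  refine (hp.card_modEq_card_fixedPoints α).trans (modEq_of_eq ?_)
  refine Nat.card_congr (Equiv.subtypeEquivRight fun x => ?_)
  constructor
  · intro hx
    exact hx ⟨σ, Subgroup.mem_zpowers σ⟩
  · intro hx g
    have h1 : (Subgroup.zpowers σ) ≤ MulAction.stabilizer (Equiv.Perm α) x :=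
      Subgroup.zpowers_le.mpr hx
    exact h1 g.2

theorem card_conj_fixed_modEq_three (l : G) (hl : l ^ 3 = 1) (S : Set G)
    (hS : ∀ x ∈ S, l * x * l⁻¹ ∈ S) :
    Nat.card S ≡ Nat.card {x : S // Commute l (x : G)} [MOD 3] := by
  let σ : Equiv.Perm S := Equiv.ofBijective (fun x => ⟨_, hS x x.2⟩)
    (Finite.injective_iff_bijective.mp fun a b e => Subtype.ext
      (mul_left_cancel (mul_right_cancel (congrArg Subtype.val e))))
  have hit : ∀ (k : ℕ) (x : S), (((σ ^ k) x : S) : G) = l ^ k * x * (l ^ k)⁻¹ := by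
    intro k
    induction k with
    | zero => intro x; simp
    | succ k ih =>
      intro x
      rw [pow_succ', Equiv.Perm.mul_apply]
      show l * ((σ ^ k) x : S) * l⁻¹ = _
      rw [ih, pow_succ']; group
  have hσ : σ ^ 3 = 1 := Equiv.ext fun x => Subtype.ext (by rw [hit, hl]; simp)
  refine (card_fixed_modEq_three σ hσ).trans (modEq_of_eq ?_)
  refine Nat.card_congr (Equiv.subtypeEquivRight fun x => ?_)
  exact ⟨fun h => mul_inv_eq_iff_eq_mul.mp (congrArg Subtype.val h),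
    fun h => Subtype.ext (mul_inv_eq_iff_eq_mul.mpr h)⟩

namespace HJ

variable {z l : G} {Q : Subgroup G}

theorem three_notMem (h : HJ z Q) (hl : orderOf l = 3) : l ∉ Q := by
  intro hm
  have := orderOf_dvd_natCard (⟨l, hm⟩ : Q)
  rw [Subgroup.orderOf_mk, hl, h.card] at this
  norm_num at this

theorem three_fix (h : HJ z Q) (hzl : Commute z l) (hl : orderOf l = 3) :
    Nat.card ↥(Q ⊓ Subgroup.centralizer ({l} : Set G)) = 8 ∧
      ∃ u ∈ invs z Q, ∃ v ∈ invs z Q, Commute l u ∧ Commute l v ∧ ¬ Commute u v := by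
  classical
  set F := Q ⊓ Subgroup.centralizer ({l} : Set G) with hF
  have hmemF : ∀ q, q ∈ F ↔ q ∈ Q ∧ Commute l q := fun q => by
    rw [hF, Subgroup.mem_inf, Subgroup.mem_centralizer_singleton_iff]
    exact ⟨fun h => ⟨h.1, h.2.symm⟩, fun h => ⟨h.1, h.2.symm⟩⟩
  have hl3 : l ^ 3 = 1 := hl ▸ pow_orderOf_eq_one l
  have hQm := card_conj_fixed_modEq_three l hl3 (Q : Set G) fun x hx => h.normal_in hzl hx
  have e1 : Nat.card {x : (Q : Set G) // Commute l (x : G)} = Nat.card F := Nat.card_congr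
    ((Equiv.subtypeSubtypeEquivSubtypeInter (fun x => x ∈ Q) (fun x => Commute l x)).trans
      (Equiv.subtypeEquivRight fun x => (hmemF x).symm))
  rw [e1, show Nat.card (Q : Set G) = 32 from h.card] at hQm
  have hIm := card_conj_fixed_modEq_three l hl3 (invs z Q) (by
    rintro x ⟨hx, hx2, hx1, hxz⟩
    refine ⟨h.normal_in hzl hx, ?_, fun e => hx1 (conj_eq_one_iff.mp e), fun e => hxz ?_⟩
    · rw [show l * x * l⁻¹ * (l * x * l⁻¹) = l * (x * x) * l⁻¹ by group, hx2]; group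
    · have : l * x * l⁻¹ = l * z * l⁻¹ := by rw [e, hzl.symm.eq, mul_inv_cancel_right]
      exact mul_left_cancel (mul_right_cancel this))
  rw [h.card_invs] at hIm
  haveI : Finite {x : invs z Q // Commute l (x : G)} := inferInstance
  obtain ⟨⟨⟨u, hu⟩, hlu⟩⟩ : Nonempty {x : invs z Q // Commute l (x : G)} := by
    by_contra hne
    haveI := not_nonempty_iff.mp hne
    rw [Nat.card_eq_zero.mpr (Or.inl inferInstance)] at hIm
    exact absurd hIm (by decide)
  have hlt : ¬ F = Q := by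
    intro e
    have hlc : l ∈ Subgroup.centralizer (Q : Set G) := Subgroup.mem_centralizer_iff.mpr fun q hq =>
      ((hmemF q).mp (e.symm ▸ hq)).2.symm.eq
    rw [h.setup.centralizer_eq] at hlc
    exact h.three_notMem hl ((Subgroup.zpowers_le.mpr h.z_mem) hlc)
  have hzu : z * u ∈ F :=
    (hmemF _).mpr ⟨mul_mem h.z_mem hu.1, hzl.symm.mul_right hlu⟩
  have h3 : 3 ≤ Nat.card F := by
    have hle : Subgroup.zpowers z ≤ F :=
      Subgroup.zpowers_le.mpr ((hmemF z).mpr ⟨h.z_mem, hzl.symm⟩)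
    by_contra hlt3
    have huz : u ∈ Subgroup.zpowers z :=
      (Subgroup.eq_of_le_of_card_ge hle (by rw [h.zpowers_card]; omega)).symm ▸ (hmemF u).mpr ⟨hu.1, hlu⟩
    rcases h.cases_z huz with e | e
    exacts [hu.2.2.1 e, hu.2.2.2 e]
  have hd : Nat.card F ∣ 32 := h.card ▸ Subgroup.card_dvd_of_le inf_le_left
  have hne32 : Nat.card F ≠ 32 := fun e => hlt (Subgroup.eq_of_le_of_card_ge inf_le_left (by rw [h.card, e]))
  have h8 : Nat.card F = 8 := by
    obtain ⟨j, hj, e⟩ := (Nat.dvd_prime_pow Nat.prime_two).mp (show Nat.card F ∣ 2 ^ 5 from hd)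
    rw [e] at hQm h3 hne32 ⊢
    rw [Nat.ModEq] at hQm
    interval_cases j <;> omega
  refine ⟨h8, u, hu, ?_⟩
  by_contra hcon
  push Not at hcon
  -- otherwise only `u` and `z u` are fixed
  have hsub : ∀ x : {x : invs z Q // Commute l (x : G)},
      ((x.1 : invs z Q) : G) = u ∨ ((x.1 : invs z Q) : G) = z * u := by
    rintro ⟨⟨x, hx⟩, hlx⟩
    rcases h.inv_comm hu hx.1 hx.2.1 (hcon x hx hlu hlx) with e | e | e | e
    exacts [absurd e hx.2.2.1, absurd e hx.2.2.2, Or.inl e, Or.inr e]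
  let g : {x : invs z Q // Commute l (x : G)} → Fin 2 := fun x => if ((x.1 : invs z Q) : G) = u then 0 else 1
  have hg : Function.Injective g := by
    intro a b e
    refine Subtype.ext (Subtype.ext ?_)
    rcases hsub a with ha | ha <;> rcases hsub b with hb | hb
    · rw [ha, hb]
    · exfalso
      have hne : z * u ≠ u := fun e' => h.z_ne (mul_eq_right.mp e')
      simp [g, ha, hb, hne] at e
    · exfalso
      have hne : z * u ≠ u := fun e' => h.z_ne (mul_eq_right.mp e')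
      simp [g, ha, hb, hne] at e
    · rw [ha, hb]
  have hle2 := Nat.card_le_card_of_injective g hg
  rw [Nat.card_fin] at hle2
  have hge2 : 2 ≤ Nat.card {x : invs z Q // Commute l (x : G)} := by
    have hzui : z * u ∈ invs z Q :=
      ⟨mul_mem h.z_mem hu.1, by rw [(h.z_comm hu.1).symm.mul_mul_mul_comm, h.z_sq, hu.2.1, one_mul],
        fun e => hu.2.2.2 ((eq_inv_of_mul_eq_one_right e).trans h.z_inv),
        fun e => hu.2.2.1 (mul_eq_left.mp e)⟩
    let k : Fin 2 → {x : invs z Q // Commute l (x : G)} :=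
      ![⟨⟨u, hu⟩, hlu⟩, ⟨⟨z * u, hzui⟩, hzl.symm.mul_right hlu⟩]
    have hk : Function.Injective k := by
      intro a b e
      have e' := congrArg (fun x : {x : invs z Q // Commute l (x : G)} => ((x.1 : invs z Q) : G)) e
      fin_cases a <;> fin_cases b <;> simp [k] at e' ⊢ <;>
        first
          | exact h.z_ne e'
          | exact h.z_ne e'.symm
    simpa using Nat.card_le_card_of_injective k hk
  rw [Nat.ModEq] at hIm
  omega

theorem three_decomp (h : HJ z Q) (hzl : Commute z l) (hl : orderOf l = 3) {c : G} (hzc : Commute z c)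
    (hlc : Commute l c) : ∃ i : ℤ, ∃ q, q ∈ Q ∧ Commute l q ∧ c = l ^ i * q := by
  obtain ⟨π, -, hπ⟩ := h.quot
  let lH : Subgroup.centralizer ({z} : Set G) := ⟨l, Subgroup.mem_centralizer_singleton_iff.mpr hzl.eq.symm⟩
  let cH : Subgroup.centralizer ({z} : Set G) := ⟨c, Subgroup.mem_centralizer_singleton_iff.mpr hzc.eq.symm⟩
  haveI := fact_three
  have ho : orderOf (π lH) = 3 := by
    refine orderOf_eq_prime (by rw [← map_pow, show lH ^ 3 = 1 from Subtype.ext (hl ▸ pow_orderOf_eq_one l), map_one]) ?_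
    intro e
    exact h.three_notMem hl ((hπ lH).mp e)
  have hm : π cH ∈ Subgroup.zpowers (π lH) := by
    rw [← A5.three_cent ho, Subgroup.mem_centralizer_singleton_iff, ← map_mul, ← map_mul]
    exact congrArg π (Subtype.ext hlc.eq.symm)
  obtain ⟨i, hi⟩ := Subgroup.mem_zpowers_iff.mp hm
  refine ⟨i, (l ^ i)⁻¹ * c, ?_, (((Commute.refl l).zpow_right i).inv_right).mul_right hlc,
    (mul_inv_cancel_left _ _).symm⟩
  have := (hπ ((lH ^ i)⁻¹ * cH)).mp (by rw [map_mul, map_inv, map_zpow, hi, inv_mul_cancel])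
  simpa [lH, cH] using this

theorem three_decomp_pow (h : HJ z Q) (hzl : Commute z l) (hl : orderOf l = 3) {c : G}
    (hzc : Commute z c) (hlc : Commute l c) (n : ℕ) (hn : c ^ n = 1) :
    (Nat.Coprime n 3 → c ∈ Q) ∧ (Nat.Coprime n 2 → c ∈ Subgroup.zpowers l) := by
  obtain ⟨i, q, hq, hlq, rfl⟩ := h.three_decomp hzl hl hzc hlc
  have hl3 : l ^ 3 = 1 := by
    have := pow_orderOf_eq_one l
    rwa [hl] at this
  have hc : Commute (l ^ i) q := hlq.zpow_left i
  rw [hc.mul_pow] at hn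
  have h1 : (l ^ i) ^ n = (q ^ n)⁻¹ := eq_inv_of_mul_eq_one_left hn
  have h3 : ((l ^ i) ^ n) ^ 3 = 1 := by
    rw [← pow_mul, mul_comm n 3, pow_mul, ← zpow_natCast (l ^ i) 3, ← zpow_mul, mul_comm, zpow_mul,
      zpow_natCast, hl3, one_zpow, one_pow]
  have hln : (l ^ i) ^ n = 1 := by
    refine orderOf_eq_one_iff.mp (Nat.dvd_one.mp ?_)
    have hQ : (l ^ i) ^ n ∈ Q := h1 ▸ inv_mem (pow_mem hq n)
    have hd := orderOf_dvd_natCard (⟨_, hQ⟩ : Q)
    rw [Subgroup.orderOf_mk, h.card] at hd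
    exact (by norm_num : Nat.Coprime 32 3).gcd_eq_one ▸ Nat.dvd_gcd hd (orderOf_dvd_of_pow_eq_one h3)
  have hqn : q ^ n = 1 := by rw [hln] at h1; exact inv_eq_one.mp h1.symm
  constructor
  · intro hcop
    have : l ^ i = 1 := orderOf_eq_one_iff.mp (Nat.dvd_one.mp (hcop.gcd_eq_one ▸ Nat.dvd_gcd
      (orderOf_dvd_of_pow_eq_one hln) (orderOf_dvd_of_pow_eq_one (by
        rw [← zpow_natCast, ← zpow_mul, mul_comm, zpow_mul, zpow_natCast, hl3,
          one_zpow]))))
    rw [this, one_mul]; exact hq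
  · intro hcop
    have : q = 1 := by
      refine orderOf_eq_one_iff.mp (Nat.dvd_one.mp ?_)
      have hd := orderOf_dvd_natCard (⟨q, hq⟩ : Q)
      rw [Subgroup.orderOf_mk, h.card, show (32 : ℕ) = 2 ^ 5 from rfl] at hd
      exact (Nat.Coprime.pow_right 5 hcop).gcd_eq_one ▸ Nat.dvd_gcd (orderOf_dvd_of_pow_eq_one hqn) hd
    rw [this, mul_one]; exact ⟨i, rfl⟩

/-- `C(z) ∩ C(l)` has order twenty-four. -/
theorem three_inter (h : HJ z Q) (hzl : Commute z l) (hl : orderOf l = 3) :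
    Nat.card ↥(Subgroup.centralizer ({z} : Set G) ⊓ Subgroup.centralizer ({l} : Set G)) = 24 := by
  set F := Q ⊓ Subgroup.centralizer ({l} : Set G) with hF
  have hmem : ∀ c, c ∈ Subgroup.centralizer ({z} : Set G) ⊓ Subgroup.centralizer ({l} : Set G) ↔
      (Commute z c ∧ Commute l c) := fun c => by
    rw [Subgroup.mem_inf, Subgroup.mem_centralizer_singleton_iff, Subgroup.mem_centralizer_singleton_iff]
    exact ⟨fun h => ⟨h.1.symm, h.2.symm⟩, fun h => ⟨h.1.symm, h.2.symm⟩⟩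
  have hmemF : ∀ q, q ∈ F ↔ q ∈ Q ∧ Commute l q := fun q => by
    rw [hF, Subgroup.mem_inf, Subgroup.mem_centralizer_singleton_iff]
    exact ⟨fun h => ⟨h.1, h.2.symm⟩, fun h => ⟨h.1, h.2.symm⟩⟩
  let f : ↥(Subgroup.zpowers l) × ↥F →
      ↥(Subgroup.centralizer ({z} : Set G) ⊓ Subgroup.centralizer ({l} : Set G)) := fun p =>
    ⟨(p.1 : G) * p.2, (hmem _).mpr (by
      obtain ⟨k, hk⟩ := Subgroup.mem_zpowers_iff.mp p.1.2
      obtain ⟨hq, hlq⟩ := (hmemF p.2).mp p.2.2
      rw [← hk]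
      exact ⟨(hzl.zpow_right k).mul_right (h.z_comm hq),
        ((Commute.refl l).zpow_right k).mul_right hlq⟩)⟩
  have hf : Function.Bijective f := by
    constructor
    · rintro ⟨⟨a, ha⟩, ⟨q, hq⟩⟩ ⟨⟨a', ha'⟩, ⟨q', hq'⟩⟩ e
      have e' : a * q = a' * q' := congrArg Subtype.val e
      have hm : a'⁻¹ * a ∈ Subgroup.zpowers l ⊓ Q := Subgroup.mem_inf.mpr ⟨mul_mem (inv_mem ha') ha, by
        have : a'⁻¹ * a = q' * q⁻¹ := by
          calc a'⁻¹ * a = a'⁻¹ * (a * q) * q⁻¹ := by group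
            _ = q' * q⁻¹ := by rw [e']; group
        rw [this]; exact mul_mem ((hmemF q').mp hq').1 (inv_mem ((hmemF q).mp hq).1)⟩
      rw [Subgroup.inf_eq_bot_of_coprime (by rw [Nat.card_zpowers, hl, h.card]; norm_num),
        Subgroup.mem_bot, inv_mul_eq_one] at hm
      subst hm
      have := mul_left_cancel e'
      subst this
      rfl
    · rintro ⟨c, hc⟩
      obtain ⟨hzc, hlc⟩ := (hmem c).mp hc
      obtain ⟨i, q, hq, hlq, rfl⟩ := h.three_decomp hzl hl hzc hlc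
      exact ⟨(⟨l ^ i, i, rfl⟩, ⟨q, (hmemF q).mpr ⟨hq, hlq⟩⟩), rfl⟩
  rw [← Nat.card_eq_of_bijective f hf, Nat.card_prod, Nat.card_zpowers, hl, (h.three_fix hzl hl).1]

/-- A Sylow 2-subgroup of `C(l)` lies in `Q`. -/
theorem three_sylow (h : HJ z Q) (hzl : Commute z l) (hl : orderOf l = 3) :
    ∃ S : Sylow 2 ↥(Subgroup.centralizer ({l} : Set G)),
      ∀ a : ↥(Subgroup.centralizer ({l} : Set G)),
        a ∈ (S : Subgroup ↥(Subgroup.centralizer ({l} : Set G))) → (a : G) ∈ Q := by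
  classical
  haveI : Fact (Nat.Prime 2) := ⟨Nat.prime_two⟩
  obtain ⟨hF8, u, hu, v, hv, hlu, hlv, huv⟩ := h.three_fix hzl hl
  set C := Subgroup.centralizer ({l} : Set G) with hC
  set F := Q ⊓ C with hF
  have hpF : IsPGroup 2 (F.subgroupOf C) :=
    IsPGroup.of_card (n := 3) (by rw [Nat.card_congr (Subgroup.subgroupOfEquivOfLe inf_le_right).toEquiv, hF8]; norm_num)
  obtain ⟨S, hS⟩ := hpF.exists_le_sylow
  have ofC : ∀ c : C, Commute l (c : G) := fun c => (Subgroup.mem_centralizer_singleton_iff.mp c.2).symm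
  have toC : ∀ {c : G}, Commute l c → c ∈ C := fun hc => Subgroup.mem_centralizer_singleton_iff.mpr hc.eq.symm
  have hcop : ∀ j, Nat.Coprime (2 ^ j) 3 := fun j => Nat.Coprime.pow_left j (by norm_num)
  refine ⟨S, ?_⟩
  have hzS : (⟨z, toC hzl.symm⟩ : C) ∈ (S : Subgroup C) := hS ⟨h.z_mem, toC hzl.symm⟩
  haveI : Nontrivial (S : Subgroup C) :=
    ⟨⟨⟨_, hzS⟩, 1, fun e => h.z_ne (congrArg (fun w : (S : Subgroup C) => ((w : C) : G)) e)⟩⟩
  haveI : Nontrivial (Subgroup.center (S : Subgroup C)) := S.2.center_nontrivial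
  obtain ⟨c, hc, hc2⟩ : ∃ c ∈ Subgroup.center (S : Subgroup C), orderOf c = 2 := by
    obtain ⟨c, hc⟩ := exists_prime_orderOf_dvd_card' (G := Subgroup.center (S : Subgroup C)) 2 (by
      obtain ⟨k, hk⟩ := IsPGroup.iff_card.mp (S.2.to_subgroup (Subgroup.center (S : Subgroup C)))
      have h1 : 1 < Nat.card (Subgroup.center (S : Subgroup C)) :=
        Finite.one_lt_card_iff_nontrivial.mpr inferInstance
      rw [hk] at h1 ⊢
      exact dvd_pow_self 2 (by rintro rfl; norm_num at h1))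
    exact ⟨c, c.2, by rw [Subgroup.orderOf_coe]; exact hc⟩
  have hcc : ∀ a : C, a ∈ (S : Subgroup C) → Commute (((c : C)) : G) (a : G) := fun a ha =>
    (congrArg (fun w : (S : Subgroup C) => ((w : C) : G)) (Subgroup.mem_center_iff.mp hc ⟨a, ha⟩)).symm
  have hco : orderOf (((c : C)) : G) = 2 := by rw [Subgroup.orderOf_coe, Subgroup.orderOf_coe]; exact hc2
  have hc2' : (((c : C)) : G) ^ 2 = 1 := orderOf_dvd_iff_pow_eq_one.mp (dvd_of_eq hco)
  have hcQ : (((c : C)) : G) ∈ Q := (h.three_decomp_pow hzl hl (hcc _ hzS).symm (ofC _) 2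
    hc2').1 (by norm_num)
  have hcsq : (((c : C)) : G) * ((c : C) : G) = 1 := by rw [← pow_two]; exact hc2'
  have hcz : (((c : C)) : G) = z := by
    rcases h.inv_comm hu hcQ hcsq (hcc ⟨u, toC hlu⟩ (hS ⟨hu.1, toC hlu⟩)).symm with e | e | e | e
    · rw [e, orderOf_one] at hco; omega
    · exact e
    · exact absurd (e ▸ hcc ⟨v, toC hlv⟩ (hS ⟨hv.1, toC hlv⟩)) huv
    · exfalso
      have h1 : Commute (z * u) v := e ▸ hcc ⟨v, toC hlv⟩ (hS ⟨hv.1, toC hlv⟩)
      have h2 := (h.z_comm hv.1).mul_left h1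
      rw [← mul_assoc, h.z_sq, one_mul] at h2
      exact huv h2
  intro a ha
  obtain ⟨j, hj⟩ := S.2 ⟨a, ha⟩
  exact (h.three_decomp_pow hzl hl (hcz ▸ hcc a ha) (ofC a) (2 ^ j)
    (congrArg (fun w : (S : Subgroup C) => ((w : C) : G)) hj)).1 (hcop j)

/-- The order of `C(l)` is not divisible by sixteen. -/
theorem three_not_sixteen (h : HJ z Q) (hzl : Commute z l) (hl : orderOf l = 3) :
    ¬ 16 ∣ Nat.card ↥(Subgroup.centralizer ({l} : Set G)) := by
  intro h16
  haveI : Fact (Nat.Prime 2) := ⟨Nat.prime_two⟩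
  obtain ⟨S, hS⟩ := h.three_sylow hzl hl
  obtain ⟨R, hR⟩ := Sylow.exists_subgroup_card_pow_prime 2
    (show 2 ^ 4 ∣ Nat.card ↥(Subgroup.centralizer ({l} : Set G)) from h16)
  obtain ⟨T, hT⟩ := (IsPGroup.of_card hR).exists_le_sylow
  have h1 : 16 ≤ Nat.card (S : Subgroup ↥(Subgroup.centralizer ({l} : Set G))) := by
    have e : Nat.card (T : Subgroup ↥(Subgroup.centralizer ({l} : Set G))) =
        Nat.card (S : Subgroup ↥(Subgroup.centralizer ({l} : Set G))) := by
      rw [Sylow.card_eq_multiplicity, Sylow.card_eq_multiplicity]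
    have := Subgroup.card_le_of_le hT
    rw [hR, e] at this
    exact this
  have h2 : Nat.card (S : Subgroup ↥(Subgroup.centralizer ({l} : Set G))) ≤
      Nat.card ↥(Q ⊓ Subgroup.centralizer ({l} : Set G)) :=
    Nat.card_le_card_of_injective (fun a => ⟨((a.1 : ↥(Subgroup.centralizer ({l} : Set G))) : G),
      Subgroup.mem_inf.mpr ⟨hS a.1 a.2, a.1.2⟩⟩) fun a b e =>
        Subtype.ext (Subtype.ext (congrArg (fun w : ↥(Q ⊓ Subgroup.centralizer ({l} : Set G)) => (w : G)) e))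
  rw [(h.three_fix hzl hl).1] at h2
  omega

/-- Every involution centralizing `l` is conjugate to `z`. -/
theorem three_invol (h : HJ z Q) (hzl : Commute z l) (hl : orderOf l = 3) {s : G}
    (hs : orderOf s = 2) (hls : Commute l s) : IsConj z s := by
  classical
  haveI : Fact (Nat.Prime 2) := ⟨Nat.prime_two⟩
  set C := Subgroup.centralizer ({l} : Set G) with hC
  obtain ⟨S, hSQ⟩ : ∃ S : Sylow 2 C, ∀ a : C, a ∈ (S : Subgroup C) → (a : G) ∈ Q := h.three_sylow hzl hl
  have toC : ∀ {c : G}, Commute l c → c ∈ C := fun hc => Subgroup.mem_centralizer_singleton_iff.mpr hc.eq.symm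
  have hp : IsPGroup 2 (Subgroup.zpowers (⟨s, toC hls⟩ : C)) :=
    IsPGroup.of_card (n := 1) (by rw [Nat.card_zpowers, Subgroup.orderOf_mk, hs, pow_one])
  obtain ⟨U, hU⟩ := hp.exists_le_sylow
  obtain ⟨g, hg⟩ := MulAction.exists_smul_eq C U S
  have hmem : g * ⟨s, toC hls⟩ * g⁻¹ ∈ (S : Subgroup C) := by
    rw [← hg, Sylow.smul_def, Sylow.pointwise_smul_def]
    exact Subgroup.smul_mem_pointwise_smul _ (MulAut.conj g) _ (hU (Subgroup.mem_zpowers _))
  have hQ : (g : G) * s * (g : G)⁻¹ ∈ Q := hSQ _ hmem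
  have hback : IsConj ((g : G) * s * (g : G)⁻¹) s := isConj_iff.mpr ⟨(g : G)⁻¹, by group⟩
  refine IsConj.trans ?_ hback
  by_cases hz' : (g : G) * s * (g : G)⁻¹ = z
  · rw [hz']
  refine h.isConj_invs ⟨hQ, ?_, ?_, hz'⟩
  · rw [show (g : G) * s * (g : G)⁻¹ * ((g : G) * s * (g : G)⁻¹) = (g : G) * (s * s) * (g : G)⁻¹ by group,
      ← pow_two, ← hs, pow_orderOf_eq_one]; group
  · rw [Ne, conj_eq_one_iff]; intro e; rw [e, orderOf_one] at hs; omega

theorem sylow_three_card_H (h : HJ z Q) (S : Sylow 3 ↥(Subgroup.centralizer ({z} : Set G))) :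
    Nat.card (S : Subgroup ↥(Subgroup.centralizer ({z} : Set G))) = 3 := by
  haveI := fact_three
  rw [Sylow.card_eq_multiplicity, h.card_H, show (1920 : ℕ) = 3 ^ 1 * 640 by norm_num,
    Nat.factorization_mul_apply_of_coprime (by norm_num), Nat.Prime.factorization_pow (by norm_num),
    Nat.factorization_eq_zero_of_not_dvd (show ¬ (3 : ℕ) ∣ 640 by norm_num)]
  simp

/-- All three-elements of `C(z)` generate conjugate subgroups. -/
theorem three_conj (h : HJ z Q) (hzl : Commute z l) (hl : orderOf l = 3) {m : G} (hzm : Commute z m)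
    (hm : orderOf m = 3) : ∃ g : G, g * m * g⁻¹ ∈ Subgroup.zpowers l := by
  haveI := fact_three
  set C := Subgroup.centralizer ({z} : Set G) with hC
  let lH : C := ⟨l, Subgroup.mem_centralizer_singleton_iff.mpr hzl.eq.symm⟩
  let mH : C := ⟨m, Subgroup.mem_centralizer_singleton_iff.mpr hzm.eq.symm⟩
  have hlo : orderOf lH = 3 := by rw [Subgroup.orderOf_mk]; exact hl
  have hmo : orderOf mH = 3 := by rw [Subgroup.orderOf_mk]; exact hm
  have hpl : IsPGroup 3 (Subgroup.zpowers lH) :=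
    IsPGroup.of_card (n := 1) (by rw [Nat.card_zpowers, hlo, pow_one])
  have hpm : IsPGroup 3 (Subgroup.zpowers mH) :=
    IsPGroup.of_card (n := 1) (by rw [Nat.card_zpowers, hmo, pow_one])
  obtain ⟨S, hS⟩ := hpl.exists_le_sylow
  obtain ⟨T, hT⟩ := hpm.exists_le_sylow
  obtain ⟨g, hg⟩ := MulAction.exists_smul_eq C T S
  have hSl : (S : Subgroup C) = Subgroup.zpowers lH :=
    (Subgroup.eq_of_le_of_card_ge hS (by rw [h.sylow_three_card_H S, Nat.card_zpowers, hlo])).symm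
  have hmem : g * mH * g⁻¹ ∈ Subgroup.zpowers lH := by
    rw [← hSl, ← hg, Sylow.smul_def, Sylow.pointwise_smul_def]
    exact Subgroup.smul_mem_pointwise_smul _ (MulAut.conj g) _ (hT (Subgroup.mem_zpowers _))
  obtain ⟨k, hk⟩ := Subgroup.mem_zpowers_iff.mp hmem
  exact ⟨(g : G), k, by simpa [lH, mH] using congrArg Subtype.val hk⟩

/-- Three-elements of `C(z)` are inverted. -/
theorem three_inverted (h : HJ z Q) (hzl : Commute z l) (hl : orderOf l = 3) :
    ∃ g : G, g * l * g⁻¹ = l⁻¹ := by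
  haveI := fact_three
  set C := Subgroup.centralizer ({z} : Set G) with hC
  obtain ⟨π, hπs, hπ⟩ := h.quot
  let lH : C := ⟨l, Subgroup.mem_centralizer_singleton_iff.mpr hzl.eq.symm⟩
  have hlo : orderOf lH = 3 := by rw [Subgroup.orderOf_mk]; exact hl
  have ho : orderOf (π lH) = 3 := by
    refine orderOf_eq_prime (by rw [← map_pow, ← hlo, pow_orderOf_eq_one, map_one]) ?_
    intro e
    exact h.three_notMem hl ((hπ lH).mp e)
  obtain ⟨v, ⟨hv2, hv1⟩, hv⟩ := A5.three_inv (π lH) (A5.three_of_order ho)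
  obtain ⟨e, he⟩ := hπs v
  set K := (Subgroup.zpowers (π lH)).comap π with hK
  have hlK : lH ∈ K := Subgroup.mem_zpowers _
  have heK : e * lH * e⁻¹ ∈ K := by
    show π (e * lH * e⁻¹) ∈ Subgroup.zpowers (π lH)
    rw [map_mul, map_mul, map_inv, he, hv]
    exact inv_mem (Subgroup.mem_zpowers _)
  have hp1 : IsPGroup 3 (Subgroup.zpowers (⟨lH, hlK⟩ : K)) :=
    IsPGroup.of_card (n := 1) (by rw [Nat.card_zpowers, Subgroup.orderOf_mk, hlo, pow_one])
  have he3 : orderOf (e * lH * e⁻¹) = 3 := by rw [← MulAut.conj_apply, MulEquiv.orderOf_eq]; exact hlo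
  have hp2 : IsPGroup 3 (Subgroup.zpowers (⟨e * lH * e⁻¹, heK⟩ : K)) :=
    IsPGroup.of_card (n := 1) (by rw [Nat.card_zpowers, Subgroup.orderOf_mk, he3, pow_one])
  obtain ⟨S, hS⟩ := hp1.exists_le_sylow
  obtain ⟨T, hT⟩ := hp2.exists_le_sylow
  obtain ⟨q, hq⟩ := MulAction.exists_smul_eq K T S
  have hScard : Nat.card (S : Subgroup K) ≤ 3 := by
    obtain ⟨j, hj⟩ := IsPGroup.iff_card.mp S.2
    have hd : Nat.card (S : Subgroup K) ∣ 1920 := by
      refine (Subgroup.card_subgroup_dvd_card _).trans ?_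
      rw [← h.card_H]; exact Subgroup.card_subgroup_dvd_card K
    rw [hj] at hd ⊢
    rcases (show j = 0 ∨ j = 1 ∨ 2 ≤ j by omega) with rfl | rfl | h2
    · norm_num
    · norm_num
    · exfalso
      have : 3 ^ 2 ∣ 1920 := (Nat.pow_dvd_pow 3 h2).trans hd
      norm_num at this
  have hSl : (S : Subgroup K) = Subgroup.zpowers (⟨lH, hlK⟩ : K) :=
    (Subgroup.eq_of_le_of_card_ge hS (by rw [Nat.card_zpowers, Subgroup.orderOf_mk, hlo]; exact hScard)).symm
  have hmem : q * ⟨e * lH * e⁻¹, heK⟩ * q⁻¹ ∈ Subgroup.zpowers (⟨lH, hlK⟩ : K) := by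
    rw [← hSl, ← hq, Sylow.smul_def, Sylow.pointwise_smul_def]
    exact Subgroup.smul_mem_pointwise_smul _ (MulAut.conj q) _ (hT (Subgroup.mem_zpowers _))
  obtain ⟨k, hk⟩ := Subgroup.mem_zpowers_iff.mp hmem
  have hk' : lH ^ k = (q : C) * (e * lH * e⁻¹) * (q : C)⁻¹ := by simpa using congrArg Subtype.val hk
  refine ⟨((q : C) : G) * (e : G), ?_⟩
  have hπk : π lH ^ k = (π lH)⁻¹ := by
    obtain ⟨i, hi⟩ := Subgroup.mem_zpowers_iff.mp (q.2 : π (q : C) ∈ Subgroup.zpowers (π lH))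
    rw [← map_zpow, hk', map_mul, map_mul, map_inv, map_mul, map_mul, map_inv, he, hv, ← hi]
    group
  have hk3 : (3 : ℤ) ∣ k + 1 := by
    have h1 := orderOf_dvd_iff_zpow_eq_one.mpr (show (π lH) ^ (k + 1) = 1 by
      rw [zpow_add, zpow_one, hπk, inv_mul_cancel])
    rw [ho] at h1; exact_mod_cast h1
  obtain ⟨j, hj⟩ := hk3
  have hlk : lH ^ k = lH⁻¹ := by
    rw [show k = 3 * j + (-1) by omega, zpow_add, zpow_mul, zpow_neg_one,
      show lH ^ (3 : ℤ) = 1 by rw [show (3 : ℤ) = ((3 : ℕ) : ℤ) from rfl, zpow_natCast, ← hlo, pow_orderOf_eq_one],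
      one_zpow, one_mul]
  have := congrArg Subtype.val (hlk ▸ hk')
  calc ((q : C) : G) * (e : G) * l * (((q : C) : G) * (e : G))⁻¹
      = ((q : C) : G) * ((e : G) * l * (e : G)⁻¹) * ((q : C) : G)⁻¹ := by group
    _ = l⁻¹ := by simpa [lH] using this.symm

end HJ

end Cfsg.Agent.J2Order38
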