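import Cfsg.Agent.J2Order38.ThreeH
import Cfsg.Agent.J2Order38.ThreeA
import Cfsg.Agent.J2Order38.FiveSylow
import Cfsg.Agent.J2Order38.Extra27

/-!
Sylow 3-subgroups and the classes of elements of order three.
-/

set_option autoImplicit false

namespace Cfsg.Agent.J2Order38

open Subgroup

variable {G : Type*} [Group G] [Finite G]

/-- The facts about elements of order three. -/
structure ThreeResult (G : Type*) [Group G] : Prop where
  extraspecial : ∀ P : Sylow 3 G, Cfsg.IsExtraspecial 3 (P : Subgroup G)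
  card_sylow : ∀ P : Sylow 3 G, Nat.card (P : Subgroup G) = 27
  card_norm : ∀ P : Sylow 3 G, Nat.card ↥(Subgroup.normalizer ((P : Subgroup G) : Set G)) = 216
  reps : ∃ a b : G, orderOf a = 3 ∧ orderOf b = 3 ∧ ¬ IsConj a b ∧
    Nat.card ↥(Subgroup.centralizer ({a} : Set G)) = 1080 ∧
    Nat.card ↥(Subgroup.centralizer ({b} : Set G)) = 36 ∧
    ∀ c : G, orderOf c = 3 → IsConj c a ∨ IsConj c b

namespace HJG

variable {z t : G} {Q : Subgroup G}

/-- The element `x` of order five in `M` is not conjugate to its square. -/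
theorem not_conj_sq (D : HJG z Q t) {x : G} (A : FiveAData z t x) : ¬ IsConj x (x ^ 2) := by
  have hzt := D.pair.ne
  have hz := D.pair.hj.z_order
  obtain ⟨x0, y0, A0, B0, hx0, -, hall⟩ := D.fiveResult.reps
  obtain ⟨s, hs, hys⟩ := B0.invol
  have hnoty : ∀ k : ℕ, ¬ IsConj (y0 ^ k) x := by
    intro k hk
    obtain ⟨g, hg⟩ := isConj_iff.mp hk
    have hy : orderOf (y0 ^ k) = 5 := by
      rw [← A.order, ← hg, ← MulAut.conj_apply, MulEquiv.orderOf_eq]
    exact A.not_conj hzt hz hs (hys.pow_left k) hy g (hg ▸ Subgroup.mem_zpowers x)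
  have hsq : ∀ {a b : G}, IsConj a b → IsConj (a ^ 2) (b ^ 2) := fun h => by
    obtain ⟨g, rfl⟩ := isConj_iff.mp h
    exact isConj_iff.mpr ⟨g, by rw [conj_pow]⟩
  intro hcj
  rcases hall x A.order with h | h | h | h
  · exact hx0 ((h.trans hcj).trans (hsq h).symm)
  · have h4 : IsConj (x0 ^ 2) ((x0 ^ 2) ^ 2) := (h.trans hcj).trans (hsq h).symm
    obtain ⟨g, hg⟩ := isConj_iff.mp h4
    refine hx0 (isConj_iff.mpr ⟨g, ?_⟩)
    have h5 : x0 ^ 5 = 1 := orderOf_dvd_iff_pow_eq_one.mp (dvd_of_eq A0.order)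
    calc g * x0 * g⁻¹ = g * ((x0 ^ 2) ^ 3) * g⁻¹ := by
          rw [← pow_mul, show 2 * 3 = 5 + 1 from rfl, pow_succ, h5, one_mul]
      _ = (g * x0 ^ 2 * g⁻¹) ^ 3 := by rw [conj_pow]
      _ = x0 ^ 12 := by rw [hg, ← pow_mul, ← pow_mul]
      _ = x0 ^ 2 := by
          rw [show 12 = 5 * 2 + 2 from rfl, pow_add, pow_mul, h5, one_pow, one_mul]
  · exact hnoty 1 (by rwa [pow_one])
  · exact hnoty 2 h

theorem exists_conj_mem_sylow {p : ℕ} [Fact p.Prime] (P : Sylow p G) {c : G} (hc : orderOf c = p) :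
    ∃ g : G, g * c * g⁻¹ ∈ (P : Subgroup G) := by
  have hp : IsPGroup p (Subgroup.zpowers c) :=
    IsPGroup.of_card (n := 1) (by rw [Nat.card_zpowers, hc, pow_one])
  obtain ⟨P', hP'⟩ := hp.exists_le_sylow
  obtain ⟨g, hg⟩ := MulAction.exists_smul_eq G P' P
  refine ⟨g, ?_⟩
  rw [← hg, Sylow.smul_def, Sylow.pointwise_smul_def]
  exact Subgroup.smul_mem_pointwise_smul _ (MulAut.conj g) _ (hP' (Subgroup.mem_zpowers c))

theorem threeResult (D : HJG z Q t) : ThreeResult G := by
  classical
  haveI := fact_three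
  have hG := D.card
  have hz := D.pair.hj.z_order
  have hzt := D.pair.ne
  have H := D.pair.hj
  obtain ⟨V, M, T⟩ := D.exists_split
  obtain ⟨L, NS⟩ := T.exists_nsplit D.pair.outer.order
  obtain ⟨φ⟩ := T.alt
  obtain ⟨x, hxM⟩ := T.exists_fiveA
  have A := T.fiveAData NS hG hxM
  have R5 := D.fiveResult
  have hxsq := D.not_conj_sq A
  obtain ⟨w, hwM⟩ := T.exists_threeA
  have AW := T.threeAData NS hwM
  obtain ⟨l0, hl0⟩ := exists_prime_orderOf_dvd_card' (G := L) 3 (by rw [NS.card_L]; norm_num)
  obtain ⟨l, hlL, hl⟩ : ∃ l ∈ L, orderOf l = 3 := ⟨l0, l0.2, by rw [Subgroup.orderOf_coe]; exact hl0⟩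
  have hlM : ∀ m ∈ M, Commute l m := fun m hm => NS.comm l hlL m hm
  have hzM : z ∈ M := T.class_mem z (IsConj.refl z) D.pair.outer.comm.symm
  have hzl : Commute z l := (hlM z hzM).symm
  have hlM' : l ∉ M := fun hm => by
    have := Subgroup.mem_inf.mpr ⟨hlL, hm⟩
    rw [NS.inf, Subgroup.mem_bot] at this
    rw [this, orderOf_one] at hl; omega
  have hl3 : l ^ 3 = 1 := orderOf_dvd_iff_pow_eq_one.mp (dvd_of_eq hl)
  have hw3 : w ^ 3 = 1 := orderOf_dvd_iff_pow_eq_one.mp (dvd_of_eq AW.order)
  -- `C(x) ∩ C(l)` has at most fifteen elements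
  set Cl := Subgroup.centralizer ({l} : Set G) with hCl
  have memCl : ∀ a, a ∈ Cl ↔ Commute l a := fun a => by
    rw [hCl, Subgroup.mem_centralizer_singleton_iff]; exact ⟨fun h => h.symm, fun h => h.symm⟩
  set Cx := Subgroup.centralizer ({x} : Set G) with hCx
  obtain ⟨π, hπs, hπ⟩ : ∃ π : Cx →* alternatingGroup (Fin 5),
    Function.Surjective π ∧ ∀ y, π y = 1 ↔ (y : G) ∈ Subgroup.zpowers x := A.quot
  have hlCx : l ∈ Cx := Subgroup.mem_centralizer_singleton_iff.mpr (hlM x hxM.mem).eq
  have hxl : Commute x l := (hlM x hxM.mem).symm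
  have hlo : orderOf (π ⟨l, hlCx⟩) = 3 := by
    refine orderOf_eq_prime ?_ fun e => ?_
    · rw [← map_pow, show (⟨l, hlCx⟩ : Cx) ^ 3 = 1 from Subtype.ext hl3, map_one]
    · obtain ⟨k, hk⟩ := Subgroup.mem_zpowers_iff.mp ((hπ _).mp e)
      have hk' : x ^ k = l := hk
      exact hlM' (by rw [← hk']; exact Subgroup.zpow_mem M hxM.mem k)
  have hxlcard : Nat.card ↥(Cx ⊓ Cl) ≤ 15 := by
    have hle : Nat.card ↥(Cx ⊓ Cl) ≤ Nat.card ↥((Subgroup.zpowers (π ⟨l, hlCx⟩)).comap π) := by
      refine Nat.card_le_card_of_injective (fun a => ⟨⟨(a : G), (Subgroup.mem_inf.mp a.2).1⟩, ?_⟩) ?_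
      · rw [Subgroup.mem_comap, ← A5.three_cent hlo, Subgroup.mem_centralizer_singleton_iff, ← map_mul,
          ← map_mul]
        exact congrArg π (Subtype.ext ((memCl _).mp (Subgroup.mem_inf.mp a.2).2).eq.symm)
      · intro a b e
        exact Subtype.ext (congrArg
          (fun c : ↥((Subgroup.zpowers (π ⟨l, hlCx⟩)).comap π) => ((c : Cx) : G)) e)
    refine hle.trans ?_
    have h1 := ((Subgroup.zpowers (π ⟨l, hlCx⟩)).comap π).card_mul_index
    rw [Subgroup.index_comap_of_surjective _ hπs, A.card] at h1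
    have h2 := (Subgroup.zpowers (π ⟨l, hlCx⟩)).card_mul_index
    rw [A5.card_eq, Nat.card_zpowers, hlo] at h2
    have h20 : (Subgroup.zpowers (π ⟨l, hlCx⟩)).index = 20 := by omega
    rw [h20] at h1
    omega
  have hS3 : ∀ S : Sylow 3 Cx, Nat.card (S : Subgroup Cx) = 3 := fun S => by
    rw [Sylow.card_eq_multiplicity, A.card, show (300 : ℕ) = 3 ^ 1 * 100 by norm_num,
      Nat.factorization_mul_apply_of_coprime (by norm_num), Nat.Prime.factorization_pow (by norm_num),
      Nat.factorization_eq_zero_of_not_dvd (show ¬ (3 : ℕ) ∣ 100 by norm_num)]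
    simp
  -- `|C(w)| = 36`
  have hw36 : Nat.card ↥(Subgroup.centralizer ({w} : Set G)) = 36 := by
    refine AW.card.resolve_right fun h180 => ?_
    obtain ⟨u0, hu0⟩ := exists_prime_orderOf_dvd_card' (G := Subgroup.centralizer ({w} : Set G)) 5
      (by rw [h180]; norm_num)
    have huo : orderOf (u0 : G) = 5 := by rw [Subgroup.orderOf_coe]; exact hu0
    have huw : Commute (u0 : G) w := Subgroup.mem_centralizer_singleton_iff.mp u0.2
    obtain ⟨x1, y1, A1, B1, -, -, hall⟩ := R5.reps
    -- either `u0` has a small centralizer or it is of the first kind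
    have hB : ∀ y : G, IsConj y (u0 : G) → Nat.card ↥(Subgroup.centralizer ({y} : Set G)) ≠ 50 := by
      intro y hy hc
      obtain ⟨g, hg⟩ := isConj_iff.mp hy
      have h3 : 3 ∣ Nat.card ↥(Subgroup.centralizer ({(u0 : G)} : Set G)) := by
        have := orderOf_dvd_natCard (⟨w, Subgroup.mem_centralizer_singleton_iff.mpr huw.eq.symm⟩ :
          Subgroup.centralizer ({(u0 : G)} : Set G))
        rwa [Subgroup.orderOf_mk, AW.order] at this
      rw [← hg, card_cent_conj, hc] at h3
      norm_num at h3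
    have hsqc : ∀ a : G, orderOf a = 5 →
        Subgroup.centralizer ({a ^ 2} : Set G) = Subgroup.centralizer ({a} : Set G) := by
      intro a ha
      ext n
      rw [Subgroup.mem_centralizer_singleton_iff, Subgroup.mem_centralizer_singleton_iff]
      have e1 : (a ^ 2) ^ 3 = a := by
        rw [← pow_mul, show 2 * 3 = 5 + 1 from rfl, pow_succ,
          orderOf_dvd_iff_pow_eq_one.mp (dvd_of_eq ha), one_mul]
      constructor
      · intro hm
        have := (show Commute n (a ^ 2) from hm).pow_right 3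
        rwa [e1] at this
      · intro hm
        exact ((show Commute n a from hm).pow_right 2).eq
    -- so a conjugate of `w` centralizes `x`
    obtain ⟨g, hgw⟩ : ∃ g : G, Commute (g * w * g⁻¹) x := by
      have hstep : ∀ a : G, IsConj a (u0 : G) → ∃ g : G, Commute (g * w * g⁻¹) a := by
        intro a ha
        obtain ⟨g, hg⟩ := isConj_iff.mp ha.symm
        exact ⟨g, hg ▸ conj_commute huw.symm g⟩
      obtain ⟨s1, hs1, hys1⟩ := B1.invol
      have hx1 : ∀ a : G, orderOf a = 5 → IsConj a (u0 : G) ∨ IsConj (a ^ 2) (u0 : G) →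
          ∃ g : G, Commute (g * w * g⁻¹) a := by
        rintro a ha (h | h)
        · exact hstep a h
        · obtain ⟨g, hg⟩ := hstep _ h
          refine ⟨g, ?_⟩
          have h2 : g * w * g⁻¹ ∈ Subgroup.centralizer ({a ^ 2} : Set G) :=
            Subgroup.mem_centralizer_singleton_iff.mpr hg.eq
          rw [hsqc a ha] at h2
          exact Subgroup.mem_centralizer_singleton_iff.mp h2
      obtain ⟨g, hg⟩ : ∃ g : G, Commute (g * w * g⁻¹) x1 := by
        rcases hall _ huo with h | h | h | h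
        · exact hx1 x1 A1.order (Or.inl h)
        · exact hx1 x1 A1.order (Or.inr h)
        · exact absurd B1.card (hB _ h)
        · exact absurd (by rw [hsqc y1 B1.order]; exact B1.card) (hB _ h)
      -- move `x1` to `x`
      have hxx : ∃ d : G, d * x1 * d⁻¹ = x ∨ (d * x1 * d⁻¹) ^ 2 = x := by
        rcases hall x A.order with h | h | h | h
        · obtain ⟨d, hd⟩ := isConj_iff.mp h; exact ⟨d, Or.inl hd⟩
        · obtain ⟨d, hd⟩ := isConj_iff.mp h; exact ⟨d, Or.inr (by rw [conj_pow, hd])⟩
        · exfalso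
          obtain ⟨d, hd⟩ := isConj_iff.mp h
          exact A.not_conj hzt hz hs1 hys1 B1.order d (hd ▸ Subgroup.mem_zpowers x)
        · exfalso
          obtain ⟨d, hd⟩ := isConj_iff.mp h
          exact A.not_conj hzt hz hs1 (hys1.pow_left 2)
            (by rw [orderOf_pow, B1.order]; norm_num) d (hd ▸ Subgroup.mem_zpowers x)
      obtain ⟨d, hd⟩ := hxx
      refine ⟨d * g, ?_⟩
      have h1 : Commute (d * g * w * (d * g)⁻¹) (d * x1 * d⁻¹) := by
        have := conj_commute hg d
        simpa [mul_assoc] using this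
      rcases hd with e | e
      · exact e ▸ h1
      · exact e ▸ h1.pow_right 2
    let wc : Cx := ⟨g * w * g⁻¹, Subgroup.mem_centralizer_singleton_iff.mpr hgw.eq⟩
    have hwco : orderOf wc = 3 := by
      rw [Subgroup.orderOf_mk, ← MulAut.conj_apply, MulEquiv.orderOf_eq]; exact AW.order
    have hlco : orderOf (⟨l, hlCx⟩ : Cx) = 3 := by rw [Subgroup.orderOf_mk]; exact hl
    have hp1 : IsPGroup 3 (Subgroup.zpowers wc) :=
      IsPGroup.of_card (n := 1) (by rw [Nat.card_zpowers, hwco, pow_one])
    have hp2 : IsPGroup 3 (Subgroup.zpowers (⟨l, hlCx⟩ : Cx)) :=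
      IsPGroup.of_card (n := 1) (by rw [Nat.card_zpowers, hlco, pow_one])
    obtain ⟨S1, hS1⟩ := hp1.exists_le_sylow
    obtain ⟨S2, hS2⟩ := hp2.exists_le_sylow
    obtain ⟨c, hc⟩ := MulAction.exists_smul_eq Cx S1 S2
    have heq : (S2 : Subgroup Cx) = Subgroup.zpowers (⟨l, hlCx⟩ : Cx) :=
      (Subgroup.eq_of_le_of_card_ge hS2 (by rw [hS3, Nat.card_zpowers, hlco])).symm
    have hm : c * wc * c⁻¹ ∈ Subgroup.zpowers (⟨l, hlCx⟩ : Cx) := by
      rw [← heq, ← hc, Sylow.smul_def, Sylow.pointwise_smul_def]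
      exact Subgroup.smul_mem_pointwise_smul _ (MulAut.conj c) _ (hS1 (Subgroup.mem_zpowers _))
    obtain ⟨k, hk⟩ := Subgroup.mem_zpowers_iff.mp hm
    have hk' : ((c : G) * g) * w * ((c : G) * g)⁻¹ = l ^ k := by
      have := congrArg Subtype.val hk
      simp only [SubgroupClass.coe_zpow, Subgroup.coe_mul, Subgroup.coe_inv, wc] at this
      rw [this]; group
    set d := (c : G) * g
    have hcw : Commute w (d⁻¹ * z * d) := by
      have h1 : Commute (d * w * d⁻¹) z := hk' ▸ hzl.symm.zpow_left k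
      have := conj_commute h1 d⁻¹
      simpa [mul_assoc] using this
    have hso : orderOf (d⁻¹ * z * d) = 2 := by
      rw [show d⁻¹ * z * d = MulAut.conj d⁻¹ z by simp, MulEquiv.orderOf_eq, hz]
    exact hzt ((AW.invol _ hso hcw).trans (isConj_iff.mpr ⟨d, by group⟩)).symm
  -- facts inside `Cl`
  have hMCl : M ≤ Cl := fun m hm => (memCl m).mpr (hlM m hm)
  have hlCl : l ∈ Cl := (memCl l).mpr (Commute.refl l)
  let xC : Cl := ⟨x, hMCl hxM.mem⟩
  have hxo : orderOf xC = 5 := by rw [Subgroup.orderOf_mk]; exact A.order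
  set S5 := Subgroup.normalizer ((Subgroup.zpowers xC : Subgroup Cl) : Set Cl) with hS5
  have hM60 : Nat.card M = 60 := by rw [Nat.card_congr φ.toEquiv, A5.card_eq]
  have h360 : 360 ∣ Nat.card Cl := by
    have h180 : 180 ∣ Nat.card Cl := by
      obtain ⟨e⟩ := prod_nonempty_equiv (A := Subgroup.zpowers l) (B := M)
        (fun a ha b hb => by
          obtain ⟨k, rfl⟩ := Subgroup.mem_zpowers_iff.mp ha
          exact (hlM b hb).zpow_left k) ((Subgroup.eq_bot_iff_forall _).mpr fun a ha => by
          obtain ⟨ha1, ha2⟩ := Subgroup.mem_inf.mp ha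
          have hle : Subgroup.zpowers l ≤ L := Subgroup.zpowers_le.mpr hlL
          have := Subgroup.mem_inf.mpr ⟨hle ha1, ha2⟩
          rwa [NS.inf, Subgroup.mem_bot] at this)
      have hc := Nat.card_congr e.toEquiv
      rw [Nat.card_prod, Nat.card_zpowers, hl, hM60] at hc
      have hle : Subgroup.zpowers l ⊔ M ≤ Cl := sup_le (Subgroup.zpowers_le.mpr hlCl) hMCl
      rw [show (180 : ℕ) = 3 * 60 by norm_num, hc]; exact Subgroup.card_dvd_of_le hle
    have h24 : 24 ∣ Nat.card Cl := by
      rw [← H.three_inter hzl hl]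
      exact Subgroup.card_dvd_of_le inf_le_right
    exact (show 360 = Nat.lcm 180 24 by rfl) ▸ Nat.lcm_dvd h180 h24
  have h25 : ¬ 25 ∣ Nat.card Cl := by
    intro h25
    obtain ⟨R, hR⟩ := Sylow.exists_subgroup_card_pow_prime 5 (show 5 ^ 2 ∣ Nat.card Cl from h25)
    have hRc : Nat.card (R.map Cl.subtype) = 25 := by
      rw [Subgroup.card_map_of_injective Cl.subtype_injective, hR]; norm_num
    obtain ⟨P, hP⟩ := (IsPGroup.of_card (p := 5) (n := 2) (G := ↥(R.map Cl.subtype))
      (by rw [hRc]; norm_num)).exists_le_sylow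
    have hPeq : R.map Cl.subtype = P := Subgroup.eq_of_le_of_card_ge hP (by rw [hRc, R5.card_sylow P])
    have hmem : l ∈ Subgroup.centralizer ((P : Subgroup G) : Set G) :=
      Subgroup.mem_centralizer_iff.mpr fun p hp => by
        rw [← hPeq] at hp
        obtain ⟨r, -, rfl⟩ := hp
        exact ((memCl _).mp r.2).eq.symm
    rw [R5.self_cent P] at hmem
    have := orderOf_dvd_natCard (⟨l, hmem⟩ : (P : Subgroup G))
    rw [Subgroup.orderOf_mk, hl, R5.card_sylow P] at this
    norm_num at this
  have hS30 : Nat.card S5 = 30 := by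
    let xS : S5 := ⟨xC, Subgroup.le_normalizer (Subgroup.mem_zpowers xC)⟩
    have hcent : Nat.card ↥(Subgroup.centralizer ({xS} : Set S5)) = 15 := by
      refine le_antisymm ?_ ?_
      · refine le_trans ?_ hxlcard
        refine Nat.card_le_card_of_injective (fun a => ⟨(((a.1 : S5) : Cl) : G), Subgroup.mem_inf.mpr
          ⟨Subgroup.mem_centralizer_singleton_iff.mpr (congrArg (fun b : S5 => ((b : Cl) : G))
            (Subgroup.mem_centralizer_singleton_iff.mp a.2)), (a.1 : S5).1.2⟩⟩) ?_
        intro a b e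
        exact Subtype.ext (Subtype.ext (Subtype.ext (congrArg (fun c : ↥(Cx ⊓ Cl) => (c : G)) e)))
      · let lC : Cl := ⟨l, hlCl⟩
        have hlS : lC ∈ S5 := mem_normalizer_of_map fun q hq => by
          obtain ⟨k, rfl⟩ := Subgroup.mem_zpowers_iff.mp hq
          rw [((show Commute lC xC from Subtype.ext hxl.eq.symm).zpow_right k).eq, mul_inv_cancel_right]
          exact ⟨k, rfl⟩
        let lS : S5 := ⟨lC, hlS⟩
        have hx' : xS ∈ Subgroup.centralizer ({xS} : Set S5) := Subgroup.mem_centralizer_singleton_iff.mpr rfl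
        have hl' : lS ∈ Subgroup.centralizer ({xS} : Set S5) := Subgroup.mem_centralizer_singleton_iff.mpr
          (Subtype.ext (Subtype.ext hxl.eq.symm))
        have d5 := orderOf_dvd_natCard (⟨xS, hx'⟩ : Subgroup.centralizer ({xS} : Set S5))
        have d3 := orderOf_dvd_natCard (⟨lS, hl'⟩ : Subgroup.centralizer ({xS} : Set S5))
        rw [Subgroup.orderOf_mk, Subgroup.orderOf_mk] at d5 d3
        rw [hxo] at d5
        rw [show orderOf lC = 3 by rw [Subgroup.orderOf_mk]; exact hl] at d3
        exact Nat.le_of_dvd Nat.card_pos (Nat.Coprime.mul_dvd_of_dvd_of_dvd (by norm_num : Nat.Coprime 5 3) d5 d3)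
    have hcls : Nat.card {b : S5 // IsConj xS b} = 2 := by
      obtain ⟨v, -, hv⟩ := A5.five_inv (φ ⟨x, hxM.mem⟩) (A5.five_of_order (by
        rw [MulEquiv.orderOf_eq, Subgroup.orderOf_mk]; exact A.order))
      have hvx : ((φ.symm v : M) : G) * x * ((φ.symm v : M) : G)⁻¹ = x⁻¹ := by
        have h1 := congrArg φ.symm hv
        rw [map_mul, map_mul, map_inv, map_inv, φ.symm_apply_apply] at h1
        exact congrArg Subtype.val h1
      let vC : Cl := ⟨_, hMCl (φ.symm v).2⟩
      have hvC : vC * xC * vC⁻¹ = xC⁻¹ := Subtype.ext hvx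
      have hvS : vC ∈ S5 := mem_normalizer_of_map fun q hq => by
        obtain ⟨k, rfl⟩ := Subgroup.mem_zpowers_iff.mp hq
        rw [← conj_zpow, hvC]
        exact Subgroup.zpow_mem _ (inv_mem (Subgroup.mem_zpowers _)) k
      have hx5 : x ^ 5 = 1 := orderOf_dvd_iff_pow_eq_one.mp (dvd_of_eq A.order)
      have hinv : x⁻¹ = x ^ 4 := inv_eq_of_mul_eq_one_right (by rw [← pow_succ']; exact hx5)
      have hval : ∀ b : {b : S5 // IsConj xS b}, (((b.1 : S5) : Cl) : G) = x ∨
          (((b.1 : S5) : Cl) : G) = x⁻¹ := by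
        rintro ⟨b, hb⟩
        obtain ⟨d, hd⟩ := isConj_iff.mp hb
        have hd' : ((d : Cl) : G) * x * ((d : Cl) : G)⁻¹ = ((b : Cl) : G) :=
          congrArg (fun c : S5 => ((c : Cl) : G)) hd
        have hm : (b : Cl) ∈ Subgroup.zpowers xC := by
          rw [← hd]
          exact (Subgroup.mem_normalizer_iff.mp d.2 xC).mp (Subgroup.mem_zpowers xC)
        rw [mem_zpowers_iff_mem_range_orderOf, hxo, Finset.mem_image] at hm
        obtain ⟨k, hk, hk'⟩ := hm
        have hk2 : x ^ k = ((b : Cl) : G) := congrArg Subtype.val hk'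
        rw [Finset.mem_range] at hk
        interval_cases k
        · exfalso
          rw [pow_zero] at hk2
          rw [← hk2, conj_eq_one_iff] at hd'
          have := A.order
          rw [hd', orderOf_one] at this; omega
        · exact Or.inl (by rw [← hk2, pow_one])
        · exact absurd (isConj_iff.mpr ⟨_, hd'.trans hk2.symm⟩) hxsq
        · exfalso
          refine hxsq (isConj_iff.mpr ⟨((d : Cl) : G) * (((d : Cl) : G) * ((d : Cl) : G)), ?_⟩)
          set dd := ((d : Cl) : G)
          have e1 : dd * x * dd⁻¹ = x ^ 3 := hd'.trans hk2.symm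
          calc dd * (dd * dd) * x * (dd * (dd * dd))⁻¹ = dd * (dd * (dd * x * dd⁻¹) * dd⁻¹) * dd⁻¹ := by group
            _ = x ^ 27 := by rw [e1, ← conj_pow, e1, ← pow_mul, ← conj_pow, e1, ← pow_mul]
            _ = x ^ 2 := by rw [show 27 = 5 * 5 + 2 from rfl, pow_add, pow_mul, hx5, one_pow, one_mul]
        · exact Or.inr (by rw [← hk2, hinv])
      refine le_antisymm ?_ ?_
      · let f : {b : S5 // IsConj xS b} → Fin 2 := fun b => if (((b.1 : S5) : Cl) : G) = x then 0 else 1
        have hf : Function.Injective f := by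
          intro a b e
          refine Subtype.ext (Subtype.ext (Subtype.ext ?_))
          rcases hval a with ha | ha <;> rcases hval b with hb | hb
          · rw [ha, hb]
          · by_cases hne : x⁻¹ = x
            · rw [ha, hb, hne]
            · simp [f, ha, hb, hne] at e
          · by_cases hne : x⁻¹ = x
            · rw [ha, hb, hne]
            · simp [f, ha, hb, hne] at e
          · rw [ha, hb]
        simpa using Nat.card_le_card_of_injective f hf
      · have hne : x⁻¹ ≠ x := fun e => by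
          have h2 : x ^ 2 = 1 := by rw [pow_two]; nth_rewrite 1 [← e]; exact inv_mul_cancel x
          have := orderOf_dvd_of_pow_eq_one h2
          rw [A.order] at this; norm_num at this
        let k2 : Fin 2 → {b : S5 // IsConj xS b} := ![⟨xS, IsConj.refl _⟩,
          ⟨(⟨vC, hvS⟩ : S5) * xS * (⟨vC, hvS⟩ : S5)⁻¹, isConj_iff.mpr ⟨⟨vC, hvS⟩, rfl⟩⟩]
        have hk : Function.Injective k2 := by
          intro a b e
          have e' := congrArg (fun c : {b : S5 // IsConj xS b} => (((c.1 : S5) : Cl) : G)) e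
          fin_cases a <;> fin_cases b
          · rfl
          · exact absurd (show x = x⁻¹ from e'.trans hvx).symm hne
          · exact absurd (show x⁻¹ = x from hvx.symm.trans e') hne
          · rfl
        simpa using Nat.card_le_card_of_injective k2 hk
    have h1 := S1875.card_class xS
    rw [hcls, hcent] at h1
    omega
  have hn5 : ∃ n, 30 * n = Nat.card Cl ∧ n % 5 = 1 := by
    have hp : IsPGroup 5 (Subgroup.zpowers xC) :=
      IsPGroup.of_card (n := 1) (by rw [Nat.card_zpowers, hxo, pow_one])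
    obtain ⟨P5, hP5⟩ := hp.exists_le_sylow
    have heq : Subgroup.zpowers xC = P5 := by
      refine Subgroup.eq_of_le_of_card_ge hP5 ?_
      obtain ⟨j, hj⟩ := IsPGroup.iff_card.mp P5.2
      rw [Nat.card_zpowers, hxo, hj]
      rcases (show j ≤ 1 ∨ 2 ≤ j by omega) with h | h
      · calc 5 ^ j ≤ 5 ^ 1 := Nat.pow_le_pow_right (by norm_num) h
          _ = 5 := by norm_num
      · exfalso
        refine h25 ?_
        have h2 : 5 ^ 2 ∣ Nat.card (P5 : Subgroup Cl) := hj ▸ Nat.pow_dvd_pow 5 h
        exact (show (25 : ℕ) = 5 ^ 2 by norm_num) ▸ h2.trans (Subgroup.card_subgroup_dvd_card _)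
    refine ⟨Nat.card (Sylow 5 Cl), ?_, ?_⟩
    · rw [show Nat.card (Sylow 5 Cl) = S5.index by rw [Sylow.card_eq_index_normalizer P5, hS5, heq]; rfl,
        ← hS30]
      exact S5.card_mul_index
    · exact card_sylow_modEq_one 5 Cl
  have hl1080 : Nat.card Cl = 1080 := by
    obtain ⟨n, hn, hn1⟩ := hn5
    obtain ⟨k, hk⟩ := h360
    have hdvd : Nat.card Cl ∣ 604800 := hG ▸ Subgroup.card_subgroup_dvd_card Cl
    have h16 : ¬ 16 ∣ Nat.card Cl := H.three_not_sixteen hzl hl
    rw [hk] at hdvd h16 hn h25 ⊢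
    have hk1680 : k ∣ 1680 := Nat.dvd_of_mul_dvd_mul_left (by norm_num : 0 < 360)
      (by rw [show 360 * 1680 = 604800 by norm_num]; exact hdvd)
    have hodd : ¬ 2 ∣ k := fun h2 => h16 (by
      obtain ⟨j, rfl⟩ := h2
      exact ⟨45 * j, by ring⟩)
    have hn5' : ¬ 5 ∣ k := fun h5 => h25 (by
      obtain ⟨j, rfl⟩ := h5
      exact ⟨72 * j, by ring⟩)
    have hk21 : k ∣ 21 := by
      have h1 : Nat.Coprime k 80 := by
        have a2 : Nat.Coprime k 2 := (Nat.prime_two.coprime_iff_not_dvd.mpr hodd).symm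
        have a5 : Nat.Coprime k 5 := (Nat.prime_five.coprime_iff_not_dvd.mpr hn5').symm
        exact (show 80 = 2 ^ 4 * 5 by norm_num) ▸ (a2.pow_right 4).mul_right a5
      exact h1.dvd_of_dvd_mul_left (by rw [show 80 * 21 = 1680 by norm_num]; exact hk1680)
    have hk' : k ∈ Nat.divisors 21 := Nat.mem_divisors.mpr ⟨hk21, by norm_num⟩
    rw [show Nat.divisors 21 = {1, 3, 7, 21} by decide] at hk'
    simp only [Finset.mem_insert, Finset.mem_singleton] at hk'
    rcases hk' with rfl | rfl | rfl | rfl <;> omega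
  -- a Sylow subgroup of `Cl` containing `l` and `w`
  let lC : Cl := ⟨l, hlCl⟩
  let wC : Cl := ⟨w, hMCl hwM.mem⟩
  obtain ⟨e1⟩ := prod_nonempty_equiv (A := Subgroup.zpowers lC) (B := Subgroup.zpowers wC)
    (fun a ha b hb => by
      obtain ⟨i, rfl⟩ := Subgroup.mem_zpowers_iff.mp ha
      obtain ⟨j, rfl⟩ := Subgroup.mem_zpowers_iff.mp hb
      exact ((show Commute lC wC from Subtype.ext (hlM w hwM.mem).eq).zpow_left i).zpow_right j)
    ((Subgroup.eq_bot_iff_forall _).mpr fun a ha => by
      obtain ⟨ha1, ha2⟩ := Subgroup.mem_inf.mp ha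
      obtain ⟨i, hi⟩ := Subgroup.mem_zpowers_iff.mp ha1
      obtain ⟨j, hj⟩ := Subgroup.mem_zpowers_iff.mp ha2
      have h1 : (a : G) ∈ L := by rw [← hi]; exact Subgroup.zpow_mem L hlL i
      have h2 : (a : G) ∈ M := by rw [← hj]; exact Subgroup.zpow_mem M hwM.mem j
      have := Subgroup.mem_inf.mpr ⟨h1, h2⟩
      rw [NS.inf, Subgroup.mem_bot] at this
      exact Subtype.ext this)
  set P1 := Subgroup.zpowers lC ⊔ Subgroup.zpowers wC with hP1
  have hP19 : Nat.card P1 = 9 := by
    rw [← Nat.card_congr e1.toEquiv, Nat.card_prod, Nat.card_zpowers, Nat.card_zpowers,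
      Subgroup.orderOf_mk, Subgroup.orderOf_mk, hl, AW.order]
  obtain ⟨S, hS⟩ := (IsPGroup.of_card (p := 3) (n := 2) (G := P1) (by rw [hP19]; norm_num)).exists_le_sylow
  have hS27 : Nat.card (S : Subgroup Cl) = 27 := by
    rw [Sylow.card_eq_multiplicity, hl1080, show (1080 : ℕ) = 3 ^ 3 * 40 by norm_num,
      Nat.factorization_mul_apply_of_coprime (by norm_num), Nat.Prime.factorization_pow (by norm_num),
      Nat.factorization_eq_zero_of_not_dvd (show ¬ (3 : ℕ) ∣ 40 by norm_num)]
    simp
  set P0 : Subgroup G := (S : Subgroup Cl).map Cl.subtype with hP0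
  have hP027 : Nat.card P0 = 27 := by rw [hP0, Subgroup.card_map_of_injective Cl.subtype_injective, hS27]
  obtain ⟨P, hP⟩ := (IsPGroup.of_card (p := 3) (n := 3) (G := P0) (by rw [hP027]; norm_num)).exists_le_sylow
  have hsyl : ∀ R : Sylow 3 G, Nat.card (R : Subgroup G) = 27 := fun R => by
    rw [Sylow.card_eq_multiplicity, hG, show (604800 : ℕ) = 3 ^ 3 * 22400 by norm_num,
      Nat.factorization_mul_apply_of_coprime (by norm_num), Nat.Prime.factorization_pow (by norm_num),
      Nat.factorization_eq_zero_of_not_dvd (show ¬ (3 : ℕ) ∣ 22400 by norm_num)]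
    simp
  have hPP : P0 = P := Subgroup.eq_of_le_of_card_ge hP (by rw [hsyl, hP027])
  have hlS : lC ∈ (S : Subgroup Cl) := hS (Subgroup.mem_sup_left (Subgroup.mem_zpowers _))
  have hwS : wC ∈ (S : Subgroup Cl) := hS (Subgroup.mem_sup_right (Subgroup.mem_zpowers _))
  have hlP : l ∈ (P : Subgroup G) := hPP ▸ ⟨lC, hlS, rfl⟩
  have hwP : w ∈ (P : Subgroup G) := hPP ▸ ⟨wC, hwS, rfl⟩
  have hlc : ∀ p ∈ (P : Subgroup G), Commute l p := fun p hp => by
    rw [← hPP] at hp
    obtain ⟨r, -, rfl⟩ := hp
    exact (memCl _).mp r.2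
  -- every Sylow subgroup is nonabelian
  have hna : ∀ R : Sylow 3 G, ¬ ∀ a b : (R : Subgroup G), Commute a b := by
    intro R hab
    obtain ⟨g, hg⟩ := exists_conj_mem_sylow R AW.order
    have hle : (R : Subgroup G) ≤ Subgroup.centralizer ({g * w * g⁻¹} : Set G) := fun r hr =>
      Subgroup.mem_centralizer_singleton_iff.mpr (congrArg Subtype.val (hab ⟨r, hr⟩ ⟨_, hg⟩).eq)
    have := Subgroup.card_dvd_of_le hle
    rw [hsyl, card_cent_conj, hw36] at this
    norm_num at this
  have hext : ∀ R : Sylow 3 G, Cfsg.IsExtraspecial 3 (R : Subgroup G) ∧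
      Nat.card ↥(Subgroup.center (R : Subgroup G)) = 3 := fun R => extraspecial_of_card (hsyl R) (hna R)
  set N := Subgroup.normalizer ((P : Subgroup G) : Set G) with hN
  -- no element of order five normalizes `P`
  have hno5 : ¬ 5 ∣ Nat.card N := by
    intro h5
    obtain ⟨u0, hu0⟩ := exists_prime_orderOf_dvd_card' (G := N) 5 h5
    have huo : orderOf (u0 : G) = 5 := by rw [Subgroup.orderOf_coe]; exact hu0
    have hu5 : (u0 : G) ^ 5 = 1 := orderOf_dvd_iff_pow_eq_one.mp (dvd_of_eq huo)
    set F := (P : Subgroup G) ⊓ Subgroup.centralizer ({(u0 : G)} : Set G) with hF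
    let σ : Equiv.Perm (P : Subgroup G) := (MulAut.conj (u0 : G)).toEquiv.subtypeEquiv fun p =>
      Subgroup.mem_normalizer_iff.mp u0.2 p
    have hit : ∀ (k : ℕ) (p : (P : Subgroup G)),
        (((σ ^ k) p : (P : Subgroup G)) : G) = (u0 : G) ^ k * p * ((u0 : G) ^ k)⁻¹ := by
      intro k
      induction k with
      | zero => intro p; simp
      | succ k ih =>
        intro p
        rw [pow_succ', Equiv.Perm.mul_apply]
        show (u0 : G) * ((σ ^ k) p : (P : Subgroup G)) * (u0 : G)⁻¹ = _
        rw [ih, pow_succ']; group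
    have hσ : σ ^ 5 = 1 := Equiv.ext fun p => Subtype.ext (by rw [hit, hu5]; simp)
    have hm := card_fixed_modEq_five σ hσ
    have e : Nat.card {p : (P : Subgroup G) // σ p = p} = Nat.card F := Nat.card_congr
      { toFun := fun p => ⟨((p.1 : (P : Subgroup G)) : G), Subgroup.mem_inf.mpr ⟨p.1.2,
          Subgroup.mem_centralizer_singleton_iff.mpr
            (mul_inv_eq_iff_eq_mul.mp (congrArg Subtype.val p.2)).symm⟩⟩
        invFun := fun p => ⟨⟨p.1, (Subgroup.mem_inf.mp p.2).1⟩, Subtype.ext
          (mul_inv_eq_iff_eq_mul.mpr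
            (Subgroup.mem_centralizer_singleton_iff.mp (Subgroup.mem_inf.mp p.2).2).symm)⟩
        left_inv := fun _ => rfl
        right_inv := fun _ => rfl }
    rw [e, hsyl] at hm
    obtain ⟨j, hj, hj'⟩ := (Nat.dvd_prime_pow Nat.prime_three).mp
      (show Nat.card F ∣ 3 ^ 3 by
        have h1 : Nat.card F ∣ Nat.card (P : Subgroup G) := Subgroup.card_dvd_of_le inf_le_left
        rw [hsyl] at h1; exact h1)
    have hF27 : Nat.card F = 27 := by
      rw [hj'] at hm ⊢
      rw [Nat.ModEq] at hm
      interval_cases j <;> omega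
    have h27 : 27 ∣ Nat.card ↥(Subgroup.centralizer ({(u0 : G)} : Set G)) :=
      hF27 ▸ Subgroup.card_dvd_of_le inf_le_right
    obtain ⟨x1, y1, A1, B1, -, -, hall⟩ := R5.reps
    have hsqc : ∀ a : G, orderOf a = 5 →
        Subgroup.centralizer ({a ^ 2} : Set G) = Subgroup.centralizer ({a} : Set G) := by
      intro a ha
      ext n
      rw [Subgroup.mem_centralizer_singleton_iff, Subgroup.mem_centralizer_singleton_iff]
      have e1 : (a ^ 2) ^ 3 = a := by
        rw [← pow_mul, show 2 * 3 = 5 + 1 from rfl, pow_succ,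
          orderOf_dvd_iff_pow_eq_one.mp (dvd_of_eq ha), one_mul]
      constructor
      · intro h'
        have := (show Commute n (a ^ 2) from h').pow_right 3
        rwa [e1] at this
      · intro h'
        exact ((show Commute n a from h').pow_right 2).eq
    have hcc : ∀ a : G, IsConj a (u0 : G) →
        27 ∣ Nat.card ↥(Subgroup.centralizer ({a} : Set G)) := fun a ha => by
      obtain ⟨d, hd⟩ := isConj_iff.mp ha
      rw [← hd, card_cent_conj] at h27; exact h27
    rcases hall _ huo with h | h | h | h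
    · have := hcc _ h; rw [A1.card] at this; norm_num at this
    · have := hcc _ h; rw [hsqc _ A1.order, A1.card] at this; norm_num at this
    · have := hcc _ h; rw [B1.card] at this; norm_num at this
    · have := hcc _ h; rw [hsqc _ B1.order, B1.card] at this; norm_num at this
  -- an involution of `Cl` normalizing `S`
  obtain ⟨v0, ⟨hv02, hv01⟩, hv0⟩ := A5.three_inv (φ ⟨w, hwM.mem⟩) (A5.three_of_order (by
    rw [MulEquiv.orderOf_eq, Subgroup.orderOf_mk]; exact AW.order))
  let vC : Cl := ⟨((φ.symm v0 : M) : G), hMCl (φ.symm v0).2⟩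
  have hvw : vC * wC * vC⁻¹ = wC⁻¹ := by
    have h1 := congrArg φ.symm hv0
    rw [map_mul, map_mul, map_inv, map_inv, φ.symm_apply_apply] at h1
    exact Subtype.ext (congrArg Subtype.val h1 :)
  have hvo : orderOf vC = 2 := by
    rw [Subgroup.orderOf_mk, Subgroup.orderOf_coe, MulEquiv.orderOf_eq]
    exact orderOf_eq_prime (by rw [pow_two]; exact hv02) hv01
  set R1 := Subgroup.normalizer ((P1 : Subgroup Cl) : Set Cl) with hR1
  have hvR : vC ∈ R1 := by
    refine mem_normalizer_of_map fun q hq => ?_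
    have hle : P1 ≤ P1.comap (MulAut.conj vC).toMonoidHom := sup_le
      (Subgroup.zpowers_le.mpr (by
        show vC * lC * vC⁻¹ ∈ P1
        rw [show vC * lC * vC⁻¹ = lC from Subtype.ext (by
          show (vC : G) * l * (vC : G)⁻¹ = l
          rw [((memCl _).mp vC.2).eq.symm, mul_inv_cancel_right])]
        exact Subgroup.mem_sup_left (Subgroup.mem_zpowers _)))
      (Subgroup.zpowers_le.mpr (by
        show vC * wC * vC⁻¹ ∈ P1
        rw [hvw]; exact inv_mem (Subgroup.mem_sup_right (Subgroup.mem_zpowers _))))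
    exact hle hq
  have hSR : (S : Subgroup Cl) ≤ R1 := by
    have hi3 : (P1.subgroupOf (S : Subgroup Cl)).index = 3 := by
      have h1 := (P1.subgroupOf (S : Subgroup Cl)).card_mul_index
      rw [Nat.card_congr (Subgroup.subgroupOfEquivOfLe hS).toEquiv, hP19, hS27] at h1
      omega
    haveI : (P1.subgroupOf (S : Subgroup Cl)).Normal := by
      refine Subgroup.normal_of_index_eq_minFac_card ?_
      rw [hi3, hS27]; norm_num
    exact (Subgroup.normal_subgroupOf_iff_le_normalizer hS).mp inferInstance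
  have hvN : vC ∈ Subgroup.normalizer ((S : Subgroup Cl) : Set Cl) := by
    let wR : R1 := ⟨wC, hSR hwS⟩
    have hcls : Nat.card {b : R1 // IsConj wR b} ≤ 6 := by
      let f : {b : R1 // IsConj wR b} → {q : P1 // ¬ (q : Cl) ∈ Subgroup.zpowers lC} := fun b =>
        ⟨⟨((b.1 : R1) : Cl), by
          obtain ⟨d, hd⟩ := isConj_iff.mp b.2
          rw [← hd]
          exact (Subgroup.mem_normalizer_iff.mp d.2 wC).mp (Subgroup.mem_sup_right (Subgroup.mem_zpowers _))⟩,
         fun hb => by
          obtain ⟨d, hd⟩ := isConj_iff.mp b.2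
          obtain ⟨i, hi⟩ := Subgroup.mem_zpowers_iff.mp hb
          have e' : (d : Cl) * wC * (d : Cl)⁻¹ = lC ^ i :=
            (congrArg (fun c : R1 => (c : Cl)) hd).trans hi.symm
          have hdl : Commute (d : Cl) lC := Subtype.ext ((memCl _).mp (d : Cl).2).eq.symm
          have hwl : (wC : Cl) = lC ^ i := by
            calc wC = (d : Cl)⁻¹ * ((d : Cl) * wC * (d : Cl)⁻¹) * (d : Cl) := by group
              _ = (d : Cl)⁻¹ * (lC ^ i * (d : Cl)) := by rw [e']; group
              _ = lC ^ i := by rw [← (hdl.zpow_right i).eq, inv_mul_cancel_left]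
          refine (show w ∉ L from fun hwL => ?_) ?_
          · have := Subgroup.mem_inf.mpr ⟨hwL, hwM.mem⟩
            rw [NS.inf, Subgroup.mem_bot] at this
            have hh := AW.order
            rw [this, orderOf_one] at hh; omega
          · rw [show w = l ^ i from congrArg Subtype.val hwl]
            exact Subgroup.zpow_mem L hlL i⟩
      have hf : Function.Injective f := fun a b e => Subtype.ext (Subtype.ext
        (congrArg (fun q : {q : P1 // ¬ (q : Cl) ∈ Subgroup.zpowers lC} => ((q.1 : P1) : Cl)) e))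
      refine (Nat.card_le_card_of_injective f hf).trans ?_
      letI := Fintype.ofFinite P1
      rw [Nat.card_eq_fintype_card, Fintype.card_subtype_compl, ← Nat.card_eq_fintype_card,
        ← Nat.card_eq_fintype_card, hP19]
      have : Nat.card {q : P1 // (q : Cl) ∈ Subgroup.zpowers lC} = 3 := by
        rw [show Nat.card {q : P1 // (q : Cl) ∈ Subgroup.zpowers lC} = Nat.card ↥((Subgroup.zpowers lC).subgroupOf P1) from rfl,
          Nat.card_congr (Subgroup.subgroupOfEquivOfLe le_sup_left).toEquiv, Nat.card_zpowers,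
          Subgroup.orderOf_mk, hl]
      omega
    have hcent : Nat.card ↥(Subgroup.centralizer ({wR} : Set R1)) ≤ 9 := by
      -- it embeds in the odd part of `C(l) ∩ C(w)`
      let K := Subgroup.centralizer ({w} : Set G) ⊓ Cl
      have hle : Nat.card ↥(Subgroup.centralizer ({wR} : Set R1)) ≤ Nat.card K := by
        refine Nat.card_le_card_of_injective (fun a => ⟨(((a.1 : R1) : Cl) : G), Subgroup.mem_inf.mpr
          ⟨Subgroup.mem_centralizer_singleton_iff.mpr (congrArg (fun b : R1 => ((b : Cl) : G))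
            (Subgroup.mem_centralizer_singleton_iff.mp a.2)), (a.1 : R1).1.2⟩⟩) ?_
        intro a b e
        exact Subtype.ext (Subtype.ext (Subtype.ext (congrArg (fun c : K => (c : G)) e)))
      refine hle.trans (Nat.le_of_dvd (by norm_num) ?_)
      have hdvd : Nat.card K ∣ 4 * 9 := by
        have := Subgroup.card_dvd_of_le (inf_le_left : K ≤ Subgroup.centralizer ({w} : Set G))
        rw [hw36] at this; exact this
      refine (Nat.Coprime.dvd_of_dvd_mul_left ?_ hdvd)
      have h2 : ¬ 2 ∣ Nat.card K := by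
        intro h2
        haveI : Fact (Nat.Prime 2) := ⟨Nat.prime_two⟩
        obtain ⟨s, hs⟩ := exists_prime_orderOf_dvd_card' (G := K) 2 h2
        have hso : orderOf (s : G) = 2 := by rw [Subgroup.orderOf_coe]; exact hs
        obtain ⟨hsw, hsl⟩ := Subgroup.mem_inf.mp s.2
        exact hzt ((H.three_invol hzl hl hso ((memCl _).mp hsl)).trans
          (AW.invol _ hso (Subgroup.mem_centralizer_singleton_iff.mp hsw).symm).symm)
      exact (Nat.Coprime.pow_right 2 (Nat.prime_two.coprime_iff_not_dvd.mpr h2).symm :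
        Nat.Coprime (Nat.card K) (2 ^ 2))
    have h54 : Nat.card R1 ≤ 54 := by
      rw [← S1875.card_class wR]
      exact (Nat.mul_le_mul hcls hcent).trans (by norm_num)
    have hi : ((S : Subgroup Cl).subgroupOf R1).index = 2 := by
      have h1 := ((S : Subgroup Cl).subgroupOf R1).card_mul_index
      rw [Nat.card_congr (Subgroup.subgroupOfEquivOfLe hSR).toEquiv, hS27] at h1
      have h2 : 2 ∣ Nat.card R1 := by
        have := orderOf_dvd_natCard (⟨vC, hvR⟩ : R1)
        rwa [Subgroup.orderOf_mk, hvo] at this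
      have hpos : 0 < Nat.card R1 := Nat.card_pos
      omega
    haveI := Subgroup.normal_of_index_eq_two hi
    exact (Subgroup.normal_subgroupOf_iff_le_normalizer hSR).mp inferInstance hvR
  set NS3 := Subgroup.normalizer ((S : Subgroup Cl) : Set Cl) with hNS3
  have hNS108 : Nat.card NS3 = 108 := by
    have h1 := NS3.card_mul_index
    rw [hl1080] at h1
    have hn : NS3.index % 3 = 1 := by
      have := card_sylow_modEq_one 3 Cl
      rwa [Sylow.card_eq_index_normalizer S] at this
    have h2 : 2 ∣ Nat.card NS3 := by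
      have := orderOf_dvd_natCard (⟨vC, hvN⟩ : NS3)
      rwa [Subgroup.orderOf_mk, hvo] at this
    have h27 : 27 ∣ Nat.card NS3 := hS27 ▸ Subgroup.card_dvd_of_le Subgroup.le_normalizer
    have h5 : ¬ 5 ∣ Nat.card NS3 := by
      intro h5
      refine hno5 (h5.trans ?_)
      have hle : NS3.map Cl.subtype ≤ N := by
        rintro _ ⟨n, hn, rfl⟩
        refine mem_normalizer_of_map fun q hq => ?_
        rw [← hPP] at hq ⊢
        obtain ⟨r, hr, rfl⟩ := hq
        exact ⟨n * r * n⁻¹, (Subgroup.mem_normalizer_iff.mp hn r).mp hr, rfl⟩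
      have := Subgroup.card_dvd_of_le hle
      rwa [Subgroup.card_map_of_injective Cl.subtype_injective] at this
    obtain ⟨m, hm⟩ := Nat.Coprime.mul_dvd_of_dvd_of_dvd (by norm_num : Nat.Coprime 2 27) h2 h27
    rw [hm] at h1 h5
    have hm20 : m * NS3.index = 20 := by
      have : 54 * (m * NS3.index) = 54 * 20 := by rw [← mul_assoc]; linarith
      omega
    have hmle : m ≤ 20 := Nat.le_of_dvd (by norm_num) ⟨_, hm20.symm⟩
    have hmd : m ∣ 20 := ⟨_, hm20.symm⟩
    have h5m : ¬ 5 ∣ m := fun h => h5 (Dvd.dvd.mul_left h 54)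
    rw [hm]
    interval_cases m <;> omega
  -- the normalizer in `G`
  let lN : N := ⟨l, Subgroup.le_normalizer hlP⟩
  have hZ : ∀ a : G, a ∈ (P : Subgroup G) → (∀ p ∈ (P : Subgroup G), Commute a p) → a ∈ Subgroup.zpowers l := by
    intro a ha hc
    have hlZ : (⟨l, hlP⟩ : (P : Subgroup G)) ∈ Subgroup.center (P : Subgroup G) :=
      Subgroup.mem_center_iff.mpr fun p => Subtype.ext (hlc p p.2).eq.symm
    have heq : Subgroup.zpowers (⟨l, hlP⟩ : (P : Subgroup G)) = Subgroup.center (P : Subgroup G) := by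
      refine Subgroup.eq_of_le_of_card_ge (Subgroup.zpowers_le.mpr hlZ) ?_
      rw [(hext P).2, Nat.card_zpowers, Subgroup.orderOf_mk, hl]
    have hm : (⟨a, ha⟩ : (P : Subgroup G)) ∈ Subgroup.zpowers (⟨l, hlP⟩ : (P : Subgroup G)) :=
      heq ▸ Subgroup.mem_center_iff.mpr fun p => Subtype.ext (hc p p.2).eq.symm
    obtain ⟨k, hk⟩ := Subgroup.mem_zpowers_iff.mp hm
    exact ⟨k, congrArg Subtype.val hk⟩
  obtain ⟨g0, hg0⟩ := H.three_inverted hzl hl
  have hcentN : Nat.card ↥(Subgroup.centralizer ({lN} : Set N)) = 108 := by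
    rw [← hNS108]
    exact Nat.card_congr
      { toFun := fun a => ⟨⟨((a.1 : N) : G), (memCl _).mpr (congrArg Subtype.val
            (Subgroup.mem_centralizer_singleton_iff.mp a.2)).symm⟩, mem_normalizer_of_map fun q hq => by
          have : ((a.1 : N) : G) * (q : G) * ((a.1 : N) : G)⁻¹ ∈ (P : Subgroup G) :=
            (Subgroup.mem_normalizer_iff.mp (a.1 : N).2 _).mp (hPP ▸ ⟨q, hq, rfl⟩)
          rw [← hPP] at this
          obtain ⟨r, hr, hrq⟩ := this
          refine Set.mem_of_eq_of_mem (s := ((S : Subgroup Cl) : Set Cl)) ?_ hr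
          apply Subtype.ext
          exact hrq.symm⟩
        invFun := fun a => ⟨⟨((a.1 : Cl) : G), mem_normalizer_of_map fun q hq => by
          rw [← hPP] at hq ⊢
          obtain ⟨r, hr, rfl⟩ := hq
          exact ⟨(a.1 : Cl) * r * (a.1 : Cl)⁻¹, (Subgroup.mem_normalizer_iff.mp a.2 r).mp hr, rfl⟩⟩,
          Subgroup.mem_centralizer_singleton_iff.mpr (Subtype.ext ((memCl _).mp (a.1 : Cl).2).eq.symm)⟩
        left_inv := fun _ => rfl
        right_inv := fun _ => rfl }
  obtain ⟨gi, hgiN, hgi⟩ : ∃ g, g ∈ N ∧ g * l * g⁻¹ = l⁻¹ := by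
    have hgCl : ∀ c : Cl, g0 * (c : G) * g0⁻¹ ∈ Cl := fun c => (memCl _).mpr (by
      have := conj_commute ((memCl _).mp c.2) g0
      rw [hg0] at this
      simpa using this.inv_left)
    let α : Cl →* Cl := MonoidHom.mk' (fun c => ⟨_, hgCl c⟩) fun a b => Subtype.ext (by simp [mul_assoc])
    have hαinj : Function.Injective α := fun a b e =>
      Subtype.ext (mul_left_cancel (mul_right_cancel (congrArg Subtype.val e)))
    have hαcard : Nat.card ((S : Subgroup Cl).map α) = 27 := by rw [Subgroup.card_map_of_injective hαinj, hS27]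
    obtain ⟨S', hS'⟩ := (IsPGroup.of_card (p := 3) (n := 3) (G := ↥((S : Subgroup Cl).map α))
      (by rw [hαcard]; norm_num)).exists_le_sylow
    have hS'c : Nat.card (S' : Subgroup Cl) = 27 := by
      rw [Sylow.card_eq_multiplicity, ← hS27, Sylow.card_eq_multiplicity]
    obtain ⟨c, hc⟩ := MulAction.exists_smul_eq Cl S' S
    refine ⟨(c : G) * g0, mem_normalizer_of_map fun q hq => ?_, ?_⟩
    · rw [← hPP] at hq ⊢
      obtain ⟨r, hr, rfl⟩ := hq
      refine ⟨c * α r * c⁻¹, ?_, by simp [α, mul_assoc]⟩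
      rw [← hc, Sylow.smul_def, Sylow.pointwise_smul_def]
      exact Subgroup.smul_mem_pointwise_smul _ (MulAut.conj c) _ (hS' ⟨r, hr, rfl⟩)
    · calc (c : G) * g0 * l * ((c : G) * g0)⁻¹ = (c : G) * (g0 * l * g0⁻¹) * (c : G)⁻¹ := by group
        _ = (c : G) * l⁻¹ * (c : G)⁻¹ := by rw [hg0]
        _ = l⁻¹ := by rw [((memCl _).mp c.2).inv_left.eq.symm, mul_inv_cancel_right]
  have hline : l ≠ l⁻¹ := fun e => by
    have h2 : l ^ 2 = 1 := by rw [pow_two]; nth_rewrite 2 [e]; exact mul_inv_cancel l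
    have := orderOf_dvd_of_pow_eq_one h2
    rw [hl] at this; norm_num at this
  have hNcard : Nat.card N = 216 := by
    have hcls : Nat.card {b : N // IsConj lN b} = 2 := by
      have hval : ∀ b : {b : N // IsConj lN b}, ((b.1 : N) : G) = l ∨ ((b.1 : N) : G) = l⁻¹ := by
        rintro ⟨b, hb⟩
        obtain ⟨d, hd⟩ := isConj_iff.mp hb
        have hd' : (d : G) * l * (d : G)⁻¹ = (b : G) := congrArg Subtype.val hd
        have hbm : (b : G) ∈ Subgroup.zpowers l := by
          refine hZ _ ?_ fun p hp => ?_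
          · rw [← hd']; exact (Subgroup.mem_normalizer_iff.mp d.2 l).mp hlP
          · have hp' : (d : G)⁻¹ * p * (d : G) ∈ (P : Subgroup G) := by
              refine (Subgroup.mem_normalizer_iff.mp d.2 _).mpr ?_
              simpa [mul_assoc] using hp
            have := conj_commute (hlc _ hp') (d : G)
            rw [hd'] at this
            simpa [mul_assoc] using this
        rw [mem_zpowers_iff_mem_range_orderOf, hl, Finset.mem_image] at hbm
        obtain ⟨k, hk, hk'⟩ := hbm
        rw [Finset.mem_range] at hk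
        interval_cases k
        · exfalso
          rw [pow_zero] at hk'
          rw [← hk', conj_eq_one_iff] at hd'
          rw [hd', orderOf_one] at hl; omega
        · exact Or.inl (by rw [← hk', pow_one])
        · exact Or.inr (by rw [← hk']; exact eq_inv_of_mul_eq_one_left (by rw [← pow_succ]; exact hl3))
      refine le_antisymm ?_ ?_
      · let f : {b : N // IsConj lN b} → Fin 2 := fun b => if ((b.1 : N) : G) = l then 0 else 1
        have hf : Function.Injective f := by
          intro a b e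
          refine Subtype.ext (Subtype.ext ?_)
          rcases hval a with ha | ha <;> rcases hval b with hb | hb
          · rw [ha, hb]
          · simp [f, ha, hb, hline.symm] at e
          · simp [f, ha, hb, hline.symm] at e
          · rw [ha, hb]
        simpa using Nat.card_le_card_of_injective f hf
      · let k2 : Fin 2 → {b : N // IsConj lN b} := ![⟨lN, IsConj.refl _⟩,
          ⟨(⟨gi, hgiN⟩ : N) * lN * (⟨gi, hgiN⟩ : N)⁻¹, isConj_iff.mpr ⟨⟨gi, hgiN⟩, rfl⟩⟩]
        have hk : Function.Injective k2 := by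
          intro a b e
          have e' := congrArg (fun c : {b : N // IsConj lN b} => ((c.1 : N) : G)) e
          fin_cases a <;> fin_cases b
          · rfl
          · exact absurd (show l = l⁻¹ from e'.trans hgi) hline
          · exact absurd (show l⁻¹ = l from hgi.symm.trans e').symm hline
          · rfl
        simpa using Nat.card_le_card_of_injective k2 hk
    have h1 := S1875.card_class lN
    rw [hcls, hcentN] at h1
    omega
  have hN216 : ∀ R : Sylow 3 G, Nat.card ↥(Subgroup.normalizer ((R : Subgroup G) : Set G)) = 216 := by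
    intro R
    have h1 := (Subgroup.normalizer ((R : Subgroup G) : Set G)).card_mul_index
    have h2 := N.card_mul_index
    rw [show (Subgroup.normalizer ((R : Subgroup G) : Set G)).index = Nat.card (Sylow 3 G) from
      (Sylow.card_eq_index_normalizer R).symm] at h1
    rw [show N.index = Nat.card (Sylow 3 G) from (Sylow.card_eq_index_normalizer P).symm, hNcard] at h2
    rw [← h2] at h1
    exact Nat.eq_of_mul_eq_mul_right Nat.card_pos h1
  refine ⟨fun R => (hext R).1, hsyl, hN216, l, w, hl, AW.order, ?_, hl1080, hw36, ?_⟩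
  · intro h
    obtain ⟨d, hd⟩ := isConj_iff.mp h
    have := card_cent_conj d l
    rw [hd, hw36, ← hCl, hl1080] at this
    omega
  -- the classes
  intro c0 hc0
  obtain ⟨g, hgc⟩ := exists_conj_mem_sylow P hc0
  have hback : IsConj c0 (g * c0 * g⁻¹) := isConj_iff.mpr ⟨g, rfl⟩
  have hco : orderOf (g * c0 * g⁻¹) = 3 := by rw [← MulAut.conj_apply, MulEquiv.orderOf_eq]; exact hc0
  set c := g * c0 * g⁻¹ with hcdef
  clear_value c
  suffices IsConj c l ∨ IsConj c w from this.imp hback.trans hback.trans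
  -- powers of `l`
  have hpowl : ∀ a : G, orderOf a = 3 → ∀ d : G, d * a * d⁻¹ ∈ Subgroup.zpowers l → IsConj a l := by
    intro a ha d hd
    rw [mem_zpowers_iff_mem_range_orderOf, hl, Finset.mem_image] at hd
    obtain ⟨k, hk, hk'⟩ := hd
    rw [Finset.mem_range] at hk
    interval_cases k
    · exfalso
      rw [pow_zero, eq_comm, conj_eq_one_iff] at hk'
      rw [hk', orderOf_one] at ha; omega
    · exact isConj_iff.mpr ⟨d, by rw [← hk', pow_one]⟩
    · refine (isConj_iff.mpr ⟨d, hk'.symm⟩ : IsConj a (l ^ 2)).trans ?_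
      rw [show l ^ 2 = l⁻¹ from eq_inv_of_mul_eq_one_left (by rw [← pow_succ]; exact hl3)]
      exact (isConj_iff.mpr ⟨g0, hg0⟩).symm
  by_cases hcz : c ∈ Subgroup.zpowers l
  · exact Or.inl (hpowl c hco 1 (by simpa using hcz))
  let cN : N := ⟨c, Subgroup.le_normalizer hgc⟩
  set CN := Subgroup.centralizer ({cN} : Set N) with hCN
  have hP27N : Nat.card ((P : Subgroup G).subgroupOf N) = 27 := by
    rw [Nat.card_congr (Subgroup.subgroupOfEquivOfLe Subgroup.le_normalizer).toEquiv, hsyl]
  by_cases heven : 2 ∣ Nat.card CN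
  · haveI : Fact (Nat.Prime 2) := ⟨Nat.prime_two⟩
    obtain ⟨s0, hs0⟩ := exists_prime_orderOf_dvd_card' (G := CN) 2 heven
    set s : G := ((s0 : N) : G) with hs
    have hso : orderOf s = 2 := by rw [hs, Subgroup.orderOf_coe, Subgroup.orderOf_coe]; exact hs0
    have hsc : Commute s c := congrArg Subtype.val (Subgroup.mem_centralizer_singleton_iff.mp s0.2)
    rcases D.all s hso with hsz | hst
    · left
      obtain ⟨d, hd⟩ := isConj_iff.mp hsz.symm
      have hzc : Commute z (d * c * d⁻¹) := hd ▸ conj_commute hsc d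
      have hdo : orderOf (d * c * d⁻¹) = 3 := by rw [← MulAut.conj_apply, MulEquiv.orderOf_eq]; exact hco
      obtain ⟨f, hf⟩ := H.three_conj hzl hl hzc hdo
      exact hpowl c hco (f * d) (by simpa [mul_assoc] using hf)
    · right
      obtain ⟨d, hd⟩ := isConj_iff.mp hst.symm
      have htc : Commute t (d * c * d⁻¹) := hd ▸ conj_commute hsc d
      have hdo : orderOf (d * c * d⁻¹) = 3 := by rw [← MulAut.conj_apply, MulEquiv.orderOf_eq]; exact hco
      set a := d * c * d⁻¹ with ha
      have haVM : a ∈ V ⊔ M := T.sup.symm ▸ Subgroup.mem_centralizer_singleton_iff.mpr htc.eq.symm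
      have hle' : M ≤ Subgroup.normalizer (V : Set G) := fun m hm =>
        (Subgroup.centralizer_le_normalizer _) (Subgroup.mem_centralizer_iff.mpr fun v hv => (T.comm hv hm).eq)
      rw [← SetLike.mem_coe, Subgroup.coe_mul_of_right_le_normalizer_left V M hle'] at haVM
      obtain ⟨v, hv, m, hm, hvm⟩ := haVM
      have hvm' : v * m = a := hvm
      have ha3 : (v * m) ^ 3 = 1 := by rw [hvm', ← hdo, pow_orderOf_eq_one]
      rw [(T.comm hv hm).mul_pow] at ha3
      have hv3 : v ^ 3 ∈ V ⊓ M := Subgroup.mem_inf.mpr ⟨pow_mem hv 3,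
        eq_inv_of_mul_eq_one_left ha3 ▸ inv_mem (pow_mem hm 3)⟩
      rw [T.inf, Subgroup.mem_bot] at hv3
      have hv1 : v = 1 := by
        calc v = v ^ 3 * (v * v)⁻¹ := by group
          _ = 1 := by rw [hv3, T.sq_V v hv]; group
      rw [hv1, one_mul] at hvm'
      have hm' : a ∈ M := hvm' ▸ hm
      refine (isConj_iff.mpr ⟨d, rfl⟩ : IsConj c a).trans ?_
      obtain ⟨p1, hp1⟩ := A5.three_conj (φ ⟨a, hm'⟩) (A5.three_of_order (by
        rw [MulEquiv.orderOf_eq, Subgroup.orderOf_mk]; exact hdo))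
      obtain ⟨p2, hp2⟩ := A5.three_conj (φ ⟨w, hwM.mem⟩) (A5.three_of_order (by
        rw [MulEquiv.orderOf_eq, Subgroup.orderOf_mk]; exact AW.order))
      refine isConj_iff.mpr ⟨((φ.symm (p2 * p1⁻¹) : M) : G), ?_⟩
      have e : φ.symm (p2 * p1⁻¹) * ⟨a, hm'⟩ * (φ.symm (p2 * p1⁻¹))⁻¹ = (⟨w, hwM.mem⟩ : M) := by
        apply φ.injective
        rw [map_mul, map_mul, map_inv, φ.apply_symm_apply, ← hp1, ← hp2]
        group
      exact congrArg Subtype.val e
  · -- the centralizer in `N` is small, so `c` meets every noncentral element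
    right
    have h9 : Nat.card CN ≤ 9 := by
      have hd : Nat.card CN ∣ 8 * 27 := by
        have := Subgroup.card_subgroup_dvd_card CN
        rw [hNcard] at this; exact this
      have h27 : Nat.card CN ∣ 27 := Nat.Coprime.dvd_of_dvd_mul_left
        (Nat.Coprime.pow_right 3 (Nat.prime_two.coprime_iff_not_dvd.mpr heven).symm : Nat.Coprime (Nat.card CN) (2 ^ 3)) hd
      obtain ⟨j, hj, e⟩ := (Nat.dvd_prime_pow Nat.prime_three).mp (show Nat.card CN ∣ 3 ^ 3 from h27)
      rw [e]
      rcases (show j ≤ 2 ∨ j = 3 by omega) with hj' | rfl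
      · calc 3 ^ j ≤ 3 ^ 2 := Nat.pow_le_pow_right (by norm_num) hj'
          _ = 9 := by norm_num
      · exfalso
        apply hcz
        refine hZ c hgc fun p hp => ?_
        haveI : ((P : Subgroup G).subgroupOf N).Normal := Subgroup.normal_in_normalizer
        obtain ⟨U, hU⟩ := (IsPGroup.of_card (p := 3) (n := 3) (G := CN) e).exists_le_sylow
        have hPu : (P : Subgroup G).subgroupOf N ≤ U :=
          IsPGroup.le_sylow_of_normal (IsPGroup.of_card (n := 3) (by rw [hP27N]; norm_num)) U
        have hU27 : Nat.card (U : Subgroup N) = 27 := by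
          rw [Sylow.card_eq_multiplicity, hNcard, show (216 : ℕ) = 3 ^ 3 * 8 by norm_num,
            Nat.factorization_mul_apply_of_coprime (by norm_num), Nat.Prime.factorization_pow (by norm_num),
            Nat.factorization_eq_zero_of_not_dvd (show ¬ (3 : ℕ) ∣ 8 by norm_num)]
          simp
        have hUeq : CN = U := Subgroup.eq_of_le_of_card_ge hU (by rw [hU27, e]; norm_num)
        have hpC : (⟨p, Subgroup.le_normalizer hp⟩ : N) ∈ CN := hUeq ▸ hPu hp
        exact (congrArg Subtype.val (Subgroup.mem_centralizer_singleton_iff.mp hpC) : p * c = c * p).symm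
    have h24 : 24 ≤ Nat.card {b : N // IsConj cN b} := by
      have h1 := S1875.card_class cN
      rw [← hCN, hNcard] at h1
      by_contra hlt
      have h2 : Nat.card {b : N // IsConj cN b} * Nat.card CN ≤ 23 * 9 :=
        Nat.mul_le_mul (by omega) h9
      omega
    letI := Fintype.ofFinite N
    set T24 : Finset N := Finset.univ.filter fun b : N => (b : G) ∈ (P : Subgroup G) ∧ (b : G) ∉ Subgroup.zpowers l
      with hT24
    set Kc : Finset N := Finset.univ.filter fun b : N => IsConj cN b with hKc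
    have hKsub : Kc ⊆ T24 := by
      intro b hb
      obtain ⟨d, hd⟩ := isConj_iff.mp (Finset.mem_filter.mp hb).2
      have hd' : (d : G) * c * (d : G)⁻¹ = (b : G) := congrArg Subtype.val hd
      refine Finset.mem_filter.mpr ⟨Finset.mem_univ _,
        hd' ▸ (Subgroup.mem_normalizer_iff.mp d.2 c).mp hgc, fun hbz => hcz ?_⟩
      have hdd : (d : G)⁻¹ * (b : G) * (d : G) = c := by rw [← hd']; group
      have hbP : (b : G) ∈ (P : Subgroup G) := hd' ▸ (Subgroup.mem_normalizer_iff.mp d.2 c).mp hgc
      refine hZ c hgc fun p hp => ?_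
      have hp' : (d : G) * p * (d : G)⁻¹ ∈ (P : Subgroup G) := (Subgroup.mem_normalizer_iff.mp d.2 p).mp hp
      obtain ⟨k, hk⟩ := Subgroup.mem_zpowers_iff.mp hbz
      have := conj_commute ((hk ▸ (hlc _ hp').zpow_left k) : Commute (b : G) _) (d : G)⁻¹
      simpa [hdd, mul_assoc] using this
    have hT : T24.card + 3 = 27 := by
      have e1 := Finset.card_filter_add_card_filter_not
        (s := Finset.univ.filter fun b : N => (b : G) ∈ (P : Subgroup G))
        (fun b : N => (b : G) ∈ Subgroup.zpowers l)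
      rw [Finset.filter_filter, Finset.filter_filter, ← hT24] at e1
      have eP : (Finset.univ.filter fun b : N => (b : G) ∈ (P : Subgroup G)).card = 27 := by
        rw [← Fintype.card_subtype, ← Nat.card_eq_fintype_card]; exact hP27N
      have el : (Finset.univ.filter fun b : N => (b : G) ∈ (P : Subgroup G) ∧ (b : G) ∈ Subgroup.zpowers l).card = 3 := by
        rw [← Fintype.card_subtype, ← Nat.card_eq_fintype_card]
        have hle : Subgroup.zpowers l ≤ N := Subgroup.zpowers_le.mpr (Subgroup.le_normalizer hlP)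
        rw [Nat.card_congr (Equiv.subtypeEquivRight (q := fun b : N => b ∈ (Subgroup.zpowers l).subgroupOf N)
          (fun b => ⟨fun h => h.2, fun h => ⟨(Subgroup.zpowers_le.mpr hlP) h, h⟩⟩)),
          show Nat.card {b : N // b ∈ (Subgroup.zpowers l).subgroupOf N} = Nat.card ↥((Subgroup.zpowers l).subgroupOf N) from rfl,
          Nat.card_congr (Subgroup.subgroupOfEquivOfLe hle).toEquiv, Nat.card_zpowers, hl]
      omega
    have heq : Kc = T24 := Finset.eq_of_subset_of_card_le hKsub (by
      have : Kc.card = Nat.card {b : N // IsConj cN b} := by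
        rw [Nat.card_eq_fintype_card, Fintype.card_subtype]
      omega)
    have hwl : w ∉ Subgroup.zpowers l := fun hwl => by
      obtain ⟨i, hi⟩ := Subgroup.mem_zpowers_iff.mp hwl
      have := Subgroup.mem_inf.mpr ⟨(hi ▸ Subgroup.zpow_mem L hlL i : w ∈ L), hwM.mem⟩
      rw [NS.inf, Subgroup.mem_bot] at this
      have hh := AW.order
      rw [this, orderOf_one] at hh; omega
    have hwK : (⟨w, Subgroup.le_normalizer hwP⟩ : N) ∈ Kc :=
      heq ▸ Finset.mem_filter.mpr ⟨Finset.mem_univ _, hwP, hwl⟩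
    obtain ⟨d, hd⟩ := isConj_iff.mp (Finset.mem_filter.mp hwK).2
    exact isConj_iff.mpr ⟨(d : G), congrArg Subtype.val hd⟩

end HJG

end Cfsg.Agent.J2Order38
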